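import Cfsg.Agent.Lib.Small.Orders6232.Tools
import Cfsg.Agent.Lib.Involutions.Dihedral
import Cfsg.Agent.Lib.BrauerSuzuki.Isolated

/-!
Sylow 2-subgroups of order eight in a simple group: dihedral, or elementary abelian with a transitive
normalizer.
-/

set_option autoImplicit false
set_option linter.unusedSectionVars false
set_option linter.style.haveILetI false

namespace Cfsg.Agent.Ord3640

variable {G : Type*} [Group G] [Finite G]

/-- A nonabelian group of order eight with an involution outside a cyclic subgroup of order four is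
dihedral; otherwise it has one involution. -/
theorem dihedral_or_unique (T : Subgroup G) (hT : Nat.card T = 8)
    (hab : ¬ ∀ a ∈ T, ∀ b ∈ T, a * b = b * a) :
    Nonempty (T ≃* DihedralGroup 4) ∨ ∃ z : G, orderOf z = 2 ∧ ∀ w ∈ T, orderOf w = 2 → w = z := by
  classical
  obtain ⟨r, hrT, hr⟩ : ∃ r ∈ T, orderOf r = 4 := by
    by_contra hno
    push Not at hno
    refine hab fun a ha b hb => ?_
    have hord : ∀ w ∈ T, orderOf w ∣ 8 := fun w hw => hT ▸ Subgroup.orderOf_dvd_natCard T hw
    have hex : ∀ w ∈ T, w * w = 1 := by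
      intro w hw
      obtain ⟨k, hk, he⟩ := (Nat.dvd_prime_pow Nat.prime_two).1 (show orderOf w ∣ 2 ^ 3 by simpa using hord w hw)
      have := pow_orderOf_eq_one w
      interval_cases k <;> rw [he] at this
      · simp_all
      · simpa [pow_two] using this
      · exact absurd (by simpa using he) (hno w hw)
      · have h4 : orderOf (w ^ 2) = 4 := by
          rw [orderOf_pow, he]; norm_num
        exact absurd h4 (hno _ (pow_mem hw 2))
    have hinv : ∀ w ∈ T, w⁻¹ = w := fun w hw => inv_eq_of_mul_eq_one_right (hex w hw)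
    calc a * b = (a * b)⁻¹ := (hinv _ (mul_mem ha hb)).symm
      _ = b * a := by rw [mul_inv_rev, hinv a ha, hinv b hb]
  set R := Subgroup.zpowers r with hR
  have hRT : R ≤ T := Subgroup.zpowers_le.2 hrT
  have hRc : Nat.card R = 4 := by rw [Nat.card_zpowers, hr]
  have hidx : (R.subgroupOf T).index = 2 := by
    have := (R.subgroupOf T).card_mul_index
    rw [Nat.card_congr (Subgroup.subgroupOfEquivOfLe hRT).toEquiv, hRc, hT] at this
    omega
  have hsq : orderOf (r ^ 2) = 2 := by rw [orderOf_pow, hr]; norm_num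
  by_cases hx : ∃ x ∈ T, orderOf x = 2 ∧ x ∉ R
  swap
  · right
    refine ⟨r ^ 2, hsq, fun w hw hwo => ?_⟩
    push Not at hx
    obtain ⟨k, hk⟩ := Subgroup.mem_zpowers_iff.1 (hx w hw hwo)
    have hk' : w = r ^ (k % 4) := by
      rw [← hk, show (4 : ℤ) = ((orderOf r : ℕ) : ℤ) by rw [hr]; rfl, zpow_mod_orderOf]
    have hlo := Int.emod_nonneg k (show (4 : ℤ) ≠ 0 by norm_num)
    have hhi := Int.emod_lt_of_pos k (show (0 : ℤ) < 4 by norm_num)
    obtain e | e | e | e : k % 4 = 0 ∨ k % 4 = 1 ∨ k % 4 = 2 ∨ k % 4 = 3 := by omega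
    · rw [e, zpow_zero] at hk'; rw [hk', orderOf_one] at hwo; omega
    · rw [e, zpow_one] at hk'; rw [hk', hr] at hwo; omega
    · rw [hk', e]; norm_cast
    · rw [hk', e] at hwo
      have h3 : orderOf (r ^ 3) = 2 := by exact_mod_cast hwo
      rw [orderOf_pow, hr] at h3; norm_num at h3
  left
  obtain ⟨x, hxT, hxo, hxR⟩ := hx
  have hconj : x * r * x⁻¹ ∈ R := by
    haveI := Subgroup.normal_of_index_eq_two hidx
    exact (this.conj_mem ⟨r, hrT⟩ (Subgroup.mem_zpowers r) ⟨x, hxT⟩)
  have hxi : x⁻¹ = x := inv_eq_of_mul_eq_one_right (Invol.mul_self hxo)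
  have hr4 : r ^ 4 = 1 := hr ▸ pow_orderOf_eq_one r
  obtain hc | hc : x * r * x⁻¹ = r ∨ x * r * x⁻¹ = r⁻¹ := by
    obtain ⟨k, hk⟩ := Subgroup.mem_zpowers_iff.1 hconj
    have hk' : x * r * x⁻¹ = r ^ (k % 4) := by
      rw [← hk, show (4 : ℤ) = ((orderOf r : ℕ) : ℤ) by rw [hr]; rfl, zpow_mod_orderOf]
    have ho : orderOf (r ^ (k % 4)) = 4 := by rw [← hk', Invol.order_conj, hr]
    have hlo := Int.emod_nonneg k (show (4 : ℤ) ≠ 0 by norm_num)
    have hhi := Int.emod_lt_of_pos k (show (0 : ℤ) < 4 by norm_num)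
    obtain e | e | e | e : k % 4 = 0 ∨ k % 4 = 1 ∨ k % 4 = 2 ∨ k % 4 = 3 := by omega
    · rw [e, zpow_zero, orderOf_one] at ho; omega
    · exact Or.inl (by rw [hk', e, zpow_one])
    · rw [e] at ho
      have h2 : orderOf (r ^ 2) = 4 := by exact_mod_cast ho
      omega
    · refine Or.inr ?_
      rw [hk', e, eq_inv_iff_mul_eq_one]
      have : r ^ (3 : ℤ) * r = r ^ 4 := by rw [show (3 : ℤ) = ((3 : ℕ) : ℤ) from rfl, zpow_natCast, ← pow_succ]
      rw [this, hr4]
  · exfalso
    refine hab fun a ha b hb => ?_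
    have hcomm : Commute x r := by
      have h := congrArg (· * x) hc
      simpa [Commute, SemiconjBy, mul_assoc] using h
    have hel : ∀ c ∈ T, ∃ i : ℕ, ∃ k : ℤ, c = x ^ i * r ^ k := by
      intro c hcT
      by_cases hcR : c ∈ R
      · obtain ⟨k, hk⟩ := Subgroup.mem_zpowers_iff.1 hcR
        exact ⟨0, k, by rw [pow_zero, one_mul, hk]⟩
      · have h1 : x * c ∈ R := by
          have := (Subgroup.mul_mem_iff_of_index_two hidx (a := (⟨x, hxT⟩ : T)) (b := ⟨c, hcT⟩)).2
            (iff_of_false (fun h => hxR (Subgroup.mem_subgroupOf.1 h)) fun h => hcR (Subgroup.mem_subgroupOf.1 h))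
          exact Subgroup.mem_subgroupOf.1 this
        obtain ⟨k, hk⟩ := Subgroup.mem_zpowers_iff.1 h1
        exact ⟨1, k, by rw [hk, pow_one, ← mul_assoc, Invol.mul_self hxo, one_mul]⟩
    obtain ⟨i, k, rfl⟩ := hel a ha
    obtain ⟨j, l, rfl⟩ := hel b hb
    have h1 : Commute (x ^ i) (x ^ j * r ^ l) :=
      (Commute.pow_pow_self x i j).mul_right ((hcomm.pow_left i).zpow_right l)
    have h2 : Commute (r ^ k) (x ^ j * r ^ l) :=
      ((hcomm.pow_left j).zpow_right k).symm.mul_right (Commute.zpow_zpow_self r k l)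
    exact (h1.mul_left h2).eq
  · have hyo : orderOf (x * r) = 2 := by
      have hyy : (x * r) ^ 2 = 1 := by
        rw [pow_two, ← mul_assoc, show x * r * x = r⁻¹ by rw [← hc, hxi], inv_mul_cancel]
      refine orderOf_eq_prime hyy fun e => hxR ?_
      rw [mul_eq_one_iff_eq_inv.1 e]
      exact inv_mem (Subgroup.mem_zpowers r)
    have hxy : x * (x * r) = r := by rw [← mul_assoc, Invol.mul_self hxo, one_mul]
    have hne : x ≠ x * r := fun e => by
      have := mul_eq_left.1 e.symm
      rw [this, orderOf_one] at hr; omega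
    have hle : (Invol.dihHom hxo hyo).range ≤ T := by
      rw [Invol.dihHom_range, Subgroup.closure_le]
      rintro w (rfl | rfl)
      exacts [hxT, mul_mem hxT hrT]
    have hinj := Invol.dihHom_injective hxo hyo hne
    have hcard : Nat.card (Invol.dihHom hxo hyo).range = 8 := by
      rw [Nat.card_congr (MonoidHom.ofInjective hinj).toEquiv.symm, DihedralGroup.nat_card, hxy, hr]
    have e := Subgroup.eq_of_le_of_card_ge hle (by rw [hcard, hT])
    have h4 : orderOf (x * (x * r)) = 4 := by rw [hxy, hr]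
    rw [← h4]
    exact ⟨(MulEquiv.subgroupCongr e.symm).trans (MonoidHom.ofInjective hinj).symm⟩

/-- In a simple group a Sylow 2-subgroup of order eight is dihedral, or elementary abelian with all its
involutions conjugate in its normalizer, whose order is then divisible by seven. -/
theorem eight_cases [IsSimpleGroup G] (hG : ¬ IsMulCommutative G) (T : Sylow 2 G)
    (hT : Nat.card (T : Subgroup G) = 8) :
    Nonempty ((T : Subgroup G) ≃* DihedralGroup 4) ∨
      ((∀ a ∈ (T : Subgroup G), ∀ b ∈ (T : Subgroup G), a * b = b * a) ∧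
        (∀ a ∈ (T : Subgroup G), a ≠ 1 → orderOf a = 2) ∧
        7 ∣ Nat.card (Subgroup.normalizer ((T : Subgroup G) : Set G)) ∧
        ∀ a ∈ (T : Subgroup G), ∀ b ∈ (T : Subgroup G), a ≠ 1 → b ≠ 1 →
          ∃ n ∈ Subgroup.normalizer ((T : Subgroup G) : Set G), n * a * n⁻¹ = b) := by
  classical
  haveI : Fact (Nat.Prime 2) := ⟨Nat.prime_two⟩
  by_cases hab : ∀ a ∈ (T : Subgroup G), ∀ b ∈ (T : Subgroup G), a * b = b * a
  swap
  · refine Or.inl ?_
    rcases dihedral_or_unique (T : Subgroup G) hT hab with h | ⟨z, hz, hu⟩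
    · exact h
    exfalso
    obtain ⟨w, hw⟩ := exists_prime_orderOf_dvd_card' (G := (T : Subgroup G)) 2 (by rw [hT]; norm_num)
    have hwo : orderOf (w : G) = 2 := by rw [Subgroup.orderOf_coe, hw]
    have hzT : z ∈ (T : Subgroup G) := hu _ w.2 hwo ▸ w.2
    exact Ord6232.not_isolated hG hz (BrauerSuzuki.isIsolated_of_sylow hz hzT
      fun g hg => hu _ hg ((Invol.order_conj g z).trans hz))
  right
  set N := Subgroup.normalizer ((T : Subgroup G) : Set G) with hN
  have h2 : 2 ∣ Nat.card G := (show 2 ∣ Nat.card (T : Subgroup G) by rw [hT]; norm_num).trans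
    (Subgroup.card_subgroup_dvd_card _)
  let X := {x : (T : Subgroup G) // x ≠ 1}
  letI act : MulAction N X :=
    { smul := fun n x => ⟨⟨(n : G) * (x.1 : G) * (n : G)⁻¹, (Subgroup.mem_normalizer_iff.1 n.2 _).1 x.1.2⟩,
        fun e => x.2 (Subtype.ext (conj_eq_one_iff.1 (congrArg Subtype.val e)))⟩
      one_smul := fun x => Subtype.ext (Subtype.ext (show (1 : G) * x.1 * 1⁻¹ = x.1 by simp))
      mul_smul := fun a b x => Subtype.ext (Subtype.ext
        (show ((a : G) * b) * x.1 * ((a : G) * b)⁻¹ = (a : G) * ((b : G) * x.1 * (b : G)⁻¹) * (a : G)⁻¹ by group)) }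
  letI := Fintype.ofFinite X
  have hX : Nat.card X = 7 := by
    have := Nat.card_congr (Equiv.optionSubtypeNe (1 : (T : Subgroup G)))
    rw [Finite.card_option, hT] at this
    have h' : Nat.card X + 1 = 8 := this
    omega
  -- every orbit has odd size at least three
  have horb : ∀ x : X, 3 ≤ Nat.card (MulAction.orbit N x) ∧ Odd (Nat.card (MulAction.orbit N x)) := by
    intro x
    have hst : Nat.card (MulAction.orbit N x) = (MulAction.stabilizer N x).index := by
      rw [MulAction.index_stabilizer, Set.ncard]; rfl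
    have hTle : (T : Subgroup G).subgroupOf N ≤ MulAction.stabilizer N x := by
      intro n hn
      refine MulAction.mem_stabilizer_iff.2 (Subtype.ext (Subtype.ext ?_))
      show (n : G) * x.1 * (n : G)⁻¹ = x.1
      rw [hab _ (Subgroup.mem_subgroupOf.1 hn) _ x.1.2, mul_inv_cancel_right]
    have hodd : Odd (MulAction.stabilizer N x).index := by
      rw [← Nat.not_even_iff_odd, even_iff_two_dvd]
      intro h
      have h1 := h.trans (Subgroup.index_dvd_of_le hTle)
      exact T.not_dvd_index (h1.trans (Subgroup.relIndex_dvd_index_of_le (Subgroup.le_normalizer (H := (T : Subgroup G)))))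
    refine ⟨?_, hst ▸ hodd⟩
    rw [hst]
    have h1 : (MulAction.stabilizer N x).index ≠ 1 := by
      intro h1
      have htop := Subgroup.index_eq_one.1 h1
      refine x.2 (Subtype.ext (Ord6232.focal_eq_one hG T hab x.1.2 fun n hn => ?_))
      have := congrArg (fun y : X => (y.1 : G)) (MulAction.mem_stabilizer_iff.1
        (htop ▸ Subgroup.mem_top (⟨n, hn⟩ : N) : (⟨n, hn⟩ : N) ∈ MulAction.stabilizer N x))
      exact mul_inv_eq_iff_eq_mul.1 this
    obtain ⟨k, hk⟩ := hodd
    omega
  have htrans : ∀ x : X, MulAction.orbit N x = Set.univ := by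
    intro x
    by_contra hne
    obtain ⟨y, hy⟩ : ∃ y, y ∉ MulAction.orbit N x := by
      by_contra h; push Not at h; exact hne (Set.eq_univ_of_forall h)
    have hd : Disjoint (MulAction.orbit N x) (MulAction.orbit N y) := by
      rw [Set.disjoint_left]
      intro w hwx hwy
      exact hy (MulAction.orbit_eq_iff.1 ((MulAction.orbit_eq_iff.2 hwy).symm.trans (MulAction.orbit_eq_iff.2 hwx)))
    obtain ⟨hx3, hxo⟩ := horb x
    obtain ⟨hy3, hyo⟩ := horb y
    have hsum : Nat.card (MulAction.orbit N x ∪ MulAction.orbit N y : Set X) =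
        Nat.card (MulAction.orbit N x) + Nat.card (MulAction.orbit N y) := by
      simp only [Nat.card_coe_set_eq]
      exact Set.ncard_union_eq hd
    by_cases huniv : MulAction.orbit N x ∪ MulAction.orbit N y = Set.univ
    · rw [huniv, Nat.card_coe_set_eq, Set.ncard_univ, hX] at hsum
      have := hxo.add_odd hyo
      rw [← hsum] at this
      exact absurd this (by decide)
    · obtain ⟨w, hw⟩ : ∃ w, w ∉ MulAction.orbit N x ∪ MulAction.orbit N y := by
        by_contra h; push Not at h; exact huniv (Set.eq_univ_of_forall h)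
      obtain ⟨hw3, -⟩ := horb w
      have hd2 : Disjoint (MulAction.orbit N x ∪ MulAction.orbit N y) (MulAction.orbit N w) := by
        rw [Set.disjoint_left]
        rintro v (hv | hv) hvw <;> refine hw ?_
        · exact Or.inl (MulAction.orbit_eq_iff.1 ((MulAction.orbit_eq_iff.2 hvw).symm.trans (MulAction.orbit_eq_iff.2 hv)))
        · exact Or.inr (MulAction.orbit_eq_iff.1 ((MulAction.orbit_eq_iff.2 hvw).symm.trans (MulAction.orbit_eq_iff.2 hv)))
      have hsum2 := Set.ncard_union_eq hd2
      have hle2 := Set.ncard_le_card ((MulAction.orbit N x ∪ MulAction.orbit N y) ∪ MulAction.orbit N w)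
      simp only [Nat.card_coe_set_eq] at hsum hw3 hx3 hy3
      rw [hX] at hle2
      omega
  have hconj : ∀ a ∈ (T : Subgroup G), ∀ b ∈ (T : Subgroup G), a ≠ 1 → b ≠ 1 → ∃ n ∈ N, n * a * n⁻¹ = b := by
    intro a ha b hb ha1 hb1
    let xa : X := ⟨⟨a, ha⟩, fun e => ha1 (congrArg Subtype.val e)⟩
    let xb : X := ⟨⟨b, hb⟩, fun e => hb1 (congrArg Subtype.val e)⟩
    obtain ⟨n, hn⟩ : xb ∈ MulAction.orbit N xa := by rw [htrans]; trivial
    exact ⟨n, n.2, congrArg (fun y : X => (y.1 : G)) hn⟩
  refine ⟨hab, fun a ha ha1 => ?_, ?_, hconj⟩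
  · obtain ⟨w, hw⟩ := exists_prime_orderOf_dvd_card' (G := (T : Subgroup G)) 2 (by rw [hT]; norm_num)
    have hwo : orderOf (w : G) = 2 := by rw [Subgroup.orderOf_coe, hw]
    obtain ⟨n, -, hn⟩ := hconj w w.2 a ha (fun e => by rw [e, orderOf_one] at hwo; omega) ha1
    rw [← hn, Invol.order_conj, hwo]
  · obtain ⟨w, hw⟩ := exists_prime_orderOf_dvd_card' (G := (T : Subgroup G)) 2 (by rw [hT]; norm_num)
    let x : X := ⟨w, fun e => by rw [e, orderOf_one] at hw; omega⟩
    have hc : (MulAction.stabilizer N x).index = 7 := by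
      rw [MulAction.index_stabilizer, htrans, Set.ncard_univ, hX]
    exact hc ▸ Subgroup.index_dvd_card _

end Cfsg.Agent.Ord3640
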