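import Cfsg.Agent.Lib.Small.Orders3640.CasesA
import Cfsg.Agent.Lib.Small.SelfCentral
import Cfsg.Agent.Lib.Involutions.Basic

/-!
The orders 2160, 2400, 3120, 3360 and 3600.
-/

set_option autoImplicit false
set_option linter.unusedSectionVars false
set_option linter.style.haveILetI false

open Cfsg.Agent.CommFix

namespace Cfsg.Agent.Ord3640

universe u

/-- A group of order 150 has one Sylow 5-subgroup. -/
theorem sylow_five_of_150 {M : Type*} [Group M] [Finite M] (hM : Nat.card M = 150) :
    Nat.card (Sylow 5 M) = 1 := by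
  haveI : Fact (Nat.Prime 5) := ⟨by norm_num⟩
  haveI : Fact (Nat.Prime 3) := ⟨by norm_num⟩
  have hk : Nat.card M = 5 ^ 2 * 6 := by rw [hM]; norm_num
  have hm := Small.sylow_number_mem hk (by norm_num)
  rw [show (Nat.divisors 6).filter (fun d => d % 5 = 1) = {1, 6} by decide +kernel,
    Finset.mem_insert, Finset.mem_singleton] at hm
  refine hm.resolve_right fun h6 => ?_
  obtain ⟨P⟩ : Nonempty (Sylow 5 M) := inferInstance
  have hPc := Small.sylow_card hk (by norm_num) P
  have hN := Small.card_normalizer_mul P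
  rw [h6, hM] at hN
  have heq : (P : Subgroup M) = Subgroup.normalizer ((P : Subgroup M) : Set M) :=
    Subgroup.eq_of_le_of_card_ge Subgroup.le_normalizer (by rw [hPc]; omega)
  have hab : ∀ a ∈ (P : Subgroup M), ∀ b ∈ (P : Subgroup M), a * b = b * a := fun a ha b hb =>
    congrArg Subtype.val (IsPGroup.commutative_of_card_eq_prime_sq hPc ⟨a, ha⟩ ⟨b, hb⟩)
  have hle : Subgroup.normalizer ((P : Subgroup M) : Set M) ≤ Subgroup.centralizer (P : Set M) := by
    intro n hn
    rw [← heq] at hn
    exact Subgroup.mem_centralizer_iff.2 fun y hy => hab y hy n hn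
  have hco := MonoidHom.ker_transferSylow_isComplement' P hle
  set K := (MonoidHom.transferSylow P hle).ker
  have hKc : Nat.card K = 6 := by
    have := hco.card_mul
    rw [hPc, hM] at this
    omega
  have hK3 : Nat.card K = 3 ^ 1 * 2 := by rw [hKc]; norm_num
  have hs := Small.sylow_number_mem hK3 (by norm_num)
  rw [show (Nat.divisors 2).filter (fun d => d % 3 = 1) = {1} by decide +kernel, Finset.mem_singleton] at hs
  obtain ⟨S⟩ : Nonempty (Sylow 3 K) := inferInstance
  haveI := (Nat.card_eq_one_iff_unique.1 hs).1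
  have hSn : (S : Subgroup K).Normal := Subgroup.normalizer_eq_top_iff.1 (by
    ext n; simp only [Subgroup.mem_top, iff_true]
    exact Sylow.smul_eq_iff_mem_normalizer.1 (Subsingleton.elim _ _))
  haveI := hSn
  haveI : (S : Subgroup K).Characteristic := Sylow.characteristic_of_subsingleton S
  have hN3 : ((S : Subgroup K).map K.subtype).Normal := inferInstance
  set R := (S : Subgroup K).map K.subtype with hR
  have hRc : Nat.card R = 3 := by
    rw [hR, Subgroup.card_map_of_injective K.subtype_injective, Small.sylow_card hK3 (by norm_num) S, pow_one]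
  have hd := Small.card_normalizer_dvd R hRc
  rw [Subgroup.normalizer_eq_top (H := R), Subgroup.card_top, hM] at hd
  have h75 : 5 ^ 2 ∣ Nat.card (Subgroup.centralizer (R : Set M)) :=
    (Nat.Coprime.dvd_of_dvd_mul_right (by norm_num) ((show 5 ^ 2 ∣ 150 by norm_num).trans hd))
  obtain ⟨Q, hQ⟩ := Sylow.exists_subgroup_card_pow_prime 5 h75
  have hQc : Nat.card (Q.map (Subgroup.centralizer (R : Set M)).subtype) = 5 ^ 2 := by
    rw [Subgroup.card_map_of_injective (Subgroup.subtype_injective _), hQ]
  obtain ⟨P', hP'⟩ := (IsPGroup.of_card hQc).exists_le_sylow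
  have hQP : Q.map (Subgroup.centralizer (R : Set M)).subtype = (P' : Subgroup M) :=
    Subgroup.eq_of_le_of_card_ge hP' (by rw [hQc, Small.sylow_card hk (by norm_num) P'])
  have hN' := Small.card_normalizer_mul P'
  rw [h6, hM] at hN'
  have hRN : R ≤ Subgroup.normalizer ((P' : Subgroup M) : Set M) := by
    intro r hr
    refine Small.centralizer_le_normalizer _ (Subgroup.mem_centralizer_iff.2 fun y hy => ?_)
    rw [SetLike.mem_coe, ← hQP] at hy
    obtain ⟨y', -, rfl⟩ := hy
    exact ((Subgroup.mem_centralizer_iff.1 y'.2 r hr)).symm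
  have := Subgroup.card_dvd_of_le hRN
  rw [hRc, show Nat.card (Subgroup.normalizer ((P' : Subgroup M) : Set M)) = 25 by omega] at this
  norm_num at this

variable {G : Type u} [Group G] [Finite G] [IsSimpleGroup G]

/-- An element of order `p` in two Sylow subgroups of order `p ^ 2`, and its centralizer. -/
theorem exists_cent {p : ℕ} [hp : Fact p.Prime] (hG : ¬ IsMulCommutative G) (P : Sylow p G)
    (hPc : Nat.card (P : Subgroup G) = p ^ 2) (hj : Nat.card (Sylow p G) % p ^ 2 ≠ 1 % p ^ 2) :
    ∃ d : G, orderOf d = p ∧ d ∈ (P : Subgroup G) ∧ Subgroup.centralizer ({d} : Set G) ≠ ⊤ ∧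
      (P : Subgroup G) ≤ Subgroup.centralizer ({d} : Set G) ∧
      Nat.card (Sylow p (Subgroup.centralizer ({d} : Set G))) ≠ 1 := by
  obtain ⟨Q, hne, hrel⟩ := Small.exists_big_inter P hj
  set D := (P : Subgroup G) ⊓ (Q : Subgroup G) with hDdef
  have hQc : Nat.card (Q : Subgroup G) = p ^ 2 := by
    rw [← hPc]; exact Nat.card_congr (Sylow.equiv Q P).toEquiv
  have hDne : D ≠ ⊥ := by
    intro e
    rw [e, Subgroup.relIndex_bot_left, hPc] at hrel
    exact lt_irrefl _ hrel
  have hpd : p ∣ Nat.card D := by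
    obtain ⟨k, hk, he⟩ := (Nat.dvd_prime_pow hp.out).1 (hPc ▸ Subgroup.card_dvd_of_le (inf_le_left : D ≤ _))
    rcases k with _ | k
    · rw [pow_zero, Subgroup.card_eq_one] at he
      exact absurd he hDne
    · exact he ▸ dvd_pow_self p k.succ_ne_zero
  obtain ⟨w, hw⟩ := exists_prime_orderOf_dvd_card' (G := D) p hpd
  have hwo : orderOf (w : G) = p := by rw [Subgroup.orderOf_coe, hw]
  have hle : ∀ R : Sylow p G, Nat.card (R : Subgroup G) = p ^ 2 → (w : G) ∈ (R : Subgroup G) →
      (R : Subgroup G) ≤ Subgroup.centralizer ({(w : G)} : Set G) := fun R hR hwR r hr =>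
    Subgroup.mem_centralizer_singleton_iff.2
      (congrArg Subtype.val (IsPGroup.commutative_of_card_eq_prime_sq hR ⟨r, hr⟩ ⟨w, hwR⟩))
  have hPM := hle P hPc w.2.1
  have hQM := hle Q hQc w.2.2
  refine ⟨w, hwo, w.2.1, fun htop => ?_, hPM, fun h => ?_⟩
  · have hc : (w : G) ∈ Subgroup.center G := Subgroup.mem_center_iff.2 fun g =>
      Subgroup.mem_centralizer_singleton_iff.1 (htop ▸ Subgroup.mem_top g)
    rcases (inferInstance : (Subgroup.center G).Normal).eq_bot_or_eq_top with hb | hb
    · rw [hb, Subgroup.mem_bot] at hc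
      rw [hc, orderOf_one] at hwo
      exact hp.out.ne_one hwo.symm
    · exact hG ⟨⟨fun a b => Subgroup.mem_center_iff.1 (hb ▸ Subgroup.mem_top b) a⟩⟩
  · haveI := (Nat.card_eq_one_iff_unique.1 h).1
    exact hne (Sylow.subtype_injective (hP := hQM) (hQ := hPM) (Subsingleton.elim _ _))

theorem card_ne_2400 : Nat.card G ≠ 2400 := by
  intro hn
  haveI : Fact (Nat.Prime 5) := ⟨by norm_num⟩
  have hG := Small.not_comm_of_card (G := G) (by rw [hn]; norm_num)
  have hk : Nat.card G = 5 ^ 2 * 96 := by rw [hn]; norm_num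
  have hm := Small.sylow_number_mem hk (by norm_num)
  have h1 := Small.sylow_number_ne_one (p := 5) hG (by rw [hn]; norm_num)
  obtain ⟨P⟩ : Nonempty (Sylow 5 G) := inferInstance
  have hPc := Small.sylow_card hk (by norm_num) P
  have key : ∀ d ∈ ((Nat.divisors 96).filter (fun d => d % 5 = 1)).erase 1, d % 5 ^ 2 ≠ 1 % 5 ^ 2 := by
    decide +kernel
  obtain ⟨d, -, -, hM, hPM, hs⟩ := exists_cent hG P hPc (key _ (Finset.mem_erase.2 ⟨h1, hm⟩))
  obtain ⟨l, hlc, hlm, hlmem, hlne, hd'⟩ := OrderTools.overgroup_data P hk (by norm_num) hM hPM hs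
  have key2 : ∀ l ∈ Nat.divisors 96, l ≠ 96 → (∃ d ∈ l.divisors, d ≠ 1 ∧ d % 5 = 1) → 96 ≤ 9 * l ∨ l = 6 := by
    decide +kernel
  rcases key2 l hlmem hlne hd' with h | h
  · have hidx : Nat.card G ∣ (Subgroup.centralizer ({d} : Set G)).index.factorial :=
      (dvd_mul_left _ 2).trans (Small.card_two_mul_dvd_factorial hG hM)
    have h9 : (Subgroup.centralizer ({d} : Set G)).index ≤ 9 := by
      rw [← hlm, mul_comm 9 l] at h
      exact Nat.le_of_mul_le_mul_left h (Nat.pos_of_mem_divisors hlmem)
    have := hidx.trans (Nat.factorial_dvd_factorial h9)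
    rw [hn] at this; norm_num [Nat.factorial] at this
  · exact hs (sylow_five_of_150 (by rw [hlc, h]; norm_num))

theorem card_ne_3600 : Nat.card G ≠ 3600 := by
  intro hn
  haveI : Fact (Nat.Prime 5) := ⟨by norm_num⟩
  have hG := Small.not_comm_of_card (G := G) (by rw [hn]; norm_num)
  have hk : Nat.card G = 5 ^ 2 * 144 := by rw [hn]; norm_num
  have hm := Small.sylow_number_mem hk (by norm_num)
  have h1 := Small.sylow_number_ne_one (p := 5) hG (by rw [hn]; norm_num)
  obtain ⟨P⟩ : Nonempty (Sylow 5 G) := inferInstance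
  have hPc := Small.sylow_card hk (by norm_num) P
  have key : ∀ d ∈ ((Nat.divisors 144).filter (fun d => d % 5 = 1)).erase 1, d % 5 ^ 2 ≠ 1 % 5 ^ 2 := by
    decide +kernel
  obtain ⟨d, hdo, hdP, hM, hPM, hs⟩ := exists_cent hG P hPc (key _ (Finset.mem_erase.2 ⟨h1, hm⟩))
  set M := Subgroup.centralizer ({d} : Set G) with hMdef
  obtain ⟨l, hlc, hlm, hlmem, hlne, hd'⟩ := OrderTools.overgroup_data P hk (by norm_num) hM hPM hs
  have hfac : ∀ (H : Subgroup G), H ≠ ⊤ → H.index ≤ 9 → False := fun H hH h9 => by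
    have := (Small.card_two_mul_dvd_factorial hG hH).trans (Nat.factorial_dvd_factorial h9)
    rw [hn] at this; norm_num [Nat.factorial] at this
  have key2 : ∀ l ∈ Nat.divisors 144, l ≠ 144 → (∃ d ∈ l.divisors, d ≠ 1 ∧ d % 5 = 1) →
      144 ≤ 9 * l ∨ l = 6 ∨ l = 12 := by decide +kernel
  rcases key2 l hlmem hlne hd' with h | h | h
  · refine hfac M hM ?_
    rw [← hlm, mul_comm 9 l] at h
    exact Nat.le_of_mul_le_mul_left h (Nat.pos_of_mem_divisors hlmem)
  · exact hs (sylow_five_of_150 (by rw [hlc, h]; norm_num))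
  rw [h] at hlc hlm
  have hM300 : Nat.card M = 300 := by rw [hlc]; norm_num
  have hidx : M.index = 12 := by omega
  have hsM := Small.sylow_number_mem (G := M) (p := 5) (k := 2) (m := 12) (by rw [hM300]; norm_num) (by norm_num)
  rw [show (Nat.divisors 12).filter (fun d => d % 5 = 1) = {1, 6} by decide +kernel,
    Finset.mem_insert, Finset.mem_singleton] at hsM
  have he := CommFix.card_overgroup P hPM
  rw [hsM.resolve_left hs, hM300] at he
  set N := Subgroup.normalizer ((P : Subgroup G) : Set G) with hNdef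
  set K : Subgroup G := M ⊓ N with hKdef
  have hK : Nat.card K = 50 := by omega
  have hKN : K ≤ N := inf_le_right
  have hN := Small.card_normalizer_mul P
  rw [hn, ← hNdef] at hN
  have h50 : 50 ∣ Nat.card N := hK ▸ Subgroup.card_dvd_of_le hKN
  have hfb := Small.factorial_bound (p := 5) hG (by rw [hn]; norm_num)
  rw [show (Nat.divisors 144).filter (fun d => d % 5 = 1) = {1, 6, 16, 36} by decide +kernel] at hm
  simp only [Finset.mem_insert, Finset.mem_singleton] at hm
  have hN100 : Nat.card N = 100 := by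
    rcases hm with e | e | e | e
    · exact absurd e h1
    · rw [e, hn] at hfb; norm_num [Nat.factorial] at hfb
    · rw [e] at hN
      rw [show Nat.card N = 225 by omega] at h50
      norm_num at h50
    · rw [e] at hN; omega
  have hKi : (K.subgroupOf N).index = 2 := by
    have := (K.subgroupOf N).card_mul_index
    rw [Nat.card_congr (Subgroup.subgroupOfEquivOfLe hKN).toEquiv, hK, hN100] at this
    omega
  have hab : ∀ a ∈ (P : Subgroup G), ∀ b ∈ (P : Subgroup G), a * b = b * a := fun a ha b hb =>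
    congrArg Subtype.val (IsPGroup.commutative_of_card_eq_prime_sq hPc ⟨a, ha⟩ ⟨b, hb⟩)
  obtain ⟨n, hnN, hnK⟩ : ∃ n ∈ N, n ∉ K := by
    by_contra hcon
    push Not at hcon
    have := Nat.le_of_dvd Nat.card_pos (Subgroup.card_dvd_of_le hcon)
    omega
  haveI := Subgroup.normal_of_index_eq_two hKi
  have hKd : ∀ k ∈ K, k * d = d * k := fun k hk => Subgroup.mem_centralizer_singleton_iff.1 hk.1
  have hKc : ∀ k ∈ K, n⁻¹ * k * n ∈ K := by
    intro k hk
    have := this.conj_mem ⟨k, hKN hk⟩ hk ⟨n⁻¹, inv_mem hnN⟩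
    simpa [Subgroup.mem_subgroupOf] using this
  set d' := n * d * n⁻¹ with hd'def
  have hd'P : d' ∈ (P : Subgroup G) := (Subgroup.mem_normalizer_iff.1 hnN d).1 hdP
  have hKd' : ∀ k ∈ K, k * d' = d' * k := by
    intro k hk
    have := hKd _ (hKc k hk)
    calc k * d' = n * (n⁻¹ * k * n * d) * n⁻¹ := by rw [hd'def]; group
      _ = d' * k := by rw [this, hd'def]; group
  have hn2 : n * n ∈ K := by
    have := (Subgroup.mul_mem_iff_of_index_two hKi (a := (⟨n, hnN⟩ : N)) (b := ⟨n, hnN⟩)).2 Iff.rfl
    exact Subgroup.mem_subgroupOf.1 this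
  have hnd' : n * d' * n⁻¹ = d := by
    calc n * d' * n⁻¹ = n * n * d * (n * n)⁻¹ := by rw [hd'def]; group
      _ = d := by rw [hKd _ hn2, mul_inv_cancel_right]
  have hu := Ord6232.focal_eq_one hG P hab (mul_mem hdP hd'P) fun m hm => by
    have hfix : ∀ k ∈ K, k * (d * d') = d * d' * k := fun k hk =>
      (Commute.mul_right (show Commute k d from hKd k hk) (show Commute k d' from hKd' k hk)).eq
    by_cases hmK : m ∈ K
    · exact hfix m hmK
    have h2 : n⁻¹ * m ∈ K := by
      have := (Subgroup.mul_mem_iff_of_index_two hKi (a := (⟨n⁻¹, inv_mem hnN⟩ : N)) (b := ⟨m, hm⟩)).2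
        (iff_of_false (fun h => hnK (by simpa using inv_mem (Subgroup.mem_subgroupOf.1 h)))
          fun h => hmK (Subgroup.mem_subgroupOf.1 h))
      exact Subgroup.mem_subgroupOf.1 this
    have h3 : n * (d * d') * n⁻¹ = d * d' := by
      calc n * (d * d') * n⁻¹ = d' * (n * d' * n⁻¹) := by rw [hd'def]; group
        _ = d' * d := by rw [hnd']
        _ = d * d' := hab _ hd'P _ hdP
    calc m * (d * d') = n * ((n⁻¹ * m) * (d * d')) := by group
      _ = n * (d * d') * n⁻¹ * m := by rw [hfix _ h2]; group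
      _ = _ := by rw [h3]
  -- `n` inverts `d`, so it lies in the normalizer of `⟨d⟩`, which is `M`
  set NM := Subgroup.normalizer (Subgroup.zpowers d : Set G) with hNMdef
  have hnNM : n ∈ NM := by
    refine Subgroup.mem_normalizer_iff_map_conj_eq.2 ?_
    rw [MonoidHom.map_zpowers]
    show Subgroup.zpowers (n * d * n⁻¹) = _
    rw [← hd'def, eq_inv_of_mul_eq_one_right hu, Subgroup.zpowers_inv]
  have hle : M ≤ NM := by
    intro g hg
    refine Subgroup.mem_normalizer_iff_map_conj_eq.2 ?_
    rw [MonoidHom.map_zpowers]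
    show Subgroup.zpowers (g * d * g⁻¹) = _
    rw [Subgroup.mem_centralizer_singleton_iff.1 hg, mul_inv_cancel_right]
  have hd1 : d ≠ 1 := fun e => by rw [e, orderOf_one] at hdo; omega
  have hNMt : NM ≠ ⊤ := by
    intro htop
    rcases (Subgroup.normalizer_eq_top_iff.1 htop).eq_bot_or_eq_top with e | e
    · exact hd1 (Subgroup.zpowers_eq_bot.1 e)
    · have := congrArg (fun H : Subgroup G => Nat.card H) e
      simp only [Subgroup.card_top, Nat.card_zpowers, hdo, hn] at this
      omega
  have hMeq : M = NM := by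
    refine Subgroup.eq_of_le_of_card_ge hle ?_
    have hd12 : NM.index ∣ 12 := hidx ▸ Subgroup.index_dvd_of_le hle
    have h10 : 9 < NM.index := lt_of_not_ge (hfac NM hNMt)
    have h12 : NM.index = 12 := by
      have := Nat.le_of_dvd (by norm_num) hd12
      interval_cases hi : NM.index <;> simp_all
    have hc := NM.card_mul_index
    rw [h12, hn] at hc
    omega
  exact hnK ⟨hMeq ▸ hnNM, hnN⟩

/-- All involutions are conjugate to those inverting a self-centralizing `p`-element. -/
theorem one_class {p : ℕ} [hp : Fact p.Prime] (hnp : ¬ (Nat.card G).Prime) (P : Sylow p G) (hp5 : 5 ≤ p)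
    (hP : Nat.card (P : Subgroup G) = p)
    (hN : Nat.card (Subgroup.normalizer ((P : Subgroup G) : Set G)) = p * 2) {m : ℕ}
    (hm : Nat.card G = p * m) {s t : G} (hs : orderOf s = 2) (ht : orderOf t = 2) : IsConj s t := by
  obtain ⟨h, f, -, -, -, -, -, hall⟩ := SelfCentral.involutions_two hnp P hp5 hP hN hm
  obtain ⟨⟨a, haN, hsa, haC⟩, -⟩ := hall s hs
  obtain ⟨⟨b, hbN, htb, hbC⟩, -⟩ := hall t ht
  have hao : orderOf a = 2 := by obtain ⟨g, rfl⟩ := isConj_iff.1 hsa; rw [Invol.order_conj, hs]
  have hbo : orderOf b = 2 := by obtain ⟨g, rfl⟩ := isConj_iff.1 htb; rw [Invol.order_conj, ht]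
  set N := Subgroup.normalizer ((P : Subgroup G) : Set G)
  have hidx : ((P : Subgroup G).subgroupOf N).index = 2 := by
    have h3 := ((P : Subgroup G).subgroupOf N).card_mul_index
    rw [Nat.card_congr (Subgroup.subgroupOfEquivOfLe Subgroup.le_normalizer).toEquiv, hP, hN] at h3
    exact Nat.eq_of_mul_eq_mul_left hp.out.pos h3
  have hmem : a * b ∈ (P : Subgroup G) := by
    have := (Subgroup.mul_mem_iff_of_index_two hidx (a := (⟨a, haN⟩ : N)) (b := ⟨b, hbN⟩)).2
      (iff_of_false (fun h => haC (Small.le_centralizer_self _ hP (Subgroup.mem_subgroupOf.1 h)))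
        fun h => hbC (Small.le_centralizer_self _ hP (Subgroup.mem_subgroupOf.1 h)))
    exact Subgroup.mem_subgroupOf.1 this
  obtain ⟨d, -, hd⟩ := Invol.conj_of_odd hao hbo
    (Odd.of_dvd_nat (hp.out.odd_of_ne_two (by omega)) (hP ▸ Subgroup.orderOf_dvd_natCard _ hmem))
  exact hsa.trans ((isConj_iff.2 ⟨d, hd⟩).trans htb.symm)

/-- The centralizer order of an involution when it is divisible by `c₀`. -/
theorem card_centralizer_invol {p : ℕ} [hp : Fact p.Prime] (hnp : ¬ (Nat.card G).Prime) (P : Sylow p G)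
    (hp5 : 5 ≤ p) (hP : Nat.card (P : Subgroup G) = p)
    (hN : Nat.card (Subgroup.normalizer ((P : Subgroup G) : Set G)) = p * 2) {m : ℕ}
    (hm : Nat.card G = p * m) (hm0 : 0 < m) {cs : Finset ℕ} {c0 : ℕ}
    (hcs : ∀ h ∈ m.divisors, ∀ f ∈ ({h + 1, h - 1} : Finset ℕ), 2 ≤ h → f ∣ m →
      ((h % p = 1 ∧ f = h + 1) ∨ (h % p = p - 1 ∧ f + 1 = h)) → ∀ c ∈ cs,
      ∀ u ∈ List.range (2 * h + 1), (m : ℤ) * ((h : ℤ) - ((u : ℤ) - h)) ^ 2 = (c : ℤ) ^ 2 * h * f → c = c0)
    {t : G} (ht : orderOf t = 2) (htc : Nat.card (Subgroup.centralizer ({t} : Set G)) ∈ cs)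
    {s : G} (hs : orderOf s = 2) : Nat.card (Subgroup.centralizer ({s} : Set G)) = c0 := by
  rw [show Nat.card (Subgroup.centralizer ({s} : Set G)) = Nat.card (Subgroup.centralizer ({t} : Set G)) from
    CommFix.card_centralizer_conj (one_class hnp P hp5 hP hN hm hs ht)]
  obtain ⟨h, f, hh, -, hhd, hfd, hcase, hall⟩ := SelfCentral.involutions_two hnp P hp5 hP hN hm
  obtain ⟨-, u, hu, heq⟩ := hall t ht
  refine hcs h (Nat.mem_divisors.2 ⟨hhd, hm0.ne'⟩) f ?_ hh hfd hcase _ htc (u + h).toNat ?_ ?_
  · simp only [Finset.mem_insert, Finset.mem_singleton]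
    rcases hcase with ⟨-, e⟩ | ⟨-, e⟩ <;> omega
  · rw [List.mem_range]; omega
  · have e : (((u + h).toNat : ℕ) : ℤ) - h = u := by omega
    rw [e]
    rw [hm] at heq
    push_cast at heq
    refine mul_left_cancel₀ (show (p : ℤ) ≠ 0 by exact_mod_cast hp.out.ne_zero) ?_
    linear_combination heq

theorem card_ne_3360 : Nat.card G ≠ 3360 := by
  intro hn
  haveI : Fact (Nat.Prime 5) := ⟨by norm_num⟩
  haveI : Fact (Nat.Prime 3) := ⟨by norm_num⟩
  haveI : Fact (Nat.Prime 7) := ⟨by norm_num⟩
  have hnp : ¬ (Nat.card G).Prime := by rw [hn]; norm_num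
  have hG := Small.not_comm_of_card hnp
  obtain ⟨P, hP, hmem, -, hN, -⟩ := OrdersExcl.setup hG (p := 5) 672 hn (by norm_num) (by norm_num)
  obtain ⟨Q, hQ, hmem7, -, hN7, -⟩ := OrdersExcl.setup hG (p := 7) 480 hn (by norm_num) (by norm_num)
  rw [show ((Nat.divisors 480).filter (fun d => d % 7 = 1)).erase 1 = {8, 15, 120} by decide +kernel] at hmem7
  simp only [Finset.mem_insert, Finset.mem_singleton] at hmem7
  have h8 : Nat.card (Sylow 7 G) ≠ 8 := by
    intro h
    have h2 := OrderTools.two_mul_card_normalizer_dvd hG (by norm_num) Q hQ h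
    rw [h] at hN7
    rw [show Nat.card (Subgroup.normalizer ((Q : Subgroup G) : Set G)) = 420 by omega] at h2
    norm_num at h2
  rw [show ((Nat.divisors 672).filter (fun d => d % 5 = 1)).erase 1 = {6, 16, 21, 56, 96, 336} by decide +kernel] at hmem
  simp only [Finset.mem_insert, Finset.mem_singleton] at hmem
  rcases hmem with h | h | h | h | h | h <;> rw [h] at hN
  · have h2 := OrderTools.two_mul_card_normalizer_dvd hG (by norm_num) P hP h
    rw [show Nat.card (Subgroup.normalizer ((P : Subgroup G) : Set G)) = 560 by omega] at h2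
    norm_num at h2
  · have hC := CommFix.card_centralizer_cases hnp P hP (n := 210) (by norm_num) (by omega)
    rw [show (Nat.divisors 210).filter (fun c => 5 ∣ c ∧ c ≠ 210 ∧ 210 ∣ c * (5 - 1)) = {105} by decide +kernel,
      Finset.mem_singleton] at hC
    obtain ⟨y, hy⟩ := exists_prime_orderOf_dvd_card' (G := Subgroup.centralizer ((P : Subgroup G) : Set G)) 7
      (by rw [hC]; norm_num)
    have hyo : orderOf (y : G) = 7 := by rw [Subgroup.orderOf_coe, hy]
    obtain ⟨R, hR⟩ := (IsPGroup.of_card (n := 1) (by rw [Nat.card_zpowers, hyo, pow_one]) :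
      IsPGroup 7 (Subgroup.zpowers (y : G))).exists_le_sylow
    have hk7 : Nat.card G = 7 ^ 1 * 480 := by rw [hn]; norm_num
    have hRy : Subgroup.zpowers (y : G) = (R : Subgroup G) := Subgroup.eq_of_le_of_card_ge hR
      (by rw [Nat.card_zpowers, hyo, Small.sylow_card hk7 (by norm_num) R, pow_one])
    have hle : (P : Subgroup G) ≤ Subgroup.normalizer ((R : Subgroup G) : Set G) := by
      intro v hv
      refine Small.centralizer_le_normalizer _ (Subgroup.mem_centralizer_iff.2 fun w hw => ?_)
      rw [SetLike.mem_coe, ← hRy] at hw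
      obtain ⟨i, rfl⟩ := Subgroup.mem_zpowers_iff.1 hw
      exact ((show Commute v (y : G) from Subgroup.mem_centralizer_iff.1 y.2 v hv).zpow_right i).eq.symm
    have h5 := Subgroup.card_dvd_of_le hle
    rw [hP] at h5
    have hN7' := Small.card_normalizer_mul R
    rw [hn] at hN7'
    obtain ⟨j, hj⟩ := h5
    rw [hj] at hN7'
    rcases hmem7 with e | e | e
    · exact h8 e
    · rw [e] at hN7'; omega
    · rw [e] at hN7'; omega
  · exact S1010.result h
  · set C := Subgroup.centralizer ((P : Subgroup G) : Set G) with hCdef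
    have hC := CommFix.card_centralizer_cases hnp P hP (n := 60) (by norm_num) (by omega)
    rw [show (Nat.divisors 60).filter (fun c => 5 ∣ c ∧ c ≠ 60 ∧ 60 ∣ c * (5 - 1)) = {15, 30} by decide +kernel,
      Finset.mem_insert, Finset.mem_singleton] at hC
    have hk3 : Nat.card G = 3 ^ 1 * 1120 := by rw [hn]; norm_num
    have hRc : ∀ R : Sylow 3 G, Nat.card (R : Subgroup G) = 3 := fun R =>
      (Small.sylow_card hk3 (by norm_num) R).trans (pow_one 3)
    have hexR : ∃ R : Sylow 3 G, (R : Subgroup G) ≤ C ∧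
        Subgroup.normalizer ((P : Subgroup G) : Set G) ≤ Subgroup.normalizer ((R : Subgroup G) : Set G) := by
      rcases hC with hC | hC
      · refine exists_char_sylow P hRc (m := 5) (by rw [hC]; norm_num) (by norm_num) ?_
        have hs := Small.sylow_number_mem (G := C) (p := 3) (k := 1) (m := 5) (by rw [hC]; norm_num) (by norm_num)
        rwa [show (Nat.divisors 5).filter (fun d => d % 3 = 1) = {1} by decide +kernel, Finset.mem_singleton] at hs
      · refine exists_char_sylow P hRc (m := 10) (by rw [hC]; norm_num) (by norm_num) ?_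
        have hs := Small.sylow_number_mem (G := C) (p := 3) (k := 1) (m := 10) (by rw [hC]; norm_num) (by norm_num)
        rw [show (Nat.divisors 10).filter (fun d => d % 3 = 1) = {1, 10} by decide +kernel,
          Finset.mem_insert, Finset.mem_singleton] at hs
        refine hs.resolve_right fun h10 => ?_
        obtain ⟨S⟩ : Nonempty (Sylow 3 C) := inferInstance
        have hSN := Small.card_normalizer_mul S
        rw [h10, hC] at hSN
        have hle : (P : Subgroup G).subgroupOf C ≤ Subgroup.normalizer ((S : Subgroup C) : Set C) := by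
          intro v hv
          refine Small.centralizer_le_normalizer _ (Subgroup.mem_centralizer_iff.2 fun w _ => ?_)
          exact Subtype.ext ((Subgroup.mem_centralizer_iff.1 w.2 _ hv).symm)
        have h5 := Subgroup.card_dvd_of_le hle
        rw [Nat.card_congr (Subgroup.subgroupOfEquivOfLe (Small.le_centralizer_self _ hP)).toEquiv, hP,
          show Nat.card (Subgroup.normalizer ((S : Subgroup C) : Set C)) = 3 by omega] at h5
        norm_num at h5
    obtain ⟨R, -, hle⟩ := hexR
    have hdvd := Subgroup.card_dvd_of_le hle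
    have hN60 : Nat.card (Subgroup.normalizer ((P : Subgroup G) : Set G)) = 60 := by omega
    rw [hN60] at hdvd
    have hs3 := Small.sylow_number_mem hk3 (by norm_num)
    have hne1 := Small.sylow_number_ne_one (p := 3) hG (by rw [hn]; norm_num)
    have hN3 := Small.card_normalizer_mul R
    rw [hn] at hN3
    obtain ⟨j, hj⟩ := hdvd
    rw [hj] at hN3
    rw [Finset.mem_filter, Nat.mem_divisors] at hs3
    have hfac := Small.factorial_bound (p := 3) hG (by rw [hn]; norm_num)
    have hd56 : Nat.card (Sylow 3 G) ∈ Nat.divisors 56 :=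
      Nat.mem_divisors.2 ⟨⟨j, by nlinarith⟩, by norm_num⟩
    have key : ∀ d ∈ Nat.divisors 56, d % 3 = 1 → d = 1 ∨ d = 4 ∨ d = 7 ∨ d = 28 := by decide +kernel
    rcases key _ hd56 hs3.2 with e | e | e | e
    · exact hne1 e
    · rw [e, hn] at hfac; norm_num [Nat.factorial] at hfac
    · rw [e, hn] at hfac; norm_num [Nat.factorial] at hfac
    · rw [e] at hN3
      exact false_of_double P (by norm_num) R hle (by rw [hj, hN60]; omega)
  · have hC := CommFix.card_centralizer_cases hnp P hP (n := 35) (by norm_num) (by omega)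
    rw [show (Nat.divisors 35).filter (fun c => 5 ∣ c ∧ c ≠ 35 ∧ 35 ∣ c * (5 - 1)) = ∅ by decide +kernel] at hC
    simp at hC
  · have hNP : Nat.card (Subgroup.normalizer ((P : Subgroup G) : Set G)) = 5 * 2 := by omega
    have hm : Nat.card G = 5 * 672 := by rw [hn]
    obtain ⟨t, ht, htd⟩ := CommFix.exists_invol_full (G := G) (k := 5) (m := 105) (by norm_num)
      (by rw [hn]; norm_num) (by norm_num)
    have htc : Nat.card (Subgroup.centralizer ({t} : Set G)) ∈ ({32, 64, 96, 128} : Finset ℕ) := by
      have hb := SelfCentral.card_centralizer_bound hnp P (by norm_num) hP hNP hm ht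
      rw [h] at hb
      have hpos : 0 < Nat.card (Subgroup.centralizer ({t} : Set G)) := Nat.card_pos
      simp only [Finset.mem_insert, Finset.mem_singleton]
      obtain ⟨i, hi⟩ := htd
      norm_num at hi
      omega
    have hall : ∀ s : G, orderOf s = 2 → Nat.card (Subgroup.centralizer ({s} : Set G)) = 32 := fun s hs =>
      card_centralizer_invol hnp P (by norm_num) hP hNP hm (by norm_num) (cs := {32, 64, 96, 128}) (c0 := 32)
        (by decide +kernel) ht htc hs
    have heven : 2 ∣ Nat.card (Subgroup.centralizer ((Q : Subgroup G) : Set G)) := by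
      rcases hmem7 with e | e | e
      · exact absurd e h8
      · rw [e] at hN7
        have hC := CommFix.card_centralizer_cases hnp Q hQ (n := 224) (by norm_num) (by omega)
        rw [show (Nat.divisors 224).filter (fun c => 7 ∣ c ∧ c ≠ 224 ∧ 224 ∣ c * (7 - 1)) = {112} by decide +kernel,
          Finset.mem_singleton] at hC
        rw [hC]; norm_num
      · rw [e] at hN7
        have hC := CommFix.card_centralizer_cases hnp Q hQ (n := 28) (by norm_num) (by omega)
        rw [show (Nat.divisors 28).filter (fun c => 7 ∣ c ∧ c ≠ 28 ∧ 28 ∣ c * (7 - 1)) = {14} by decide +kernel,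
          Finset.mem_singleton] at hC
        rw [hC]; norm_num
    obtain ⟨z, hz⟩ := exists_prime_orderOf_dvd_card' (G := Subgroup.centralizer ((Q : Subgroup G) : Set G)) 2 heven
    have hle : (Q : Subgroup G) ≤ Subgroup.centralizer ({(z : G)} : Set G) := fun v hv =>
      Subgroup.mem_centralizer_singleton_iff.2 (Subgroup.mem_centralizer_iff.1 z.2 v hv)
    have := Subgroup.card_dvd_of_le hle
    rw [hQ, hall z (by rw [Subgroup.orderOf_coe, hz])] at this
    norm_num at this

theorem card_ne_2160 : Nat.card G ≠ 2160 := by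
  classical
  intro hn
  haveI : Fact (Nat.Prime 5) := ⟨by norm_num⟩
  have hnp : ¬ (Nat.card G).Prime := by rw [hn]; norm_num
  have hG := Small.not_comm_of_card hnp
  obtain ⟨P, hP, hmem, -, hN, -⟩ := OrdersExcl.setup hG (p := 5) 432 hn (by norm_num) (by norm_num)
  have hC := centralizer_of_three (a := 3) (b := 4) (by rw [hn]; norm_num) P hP
  have hd := Small.card_normalizer_dvd (P : Subgroup G) hP
  rw [hC] at hd
  have hle := Nat.le_of_dvd (by norm_num) hd
  rw [show ((Nat.divisors 432).filter (fun d => d % 5 = 1)).erase 1 = {6, 16, 36, 216} by decide +kernel] at hmem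
  simp only [Finset.mem_insert, Finset.mem_singleton] at hmem
  rcases hmem with h | h | h | h <;> rw [h] at hN
  · omega
  · omega
  · omega
  have hNP : Nat.card (Subgroup.normalizer ((P : Subgroup G) : Set G)) = 5 * 2 := by omega
  have hm : Nat.card G = 5 * 432 := by rw [hn]
  obtain ⟨t, ht, htd⟩ := CommFix.exists_invol_full (G := G) (k := 4) (m := 135) (by norm_num)
    (by rw [hn]; norm_num) (by norm_num)
  have htc : Nat.card (Subgroup.centralizer ({t} : Set G)) ∈ ({16, 32, 48, 64, 80} : Finset ℕ) := by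
    have hb := SelfCentral.card_centralizer_bound hnp P (by norm_num) hP hNP hm ht
    rw [h] at hb
    have hpos : 0 < Nat.card (Subgroup.centralizer ({t} : Set G)) := Nat.card_pos
    simp only [Finset.mem_insert, Finset.mem_singleton]
    obtain ⟨i, hi⟩ := htd
    norm_num at hi
    omega
  have h48 : Nat.card (Subgroup.centralizer ({t} : Set G)) = 48 :=
    card_centralizer_invol hnp P (by norm_num) hP hNP hm (by norm_num) (cs := {16, 32, 48, 64, 80}) (c0 := 48)
      (by decide +kernel) ht htc ht
  -- forty-five involutions cannot invert all the elements of order five five times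
  let I := {g : G // orderOf g = 2}
  have hI : Nat.card I ≤ 45 := by
    refine le_trans (Nat.card_le_card_of_injective
      (fun g : I => (⟨g.1, one_class hnp P (by norm_num) hP hNP hm ht g.2⟩ : {g : G // IsConj t g}))
      fun a b hab => Subtype.ext (congrArg (fun w : {g : G // IsConj t g} => w.1) hab)) ?_
    have := CommFix.card_class t
    rw [h48, hn] at this
    omega
  set N := Subgroup.normalizer ((P : Subgroup G) : Set G) with hNdef
  have hPN : (P : Subgroup G) ≤ N := Subgroup.le_normalizer
  let S := {g : N // (g : G) ∉ (P : Subgroup G)}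
  have hS : 5 ≤ Nat.card S := by
    have h1 := Nat.card_congr (Equiv.sumCompl (fun g : N => (g : G) ∈ (P : Subgroup G))).symm
    rw [Nat.card_sum] at h1
    have h2 : Nat.card {g : N // (g : G) ∈ (P : Subgroup G)} = 5 := by
      exact (Nat.card_congr (Subgroup.subgroupOfEquivOfLe hPN).toEquiv).trans hP
    change Nat.card N = Nat.card {g : N // (g : G) ∈ (P : Subgroup G)} + Nat.card S at h1
    omega
  have hk5 : Nat.card G = 5 ^ 1 * 432 := by rw [hn]; norm_num
  have hX := Small.card_orderOf_ge (G := G) (p := 5) fun R => (Small.sylow_card hk5 (by norm_num) R).trans (pow_one 5)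
  rw [h] at hX
  obtain ⟨hh₀, hf₀, _, _, _, _, _, hall⟩ := SelfCentral.involutions_two hnp P (by norm_num) hP hNP hm
  obtain ⟨⟨s, hsN, hts, hsC⟩, -⟩ := hall t ht
  have hso : orderOf s = 2 := by obtain ⟨g, rfl⟩ := isConj_iff.1 hts; rw [Invol.order_conj, ht]
  have hidx : ((P : Subgroup G).subgroupOf N).index = 2 := by
    have h3 := ((P : Subgroup G).subgroupOf N).card_mul_index
    rw [Nat.card_congr (Subgroup.subgroupOfEquivOfLe hPN).toEquiv, hP, hNP] at h3
    omega
  have hS2 : ∀ g : S, orderOf ((g.1 : N) : G) = 2 := by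
    intro g
    have hsP : s ∉ (P : Subgroup G) := fun h => hsC (Small.le_centralizer_self _ hP h)
    have hgs : s * (g.1 : G) ∈ (P : Subgroup G) := by
      have := (Subgroup.mul_mem_iff_of_index_two hidx (a := (⟨s, hsN⟩ : N)) (b := g.1)).2
        (iff_of_false (fun h => hsP (Subgroup.mem_subgroupOf.1 h)) fun h => g.2 (Subgroup.mem_subgroupOf.1 h))
      exact Subgroup.mem_subgroupOf.1 this
    have hg2 : (g.1 : G) * g.1 ∈ (P : Subgroup G) := by
      have := (Subgroup.mul_mem_iff_of_index_two hidx (a := g.1) (b := g.1)).2 Iff.rfl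
      exact Subgroup.mem_subgroupOf.1 this
    have hgC : (g.1 : G) ∉ Subgroup.centralizer ((P : Subgroup G) : Set G) := by
      intro hc
      refine hsC ?_
      have : s = (s * (g.1 : G)) * (g.1 : G)⁻¹ := by group
      rw [this]
      exact mul_mem (Small.le_centralizer_self _ hP hgs) (inv_mem hc)
    refine orderOf_eq_prime ?_ fun e => g.2 (e ▸ one_mem _)
    rw [pow_two]
    by_contra hne
    -- `g` centralizes its square, a generator of `P`
    refine hgC ?_
    have hz : Subgroup.zpowers ((g.1 : G) * g.1) = (P : Subgroup G) := by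
      refine Subgroup.eq_of_le_of_card_ge (Subgroup.zpowers_le.2 hg2) ?_
      rw [Nat.card_zpowers, hP]
      rcases (Nat.dvd_prime (Fact.out : Nat.Prime 5)).1 (hP ▸ Subgroup.orderOf_dvd_natCard _ hg2) with h | h
      · exact absurd (orderOf_eq_one_iff.1 h) hne
      · exact h.ge
    refine Subgroup.mem_centralizer_iff.2 fun w hw => ?_
    rw [SetLike.mem_coe, ← hz] at hw
    obtain ⟨i, rfl⟩ := Subgroup.mem_zpowers_iff.1 hw
    exact (((Commute.refl (g.1 : G)).mul_right (Commute.refl _)).zpow_right i).eq.symm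
  have hinv : ∀ (x : {x : G // orderOf x = 5}), ∃ a : G, a⁻¹ * x.1 * a ∈ (P : Subgroup G) := by
    intro x
    obtain ⟨R, hR⟩ := (IsPGroup.of_card (n := 1) (by rw [Nat.card_zpowers, x.2, pow_one]) :
      IsPGroup 5 (Subgroup.zpowers x.1)).exists_le_sylow
    obtain ⟨a, ha⟩ := MulAction.exists_smul_eq G P R
    refine ⟨a, ?_⟩
    have hxR : x.1 ∈ ((a • P : Sylow 5 G) : Subgroup G) := ha ▸ hR (Subgroup.mem_zpowers _)
    rw [Sylow.coe_subgroup_smul, Subgroup.mem_pointwise_smul_iff_inv_smul_mem] at hxR
    simpa using hxR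
  choose a ha using hinv
  have hsx : ∀ (x : {x : G // orderOf x = 5}) (g : S),
      orderOf (a x * (g.1 : G) * (a x)⁻¹ * x.1) = 2 := by
    intro x g
    have hy := ha x
    have hmem : (g.1 : G) * ((a x)⁻¹ * x.1 * a x) ∉ (P : Subgroup G) := fun h =>
      g.2 (by simpa [mul_assoc] using mul_mem h (inv_mem hy))
    have := hS2 ⟨⟨(g.1 : G) * ((a x)⁻¹ * x.1 * a x), mul_mem g.1.2 (hPN hy)⟩, hmem⟩
    refine Eq.trans ?_ this
    rw [← Invol.order_conj (a x) ((g.1 : G) * ((a x)⁻¹ * x.1 * a x))]
    congr 1
    group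
  let F : {x : G // orderOf x = 5} × S → I × I := fun q =>
    (⟨a q.1 * (q.2.1 : G) * (a q.1)⁻¹, (Invol.order_conj _ _).trans (hS2 q.2)⟩, ⟨_, hsx q.1 q.2⟩)
  have hF : Function.Injective F := by
    rintro ⟨x, g⟩ ⟨x', g'⟩ he
    simp only [F, Prod.mk.injEq] at he
    have e1 := congrArg Subtype.val he.1
    have e2 := congrArg Subtype.val he.2
    simp only at e1 e2
    rw [e1] at e2
    obtain rfl : x = x' := Subtype.ext (mul_left_cancel e2)
    exact Prod.ext rfl (Subtype.ext (Subtype.ext (mul_left_cancel (mul_right_cancel e1))))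
  have hcard := Nat.card_le_card_of_injective F hF
  rw [Nat.card_prod, Nat.card_prod] at hcard
  have := Nat.mul_le_mul hX hS
  have := Nat.mul_le_mul hI hI
  omega

theorem card_ne_3120 : Nat.card G ≠ 3120 := by
  classical
  intro hn
  haveI : Fact (Nat.Prime 13) := ⟨by norm_num⟩
  haveI : Fact (Nat.Prime 3) := ⟨by norm_num⟩
  haveI : Fact (Nat.Prime 2) := ⟨by norm_num⟩
  have hnp : ¬ (Nat.card G).Prime := by rw [hn]; norm_num
  have hG := Small.not_comm_of_card hnp
  obtain ⟨P, hP, hmem, hidx, hN, hne⟩ := OrdersExcl.setup hG (p := 13) 240 hn (by norm_num) (by norm_num)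
  rw [show ((Nat.divisors 240).filter (fun d => d % 13 = 1)).erase 1 = {40} by decide +kernel,
    Finset.mem_singleton] at hmem
  rw [hmem] at hN hidx
  set N := Subgroup.normalizer ((P : Subgroup G) : Set G) with hNdef
  set C := Subgroup.centralizer ((P : Subgroup G) : Set G) with hCdef
  have hN78 : Nat.card N = 78 := by omega
  have hC := CommFix.card_centralizer_cases hnp P hP (n := 78) (by norm_num) hN78
  rw [show (Nat.divisors 78).filter (fun c => 13 ∣ c ∧ c ≠ 78 ∧ 78 ∣ c * (13 - 1)) = {13, 26, 39} by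
    decide +kernel] at hC
  simp only [Finset.mem_insert, Finset.mem_singleton] at hC
  rcases hC with hC | hC | hC
  · have := card_of_few hG P hP hC (by rw [hmem]; norm_num)
    rw [hn] at this; norm_num at this
  · obtain ⟨y, -, -, h1, h2, -, h4⟩ := Ord6232.fix_facts hG P hP hne (r := 2) Nat.prime_two (by rw [← hCdef, hC]; norm_num)
    rw [hmem] at h2 h4
    have := h4 rfl
    omega
  -- nonidentity elements of `C` fix one point
  have hCfix : ∀ r : ℕ, r.Prime → r = 3 ∨ r = 13 → ∀ x ∈ C, orderOf x = r → fix N x = 1 := by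
    intro r hr hr' x hx hxo
    haveI := Fact.mk hr
    have h1 : fix N x % 13 = 1 := CommFix.fix_mod P hP hx
    have h2 : N.index % r = fix N x % r := modEq_prime hr N hxo
    rw [hidx] at h2
    have h3 : fix N x < N.index := fix_lt hne fun e => by rw [e, orderOf_one] at hxo; omega
    rw [hidx] at h3
    rcases hr' with rfl | rfl
    · omega
    · have hxN : x ∈ N := Small.centralizer_le_normalizer _ hx
      haveI : Nonempty (MulAction.fixedBy (G ⧸ N) x) :=
        ⟨⟨_, MulAction.mem_fixedBy.2 (one_mem_fix hxN)⟩⟩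
      have hin : ∀ w : G, w ∈ N → orderOf w = 13 → Subgroup.zpowers w = (P : Subgroup G) := fun w hw hwo => by
        have h2 : IsPGroup 13 (Subgroup.zpowers w) :=
          IsPGroup.of_card (n := 1) (by rw [Nat.card_zpowers, hwo, pow_one])
        exact Subgroup.eq_of_le_of_card_ge (Subgroup.zpowers_le.2
          ((h2.inf_normalizer_sylow P).le ⟨Subgroup.mem_zpowers _, hw⟩).2) (by rw [hP, Nat.card_zpowers, hwo])
      haveI : Subsingleton (MulAction.fixedBy (G ⧸ N) x) := by
        suffices h : ∀ q : MulAction.fixedBy (G ⧸ N) x, q.1 = ((1 : G) : G ⧸ N) from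
          ⟨fun a b => Subtype.ext ((h a).trans (h b).symm)⟩
        rintro ⟨q, hq⟩
        induction q using QuotientGroup.induction_on with
        | H g =>
          rw [MulAction.mem_fixedBy, MulAction.Quotient.smul_mk, eq_comm, QuotientGroup.eq, smul_eq_mul,
            ← mul_assoc] at hq
          have ho : orderOf (g⁻¹ * x * g) = 13 := by
            rw [show g⁻¹ * x * g = g⁻¹ * x * g⁻¹⁻¹ by rw [inv_inv], Invol.order_conj, hxo]
          have e1 := hin _ hxN hxo
          have e2 := hin _ hq ho
          show ((g : G) : G ⧸ N) = _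
          rw [QuotientGroup.eq, mul_one]
          refine Subgroup.mem_normalizer_iff_map_conj_eq.2 ?_
          conv_lhs => rw [← e1, MonoidHom.map_zpowers]
          show Subgroup.zpowers (g⁻¹ * x * g⁻¹⁻¹) = _
          rw [inv_inv, e2]
      exact Nat.card_of_subsingleton (⟨_, MulAction.mem_fixedBy.2 (one_mem_fix hxN)⟩ : MulAction.fixedBy (G ⧸ N) x)
  have hCone : ∀ x ∈ C, x ≠ 1 → ∀ q : G ⧸ N, x • q = q → q = ((1 : G) : G ⧸ N) := by
    intro x hx hx1 q hq
    obtain ⟨r, hr, hrd⟩ := Nat.exists_prime_and_dvd (fun e => hx1 (orderOf_eq_one_iff.1 e))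
    obtain ⟨k, hk⟩ := hrd
    have hd : orderOf x ∣ 39 := hC ▸ Subgroup.orderOf_dvd_natCard C hx
    have hr' : r = 3 ∨ r = 13 := by
      have : r ∣ 3 * 13 := (Dvd.intro _ hk.symm).trans hd
      rcases hr.dvd_mul.1 this with h | h
      · exact Or.inl ((Nat.prime_dvd_prime_iff_eq hr (by norm_num)).1 h)
      · exact Or.inr ((Nat.prime_dvd_prime_iff_eq hr (by norm_num)).1 h)
    have hk0 : k ≠ 0 := by
      rintro rfl
      rw [mul_zero] at hk
      exact (orderOf_pos x).ne' hk
    have ho : orderOf (x ^ k) = r := by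
      rw [orderOf_pow, hk, Nat.gcd_eq_right (dvd_mul_left k r), Nat.mul_div_cancel _ (Nat.pos_of_ne_zero hk0)]
    haveI := (Nat.card_eq_one_iff_unique.1 (hCfix r hr hr' _ (pow_mem hx k) ho)).1
    have e2 : x ^ k • q = q := by
      have : ∀ j : ℕ, x ^ j • q = q := fun j => by
        induction j with
        | zero => rw [pow_zero, one_smul]
        | succ j ih => rw [pow_succ, mul_smul, hq, ih]
      exact this k
    exact congrArg Subtype.val (Subsingleton.elim (⟨q, MulAction.mem_fixedBy.2 e2⟩ : MulAction.fixedBy (G ⧸ N) (x ^ k))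
      ⟨_, MulAction.mem_fixedBy.2 (one_mem_fix (Small.centralizer_le_normalizer _ (pow_mem hx k)))⟩)
  -- an involution inverting `P`
  obtain ⟨w, hw⟩ := exists_prime_orderOf_dvd_card' (G := N) 2 (by rw [hN78]; norm_num)
  set z : G := (w : G) with hzdef
  have hzo : orderOf z = 2 := by rw [hzdef, Subgroup.orderOf_coe, hw]
  have hzN : z ∈ N := w.2
  have hzC : z ∉ C := by
    intro h
    have := Subgroup.orderOf_dvd_natCard C h
    rw [hzo, hC] at this
    norm_num at this
  have hfl := (Small.fixed_le P hP hzN hzC).2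
  have hfl' : fix N z * 13 ≤ 52 := by rw [hmem] at hfl; exact hfl
  have h4 : 4 ∣ 40 - fix N z := hidx ▸ CommFix.four_dvd hG hne hzo
  have hf1 : 1 ≤ fix N z := (Small.fixed_le P hP hzN hzC).1
  have hfz : fix N z = 4 := by omega
  -- `z` inverts an element of order three of `C`
  have hk3 : Nat.card G = 3 ^ 1 * 1040 := by rw [hn]; norm_num
  have hs := Small.sylow_number_mem (G := C) (p := 3) (k := 1) (m := 13) (by rw [hC]; norm_num) (by norm_num)
  obtain ⟨S, hSC, hNS⟩ : ∃ R : Sylow 3 G, (R : Subgroup G) ≤ C ∧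
      N ≤ Subgroup.normalizer ((R : Subgroup G) : Set G) := by
    refine exists_char_sylow P (fun R => (Small.sylow_card hk3 (by norm_num) R).trans (pow_one 3))
      (m := 13) (by rw [← hCdef, hC]; norm_num) (by norm_num) ?_
    rw [show (Nat.divisors 13).filter (fun d => d % 3 = 1) = {1, 13} by decide +kernel,
      Finset.mem_insert, Finset.mem_singleton] at hs
    refine hs.resolve_right fun h13 => ?_
    obtain ⟨T⟩ : Nonempty (Sylow 3 C) := inferInstance
    have hTN := Small.card_normalizer_mul T
    rw [h13, hC] at hTN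
    have hle : (P : Subgroup G).subgroupOf C ≤ Subgroup.normalizer ((T : Subgroup C) : Set C) := by
      intro v hv
      refine Small.centralizer_le_normalizer _ (Subgroup.mem_centralizer_iff.2 fun w _ => ?_)
      exact Subtype.ext ((Subgroup.mem_centralizer_iff.1 w.2 _ hv).symm)
    have h5 := Subgroup.card_dvd_of_le hle
    rw [Nat.card_congr (Subgroup.subgroupOfEquivOfLe (Small.le_centralizer_self _ hP)).toEquiv, hP,
      show Nat.card (Subgroup.normalizer ((T : Subgroup C) : Set C)) = 3 by omega] at h5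
    norm_num at h5
  have hSc : Nat.card (S : Subgroup G) = 3 := (Small.sylow_card hk3 (by norm_num) S).trans (pow_one 3)
  obtain ⟨x, hxS⟩ := exists_prime_orderOf_dvd_card' (G := (S : Subgroup G)) 3 (by rw [hSc])
  have hxo : orderOf (x : G) = 3 := by rw [Subgroup.orderOf_coe, hxS]
  have hx1 : (x : G) ≠ 1 := fun e => by rw [e, orderOf_one] at hxo; omega
  have hSN : Subgroup.normalizer ((S : Subgroup G) : Set G) ≤ N := fun g hg =>
    Ord6232.mem_of_fix_one (H := N) (Small.centralizer_le_normalizer _ (hSC x.2))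
      (hCfix 3 Nat.prime_three (Or.inl rfl) _ (hSC x.2) hxo)
      (Small.centralizer_le_normalizer _ (hSC ((Subgroup.mem_normalizer_iff.1 hg _).1 x.2)))
  -- no nonidentity element of `C` commutes with `z`
  have hfree : ∀ c ∈ C, c * z = z * c → c = 1 := by
    intro c hc hcz
    by_contra hc1
    have hd : orderOf c ∣ 39 := hC ▸ Subgroup.orderOf_dvd_natCard C hc
    haveI := (inferInstance : Fact (Nat.Prime 13))
    by_cases h13 : 13 ∣ orderOf c
    · obtain ⟨k, hk⟩ := h13
      have ho : orderOf (c ^ k) = 13 := by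
        have hk0 : k ≠ 0 := fun e => by rw [e, mul_zero] at hk; exact (orderOf_pos c).ne' hk
        rw [orderOf_pow, hk, Nat.gcd_eq_right (dvd_mul_left k 13), Nat.mul_div_cancel _ (Nat.pos_of_ne_zero hk0)]
      obtain ⟨R, hR⟩ := (IsPGroup.of_card (n := 1) (by rw [Nat.card_zpowers, ho, pow_one]) :
        IsPGroup 13 (Subgroup.zpowers (c ^ k))).exists_le_sylow
      have hcP : c ^ k ∈ (P : Subgroup G) := by
        have hPR : R = P := by
          by_contra hne'
          have h1 : c ^ k ∈ N := Small.centralizer_le_normalizer _ (pow_mem hc k)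
          have h2 : IsPGroup 13 (Subgroup.zpowers (c ^ k)) :=
            IsPGroup.of_card (n := 1) (by rw [Nat.card_zpowers, ho, pow_one])
          have h3 := h2.inf_normalizer_sylow P
          have h4 : c ^ k ∈ (P : Subgroup G) := (h3.le ⟨Subgroup.mem_zpowers _, h1⟩).2
          refine hne' (Sylow.ext ?_)
          have e1 : Subgroup.zpowers (c ^ k) = (P : Subgroup G) := Subgroup.eq_of_le_of_card_ge
            (Subgroup.zpowers_le.2 h4) (by rw [hP, Nat.card_zpowers, ho])
          refine (Subgroup.eq_of_le_of_card_ge (e1 ▸ hR) ?_).symm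
          rw [hP, Nat.card_congr (Sylow.equiv R P).toEquiv, hP]
        exact hPR ▸ hR (Subgroup.mem_zpowers _)
      refine hzC (Subgroup.mem_centralizer_iff.2 fun v hv => ?_)
      have e1 : Subgroup.zpowers (c ^ k) = (P : Subgroup G) := Subgroup.eq_of_le_of_card_ge
        (Subgroup.zpowers_le.2 hcP) (by rw [hP, Nat.card_zpowers, ho])
      rw [SetLike.mem_coe, ← e1] at hv
      obtain ⟨i, rfl⟩ := Subgroup.mem_zpowers_iff.1 hv
      exact (((show Commute c z from hcz).pow_left k).zpow_left i).eq
    · -- then `c` generates the Sylow 3-subgroup, which `z` centralizes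
      have h3 : orderOf c = 3 := by
        have hco : Nat.Coprime (orderOf c) 13 :=
          ((Nat.Prime.coprime_iff_not_dvd (by norm_num)).2 h13).symm
        rcases (Nat.dvd_prime Nat.prime_three).1 (hco.dvd_of_dvd_mul_right (show orderOf c ∣ 3 * 13 by simpa using hd)) with h | h
        · exact absurd (orderOf_eq_one_iff.1 h) hc1
        · exact h
      have hcS : c ∈ (S : Subgroup G) := by
        have h2 : IsPGroup 3 (Subgroup.zpowers c) :=
          IsPGroup.of_card (n := 1) (by rw [Nat.card_zpowers, h3, pow_one])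
        exact ((h2.inf_normalizer_sylow S).le ⟨Subgroup.mem_zpowers _,
          hNS (Small.centralizer_le_normalizer _ hc)⟩).2
      have hzS : Subgroup.zpowers c = (S : Subgroup G) := Subgroup.eq_of_le_of_card_ge
        (Subgroup.zpowers_le.2 hcS) (by rw [hSc, Nat.card_zpowers, h3])
      have hSab : ∀ a ∈ (S : Subgroup G), ∀ b ∈ (S : Subgroup G), a * b = b * a := fun a ha b hb =>
        (Subgroup.mem_centralizer_iff.1 (Small.le_centralizer_self _ hSc hb) a ha)
      refine hc1 (Ord6232.focal_eq_one hG S hSab hcS fun g hg => ?_)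
      have hgN := hSN hg
      have hidx2 : (C.subgroupOf N).index = 2 := by
        have := (C.subgroupOf N).card_mul_index
        rw [Nat.card_congr (Subgroup.subgroupOfEquivOfLe (Small.centralizer_le_normalizer _)).toEquiv,
          ← hCdef, hC, hN78] at this
        omega
      have hCc : ∀ e ∈ C, e * c = c * e := by
        intro e he
        have h1 : c ∈ (S : Subgroup G) := hcS
        have hd := Small.card_normalizer_dvd (S : Subgroup G) hSc
        have he' : e ∈ Subgroup.normalizer ((S : Subgroup G) : Set G) := hNS (Small.centralizer_le_normalizer _ he)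
        have hconj : e * c * e⁻¹ ∈ (S : Subgroup G) := (Subgroup.mem_normalizer_iff.1 he' c).1 h1
        rw [← hzS] at hconj
        obtain ⟨i, hi⟩ := Subgroup.mem_zpowers_iff.1 hconj
        have hi' : e * c * e⁻¹ = c ^ (i % 3) := by
          rw [← hi, show (3 : ℤ) = ((orderOf c : ℕ) : ℤ) by rw [h3]; rfl, zpow_mod_orderOf]
        obtain ei | ei | ei : i % 3 = 0 ∨ i % 3 = 1 ∨ i % 3 = 2 := by omega
        · rw [ei, zpow_zero] at hi'; exact absurd (conj_eq_one_iff.1 hi') hc1
        · rw [ei, zpow_one] at hi'; exact mul_inv_eq_iff_eq_mul.1 hi'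
        · -- an element of odd order inverting `c`
          exfalso
          rw [ei] at hi'
          have hinv : e * c * e⁻¹ = c⁻¹ := by
            rw [hi', eq_inv_iff_mul_eq_one, ← zpow_add_one]
            norm_num
            exact_mod_cast (h3 ▸ pow_orderOf_eq_one c : c ^ 3 = 1)
          obtain ⟨j, hj⟩ : Odd (orderOf e) :=
            Odd.of_dvd_nat (by decide : Odd 39) (hC ▸ Subgroup.orderOf_dvd_natCard C he)
          have hstep : ∀ l : ℕ, e ^ (2 * l) * c * (e ^ (2 * l))⁻¹ = c := by
            intro l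
            induction l with
            | zero => simp
            | succ l ih =>
              calc e ^ (2 * (l + 1)) * c * (e ^ (2 * (l + 1)))⁻¹
                  = e * (e * (e ^ (2 * l) * c * (e ^ (2 * l))⁻¹) * e⁻¹) * e⁻¹ := by
                    rw [show 2 * (l + 1) = 1 + (1 + 2 * l) by ring, pow_add, pow_add, pow_one]; group
                _ = e * c⁻¹ * e⁻¹ := by rw [ih, hinv]
                _ = c := by rw [← conj_inv, hinv, inv_inv]
          have := hstep j
          have he1 : e ^ (2 * j) * e = 1 := by rw [← pow_succ, ← hj]; exact pow_orderOf_eq_one e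
          rw [eq_inv_of_mul_eq_one_left he1, inv_inv] at this
          have h' : c⁻¹ = c := by
            calc c⁻¹ = e * c * e⁻¹ := hinv.symm
              _ = e * (e⁻¹ * c * e) * e⁻¹ := by rw [this]
              _ = c := by group
          have : c * c = 1 := by nth_rewrite 1 [← h']; exact inv_mul_cancel c
          have := orderOf_dvd_of_pow_eq_one (show c ^ 2 = 1 by rw [pow_two]; assumption)
          rw [h3] at this; norm_num at this
      by_cases hgC : g ∈ C
      · exact hCc g hgC
      · have h1 : z * g ∈ C := by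
          have := (Subgroup.mul_mem_iff_of_index_two hidx2 (a := (⟨z, hzN⟩ : N)) (b := ⟨g, hgN⟩)).2
            (iff_of_false (fun h => hzC (Subgroup.mem_subgroupOf.1 h)) fun h => hgC (Subgroup.mem_subgroupOf.1 h))
          exact Subgroup.mem_subgroupOf.1 this
        calc g * c = z * (z * g * c) := by
              rw [← mul_assoc, ← mul_assoc, Invol.mul_self hzo, one_mul]
          _ = z * c * (z * g) := by rw [hCc _ h1, mul_assoc]
          _ = c * g := by rw [← hcz, mul_assoc, ← mul_assoc z z, Invol.mul_self hzo, one_mul]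
  -- the conjugates of `z` under `C` move too many points
  let X := {q : G ⧸ N // q ≠ ((1 : G) : G ⧸ N)}
  let Z := {q : G ⧸ N // z • q = q ∧ q ≠ ((1 : G) : G ⧸ N)}
  have hidx2 : (C.subgroupOf N).index = 2 := by
    have := (C.subgroupOf N).card_mul_index
    rw [Nat.card_congr (Subgroup.subgroupOfEquivOfLe (Small.centralizer_le_normalizer _)).toEquiv,
      ← hCdef, hC, hN78] at this
    omega
  let F : C × Z → X := fun p => ⟨(p.1 : G) • p.2.1, fun e => p.2.2.2 (by
    have h2 : (p.1 : G)⁻¹ • ((1 : G) : G ⧸ N) = ((1 : G) : G ⧸ N) :=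
      one_mem_fix (inv_mem (Small.centralizer_le_normalizer _ p.1.2))
    rw [← inv_smul_smul (p.1 : G) p.2.1, e, h2])⟩
  have hF : Function.Injective F := by
    rintro ⟨g, q⟩ ⟨g', q'⟩ he
    have he' : (g : G) • q.1 = (g' : G) • q'.1 := congrArg Subtype.val he
    -- `a := g'⁻¹ g` carries `q` to `q'`
    set a : G := (g' : G)⁻¹ * g with hadef
    have haC : a ∈ C := mul_mem (inv_mem g'.2) g.2
    have haq : a • q.1 = q'.1 := by rw [hadef, mul_smul, he', inv_smul_smul]
    have hfix : (a * z * a⁻¹ * z) • q'.1 = q'.1 := by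
      rw [mul_smul, q'.2.1, mul_smul, mul_smul, show a⁻¹ • q'.1 = q.1 by rw [← haq, inv_smul_smul], q.2.1, haq]
    have hmemC : a * z * a⁻¹ * z ∈ C := by
      have hn' : (C.subgroupOf N).Normal := Subgroup.normal_of_index_eq_two hidx2
      have h1 := hn'.conj_mem ⟨a⁻¹, inv_mem (Small.centralizer_le_normalizer _ haC)⟩
        (show a⁻¹ ∈ C from inv_mem haC) ⟨z, hzN⟩
      have h2 : z * a⁻¹ * z⁻¹ ∈ C := h1
      rw [Invol.inv_self hzo] at h2
      have := mul_mem haC h2
      simpa [mul_assoc] using this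
    have heq : a * z * a⁻¹ * z = 1 := by
      by_contra hne1
      exact q'.2.2 (hCone _ hmemC hne1 _ hfix)
    have ha1 : a = 1 := hfree a haC (by
      have := congrArg (fun e => e * z * a) heq
      simpa [mul_assoc, Invol.mul_self hzo, ← mul_assoc z z] using this)
    have hg : g = g' := Subtype.ext (inv_mul_eq_one.1 (hadef ▸ ha1)).symm
    subst hg
    exact Prod.ext rfl (Subtype.ext (smul_left_cancel _ he'))
  have hle := Nat.card_le_card_of_injective F hF
  have hXc : Nat.card X + 1 = 40 := by
    have := Nat.card_congr (Equiv.optionSubtypeNe (((1 : G) : G ⧸ N)))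
    rw [Finite.card_option] at this
    rw [← hidx, Subgroup.index_eq_card]
    exact this
  have hZc : Nat.card Z + 1 = 4 := by
    have := Nat.card_congr (Equiv.optionSubtypeNe (α := MulAction.fixedBy (G ⧸ N) z)
      ⟨((1 : G) : G ⧸ N), MulAction.mem_fixedBy.2 (one_mem_fix hzN)⟩)
    rw [Finite.card_option] at this
    refine Eq.trans ?_ hfz
    rw [fix, ← this]
    congr 1
    exact Nat.card_congr
      { toFun := fun q => ⟨⟨q.1, MulAction.mem_fixedBy.2 q.2.1⟩, fun e => q.2.2 (congrArg Subtype.val e)⟩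
        invFun := fun q => ⟨q.1.1, MulAction.mem_fixedBy.1 q.1.2, fun e => q.2 (Subtype.ext e)⟩
        left_inv := fun q => rfl
        right_inv := fun q => rfl }
  rw [Nat.card_prod, hC] at hle
  omega

end Cfsg.Agent.Ord3640
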