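import Cfsg.Agent.Lib.GW.Main
import Cfsg.Agent.Lib.Small.Orders3640.Eight
import Cfsg.Agent.Lib.Classical.DicksonProper
import Cfsg.Agent.S0992

/-!
Orders up to 3640 of simple groups with small Sylow 2-subgroups.
-/

set_option autoImplicit false
set_option linter.style.haveILetI false

namespace Cfsg.Agent.Ord3640

universe u

variable {G : Type u} [Group G] [Finite G] [IsSimpleGroup G]

/-- The orders of the groups `PSL(2, q)`, `q` odd, and `A₇` up to `3640`. -/
theorem card_of_dihedral (T : Sylow 2 G) {n : ℕ} (hn : 2 ≤ n)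
    (e : Nonempty ((T : Subgroup G) ≃* DihedralGroup n)) (hle : Nat.card G ≤ 3640) :
    Nat.card G ∈ ({60, 168, 360, 660, 1092, 2448, 2520, 3420} : Finset ℕ) := by
  rcases GW.simpleDihedral G T n hn e with ⟨F, _, _, hodd, h3, ⟨e'⟩⟩ | ⟨⟨e'⟩⟩
  · have hc := Dickson.gcd_mul_card_psl (K := F)
    rw [Nat.card_eq_fintype_card (α := F), ← Nat.card_congr e'.toEquiv] at hc
    have hpp := FiniteField.isPrimePow_card F
    generalize hq : Fintype.card F = q at hc hodd h3 hpp
    obtain ⟨k, rfl⟩ := hodd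
    have hg : Nat.gcd 2 (2 * k + 1 - 1) = 2 := by
      rw [Nat.add_sub_cancel]
      exact Nat.gcd_eq_left (dvd_mul_right 2 k)
    rw [hg] at hc
    have hk : k ≤ 9 := by
      by_contra hlt
      have h21 : 21 * (21 ^ 2 - 1) ≤ (2 * k + 1) * ((2 * k + 1) ^ 2 - 1) :=
        Nat.mul_le_mul (by omega) (Nat.sub_le_sub_right (Nat.pow_le_pow_left (by omega) 2) 1)
      omega
    interval_cases k <;> norm_num at hc h3 <;> simp only [Finset.mem_insert, Finset.mem_singleton] <;>
      first
      | omega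
      | (exfalso
         obtain ⟨p, a, hp, ha, hpa⟩ := hpp
         norm_num at hpa
         have hp' : p.Prime := hp.nat_prime
         have h3 : p ∣ 15 := hpa ▸ dvd_pow_self p ha.ne'
         have h5 : p = 3 ∨ p = 5 := by
           rcases (Nat.Prime.dvd_mul hp').1 (show p ∣ 3 * 5 by simpa using h3) with h | h
           · exact Or.inl ((Nat.prime_dvd_prime_iff_eq hp' (by norm_num)).1 h)
           · exact Or.inr ((Nat.prime_dvd_prime_iff_eq hp' (by norm_num)).1 h)
         have ha3 : a < 3 := by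
           by_contra hlt
           have : 3 ^ 3 ≤ p ^ a := (Nat.pow_le_pow_left (by omega) 3).trans (Nat.pow_le_pow_right (by omega) (by omega))
           omega
         rcases h5 with rfl | rfl <;> interval_cases a <;> norm_num at hpa)
  · rw [Nat.card_congr e'.toEquiv, nat_card_alternatingGroup, Nat.card_eq_fintype_card, Fintype.card_fin]
    decide

/-- Orders `4 * odd`. -/
theorem card_of_four (hG : ¬ IsMulCommutative G) (h4 : 4 ∣ Nat.card G) (h8 : ¬ 8 ∣ Nat.card G)
    (hle : Nat.card G ≤ 3640) : Nat.card G ∈ ({60, 168, 360, 660, 1092, 2448, 2520, 3420} : Finset ℕ) := by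
  haveI : Fact (Nat.Prime 2) := ⟨Nat.prime_two⟩
  obtain ⟨T⟩ : Nonempty (Sylow 2 G) := inferInstance
  haveI := (S0992.result hG (even_iff_two_dvd.2 ((show 2 ∣ 4 by norm_num).trans h4)) h8 T).1
  exact card_of_dihedral T le_rfl IsKleinFour.nonempty_mulEquiv hle

/-- Orders `8 * odd`, prime to seven. -/
theorem card_of_eight (hG : ¬ IsMulCommutative G) {m : ℕ} (hm : Nat.card G = 2 ^ 3 * m) (h2 : ¬ 2 ∣ m)
    (h7 : ¬ 7 ∣ m) (hle : Nat.card G ≤ 3640) :
    Nat.card G ∈ ({60, 168, 360, 660, 1092, 2448, 2520, 3420} : Finset ℕ) := by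
  haveI : Fact (Nat.Prime 2) := ⟨Nat.prime_two⟩
  obtain ⟨T⟩ : Nonempty (Sylow 2 G) := inferInstance
  have hT : Nat.card (T : Subgroup G) = 8 := by rw [Small.sylow_card hm h2 T]; norm_num
  rcases eight_cases hG T hT with e | ⟨-, -, h, -⟩
  · exact card_of_dihedral T (by norm_num) e hle
  · exfalso
    have h' : 7 ∣ 2 ^ 3 * m := hm ▸ h.trans (Subgroup.card_subgroup_dvd_card _)
    exact h7 ((Nat.Coprime.dvd_mul_left (by norm_num)).1 h')

end Cfsg.Agent.Ord3640
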