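import Cfsg.Agent.Lib.Small.Orders3640.CasesA
import Cfsg.Agent.Lib.Small.Orders3640.Dihedral
import Cfsg.Agent.S3189
import Cfsg.Agent.Lib.Char.Burnside

/-!
There is no simple group of order 1512.
-/

set_option autoImplicit false
set_option linter.unusedSectionVars false
set_option linter.style.haveILetI false

open Cfsg.Agent.CommFix

namespace Cfsg.Agent.Ord3640

universe u

variable {G : Type u} [Group G] [Finite G] [IsSimpleGroup G]

/-- An involution in `N(P)` has centralizer of order twenty-four. -/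
theorem centralizer_1512 (hn : Nat.card G = 1512) {z : G} (hz : orderOf z = 2)
    (h8 : 8 ∣ Nat.card (Subgroup.centralizer ({z} : Set G))) [Fact (Nat.Prime 7)] (P : Sylow 7 G)
    (hP : Nat.card (P : Subgroup G) = 7) (hn7 : Nat.card (Sylow 7 G) = 36)
    (hzN : z ∈ Subgroup.normalizer ((P : Subgroup G) : Set G)) :
    Nat.card (Subgroup.centralizer ({z} : Set G)) = 24 := by
  classical
  have hnp : ¬ (Nat.card G).Prime := by rw [hn]; norm_num
  have hG := Small.not_comm_of_card hnp
  set N := Subgroup.normalizer ((P : Subgroup G) : Set G) with hNdef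
  have hCcard := centralizer_of_three (a := 3) (b := 3) (by rw [hn]; norm_num) P hP
  set C := Subgroup.centralizer ((P : Subgroup G) : Set G) with hCdef
  have hCP : C = (P : Subgroup G) :=
    (Subgroup.eq_of_le_of_card_ge (Small.le_centralizer_self _ hP) (by rw [← hCdef, hCcard, hP])).symm
  have hidx : N.index = 36 := by rw [← Small.card_eq_index P, hn7]
  have hNc : Nat.card N = 42 := by
    have := N.card_mul_index
    rw [hidx, hn] at this
    omega
  have hne : N ≠ ⊤ := fun h => by rw [h, Subgroup.index_top] at hidx; omega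
  obtain ⟨y₀, hy⟩ := exists_prime_orderOf_dvd_card' (G := (P : Subgroup G)) 7 (dvd_of_eq hP.symm)
  generalize hy0 : (y₀ : G) = y
  have hyP : y ∈ (P : Subgroup G) := hy0 ▸ y₀.2
  have hyo : orderOf y = 7 := by rw [← hy0, Subgroup.orderOf_coe, hy]
  have hgen : Subgroup.zpowers y = (P : Subgroup G) :=
    Subgroup.eq_of_le_of_card_ge (Subgroup.zpowers_le.2 hyP) (by rw [Nat.card_zpowers, hyo, hP])
  have hnot : ∀ g : G, orderOf g = 2 → g ∉ C := fun g hg h => by
    have := Subgroup.orderOf_dvd_natCard C h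
    rw [hg, hCcard] at this
    norm_num at this
  have hcomm : ∀ g : G, g * y = y * g → g ∈ C := fun g hg => by
    refine Subgroup.mem_centralizer_iff.2 fun v hv => ?_
    rw [SetLike.mem_coe, ← hgen] at hv
    obtain ⟨i, rfl⟩ := Subgroup.mem_zpowers_iff.1 hv
    exact ((show Commute g y from hg).zpow_right i).eq.symm
  have hinv : ∀ g : G, g ∈ N → orderOf g = 2 → g * y * g⁻¹ = y⁻¹ := by
    intro g hg hgo
    obtain ⟨k, hk⟩ := Subgroup.mem_zpowers_iff.1 (hgen ▸ (Subgroup.mem_normalizer_iff.1 hg y).1 hyP :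
      g * y * g⁻¹ ∈ Subgroup.zpowers y)
    have h2 : y ^ (k * k) = y := by
      calc y ^ (k * k) = (g * y * g⁻¹) ^ k := by rw [← hk, zpow_mul]
        _ = g * y ^ k * g⁻¹ := conj_zpow
        _ = g * g * y * (g * g)⁻¹ := by rw [hk]; group
        _ = y := by rw [Invol.mul_self hgo]; group
    have h7 : (7 : ℤ) ∣ k * k - 1 := by
      have : y ^ (k * k - 1) = 1 := by rw [zpow_sub, h2, zpow_one, mul_inv_cancel]
      have := orderOf_dvd_iff_zpow_eq_one.2 this
      rwa [hyo] at this
    have h7' : (7 : ℤ) ∣ (k - 1) * (k + 1) := by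
      rw [show (k - 1) * (k + 1) = k * k - 1 by ring]; exact h7
    rcases Int.Prime.dvd_mul' (by norm_num : Nat.Prime 7) h7' with h | h
    · exfalso
      refine hnot g hgo (hcomm g (mul_inv_eq_iff_eq_mul.1 ?_))
      rw [← hk]
      have : y ^ (k - 1) = 1 := orderOf_dvd_iff_zpow_eq_one.1 (by rw [hyo]; exact h)
      rwa [zpow_sub, zpow_one, mul_inv_eq_one] at this
    · rw [← hk, eq_inv_iff_mul_eq_one, ← zpow_add_one]
      exact orderOf_dvd_iff_zpow_eq_one.1 (by rw [hyo]; exact h)
  -- at most seven conjugates of `z` lie in `N`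
  have ha : Nat.card {g : G // IsConj z g ∧ g ∈ N} ≤ 7 := by
    rw [← hP, ← hCP]
    refine Nat.card_le_card_of_injective
      (fun g : {g : G // IsConj z g ∧ g ∈ N} => (⟨z * g.1, hcomm _ ?_⟩ : C))
      fun a b hab => Subtype.ext (mul_left_cancel (congrArg Subtype.val hab))
    obtain ⟨x, hx⟩ := isConj_iff.1 g.2.1
    have hgo : orderOf g.1 = 2 := by rw [← hx, Invol.order_conj, hz]
    have e1 := hinv z hzN hz
    have e2 := hinv g.1 g.2.2 hgo
    calc z * g.1 * y = z * (g.1 * y * g.1⁻¹) * g.1 := by group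
      _ = z * y⁻¹ * g.1 := by rw [e2]
      _ = (z * y * z⁻¹)⁻¹ * (z * g.1) := by group
      _ = y * (z * g.1) := by rw [e1, inv_inv]
  have hpos : 0 < Nat.card {g : G // IsConj z g ∧ g ∈ N} :=
    Nat.card_pos_iff.2 ⟨⟨⟨z, IsConj.refl z, hzN⟩⟩, inferInstance⟩
  have hzC : z ∉ C := hnot z hz
  have hf := (Small.fixed_le P hP hzN hzC).2
  have hf1 := (Small.fixed_le P hP hzN hzC).1
  rw [hn7] at hf
  have h4 : 4 ∣ 36 - fix N z := hidx ▸ CommFix.four_dvd hG hne hz
  have hfz : fix N z = 4 := by
    have : fix N z * 7 ≤ 42 := hf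
    have : 1 ≤ fix N z := hf1
    omega
  have heq := fix_eq N hzN
  rw [hfz, hNc] at heq
  set c := Nat.card (Subgroup.centralizer ({z} : Set G)) with hcdef
  set a := Nat.card {g : G // IsConj z g ∧ g ∈ N} with hadef
  have h7c : ¬ 7 ∣ c := by
    intro h7
    obtain ⟨v, hv⟩ := exists_prime_orderOf_dvd_card' (G := Subgroup.centralizer ({z} : Set G)) 7 h7
    have hvo : orderOf (v : G) = 7 := by rw [Subgroup.orderOf_coe, hv]
    have hz' : z ∈ Subgroup.centralizer ({(v : G)} : Set G) := Subgroup.mem_centralizer_singleton_iff.2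
      (Subgroup.mem_centralizer_singleton_iff.1 v.2).symm
    rw [S1001.result 7 3 3 (by norm_num) (by rw [hn]; norm_num) (v : G) hvo] at hz'
    have := Subgroup.orderOf_dvd_natCard _ hz'
    rw [hz, Nat.card_zpowers, hvo] at this
    norm_num at this
  obtain ⟨b, hb⟩ := h8
  have hab : b * a = 21 := by
    rw [hb] at heq
    have : 8 * (b * a) = 4 * 42 := by rw [← mul_assoc]; exact heq
    omega
  have hb7 : ¬ 7 ∣ b := fun h => h7c (hb ▸ dvd_mul_of_dvd_right h 8)
  have : b ≤ 21 := Nat.le_of_dvd (by norm_num) (Dvd.intro a hab)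
  interval_cases b <;> omega

set_option maxHeartbeats 1600000 in
theorem card_ne_1512 : Nat.card G ≠ 1512 := by
  classical
  intro hn
  haveI : Fact (Nat.Prime 7) := ⟨by norm_num⟩
  haveI : Fact (Nat.Prime 2) := ⟨Nat.prime_two⟩
  haveI : Fact (Nat.Prime 3) := ⟨by norm_num⟩
  have hnp : ¬ (Nat.card G).Prime := by rw [hn]; norm_num
  have hG := Small.not_comm_of_card hnp
  obtain ⟨P, hP, hmem, -, hN7, -⟩ := OrdersExcl.setup hG (p := 7) 216 hn (by norm_num) (by norm_num)
  rw [show ((Nat.divisors 216).filter (fun d => d % 7 = 1)).erase 1 = {8, 36} by decide +kernel,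
    Finset.mem_insert, Finset.mem_singleton] at hmem
  have hn7 : Nat.card (Sylow 7 G) = 36 := hmem.resolve_left fun h => by
    have h2 := OrderTools.two_mul_card_normalizer_dvd hG (by norm_num) P hP h
    rw [h] at hN7
    rw [show Nat.card (Subgroup.normalizer ((P : Subgroup G) : Set G)) = 189 by omega] at h2
    norm_num at h2
  rw [hn7] at hN7
  have hk2 : Nat.card G = 2 ^ 3 * 189 := by rw [hn]; norm_num
  obtain ⟨T⟩ : Nonempty (Sylow 2 G) := inferInstance
  have hTc : Nat.card (T : Subgroup G) = 8 := by rw [Small.sylow_card hk2 (by norm_num) T]; norm_num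
  rcases eight_cases hG T hTc with e | ⟨hab, hexp, h7, htr⟩
  · have := card_of_dihedral T (by norm_num) e (by omega)
    rw [hn] at this
    simp at this
  set NT := Subgroup.normalizer ((T : Subgroup G) : Set G) with hNTdef
  have hconj : ∀ s : G, orderOf s = 2 → ∃ s' ∈ (T : Subgroup G), s' ≠ 1 ∧ IsConj s s' := by
    intro s hs
    obtain ⟨R, hR⟩ := (IsPGroup.of_card (n := 1) (by rw [Nat.card_zpowers, hs, pow_one]) :
      IsPGroup 2 (Subgroup.zpowers s)).exists_le_sylow
    obtain ⟨g, hg⟩ := MulAction.exists_smul_eq G R T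
    have hmem : g * s * g⁻¹ ∈ (T : Subgroup G) := by
      rw [← hg, Sylow.coe_subgroup_smul]
      exact Subgroup.smul_mem_pointwise_smul s (MulAut.conj g) _ (hR (Subgroup.mem_zpowers s))
    exact ⟨_, hmem, fun e => Invol.ne_one hs (conj_eq_one_iff.1 e), isConj_iff.2 ⟨g, rfl⟩⟩
  have hTle : ∀ s ∈ (T : Subgroup G), (T : Subgroup G) ≤ Subgroup.centralizer ({s} : Set G) :=
    fun s hs v hv => Subgroup.mem_centralizer_singleton_iff.2 (hab v hv s hs)
  -- all involution centralizers have order twenty-four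
  obtain ⟨w, hw⟩ := exists_prime_orderOf_dvd_card' (G := Subgroup.normalizer ((P : Subgroup G) : Set G)) 2
    (by rw [show Nat.card (Subgroup.normalizer ((P : Subgroup G) : Set G)) = 42 by omega]; norm_num)
  have hwo : orderOf (w : G) = 2 := by rw [Subgroup.orderOf_coe, hw]
  obtain ⟨w', hw'T, hw'1, hww'⟩ := hconj w hwo
  have h24 : ∀ s ∈ (T : Subgroup G), s ≠ 1 → Nat.card (Subgroup.centralizer ({s} : Set G)) = 24 := by
    intro s hs hs1
    obtain ⟨g, -, hg⟩ := htr w' hw'T s hs hw'1 hs1
    rw [CommFix.card_centralizer_conj ((hww'.trans (isConj_iff.2 ⟨g, hg⟩)).symm)]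
    refine centralizer_1512 hn hwo ?_ P hP hn7 w.2
    rw [CommFix.card_centralizer_conj hww', ← hTc]
    exact Subgroup.card_dvd_of_le (hTle w' hw'T)
  have hsol : ∀ s : G, orderOf s = 2 → Group.IsSolvable (Subgroup.centralizer ({s} : Set G)) := by
    intro s hs
    obtain ⟨s', hs', hs'1, hss'⟩ := hconj s hs
    exact Char.isSolvable_of_card_pq 2 3 Nat.prime_two Nat.prime_three _ _ rfl
      ⟨3, 1, by rw [CommFix.card_centralizer_conj hss', h24 s' hs' hs'1]; norm_num⟩
  have h37 := S3189.result hG T ⟨⟨⟨fun a b => Subtype.ext (hab a a.2 b b.2)⟩⟩, fun a ha => by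
    by_cases ha1 : a = 1
    · rw [ha1, one_pow]
    · rw [← hexp a ha ha1]; exact pow_orderOf_eq_one a⟩ hTc hsol
  set CT := Subgroup.centralizer ((T : Subgroup G) : Set G) with hCTdef
  have hTCT : (T : Subgroup G) ≤ CT := fun v hv => Subgroup.mem_centralizer_iff.2 fun u hu => hab u hu v hv
  have hTne : ∃ t ∈ (T : Subgroup G), t ≠ 1 := ⟨w', hw'T, hw'1⟩
  obtain ⟨t₀, ht₀, ht₀1⟩ := hTne
  have hCTle : ∀ s ∈ (T : Subgroup G), CT ≤ Subgroup.centralizer ({s} : Set G) :=
    fun s hs => Subgroup.centralizer_le (Set.singleton_subset_iff.2 hs)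
  have hCT : Nat.card CT = 8 ∨ Nat.card CT = 24 := by
    have h1 := Subgroup.card_dvd_of_le hTCT
    have h2 := Subgroup.card_dvd_of_le (hCTle t₀ ht₀)
    rw [hTc] at h1
    rw [h24 t₀ ht₀ ht₀1] at h2
    obtain ⟨b, hb⟩ := h1
    rw [hb] at h2 ⊢
    have : b ∣ 3 := Nat.dvd_of_mul_dvd_mul_left (by norm_num : 0 < 8) h2
    rcases (Nat.dvd_prime Nat.prime_three).1 this with rfl | rfl <;> norm_num
  have hNTc : Nat.card NT = Nat.card CT * 7 := by
    have := (CT.subgroupOf NT).card_mul_index
    rw [Nat.card_congr (Subgroup.subgroupOfEquivOfLe (Small.centralizer_le_normalizer _)).toEquiv] at this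
    rw [← this]
    exact congrArg _ h37
  rcases hCT with hCT | hCT
  swap
  · -- an element of order seven centralizes the Sylow 3-subgroup of `C(T)`
    have hCT3 : Nat.card CT = 3 ^ 1 * 8 := by rw [hCT]; norm_num
    obtain ⟨S⟩ : Nonempty (Sylow 3 CT) := inferInstance
    have hS : Nat.card (S : Subgroup CT) = 3 := (Small.sylow_card hCT3 (by norm_num) S).trans (pow_one 3)
    have hTS : (T : Subgroup G).subgroupOf CT ≤ Subgroup.normalizer ((S : Subgroup CT) : Set CT) := by
      intro v hv
      refine Small.centralizer_le_normalizer _ (Subgroup.mem_centralizer_iff.2 fun u _ => ?_)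
      exact Subtype.ext ((Subgroup.mem_centralizer_iff.1 u.2 _ hv).symm)
    have h8 := Subgroup.card_dvd_of_le hTS
    rw [Nat.card_congr (Subgroup.subgroupOfEquivOfLe hTCT).toEquiv, hTc] at h8
    have hs := Small.card_normalizer_mul S
    rw [hCT] at hs
    have hs1 : Nat.card (Sylow 3 CT) = 1 := by
      have h3 : 3 ∣ Nat.card (Subgroup.normalizer ((S : Subgroup CT) : Set CT)) :=
        hS.symm.dvd.trans (Subgroup.card_dvd_of_le Subgroup.le_normalizer)
      obtain ⟨j, hj⟩ := Nat.Coprime.mul_dvd_of_dvd_of_dvd (by norm_num : Nat.Coprime 8 3) h8 h3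
      rw [hj] at hs
      have : j * Nat.card (Sylow 3 CT) = 1 := by
        rw [mul_assoc] at hs
        omega
      exact Nat.eq_one_of_mul_eq_one_left this
    haveI := (Nat.card_eq_one_iff_unique.1 hs1).1
    obtain ⟨v, hv⟩ := exists_prime_orderOf_dvd_card' (G := NT) 7 h7
    have hvo : orderOf (v : G) = 7 := by rw [Subgroup.orderOf_coe, hv]
    set O := (S : Subgroup CT).map CT.subtype with hOdef
    have hOc : Nat.card O = 3 := by rw [hOdef, Subgroup.card_map_of_injective CT.subtype_injective, hS]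
    have hOk : O ≤ CT := Subgroup.map_subtype_le _
    have hvO : (v : G) ∈ Subgroup.normalizer (O : Set G) := by
      refine Subgroup.mem_normalizer_iff_map_conj_eq.2 ?_
      set O' := O.map (MulAut.conj (v : G)).toMonoidHom with hO'
      have hO'le : O' ≤ CT := by
        rintro _ ⟨u, hu, rfl⟩
        refine Subgroup.mem_centralizer_iff.2 fun t ht => ?_
        have := Subgroup.mem_centralizer_iff.1 (hOk hu) _ ((Subgroup.mem_normalizer_iff''.1 v.2 t).1 ht)
        show t * ((v : G) * u * (v : G)⁻¹) = (v : G) * u * (v : G)⁻¹ * t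
        calc t * ((v : G) * u * (v : G)⁻¹) = (v : G) * (((v : G)⁻¹ * t * v) * u) * (v : G)⁻¹ := by group
          _ = _ := by rw [this]; group
      have hO'c : Nat.card O' = 3 := by
        rw [hO', Subgroup.card_map_of_injective (MulEquiv.injective _), hOc]
      obtain ⟨S', hS'⟩ := (IsPGroup.of_card (n := 1) (by
          rw [Nat.card_congr (Subgroup.subgroupOfEquivOfLe hO'le).toEquiv, hO'c, pow_one]) :
        IsPGroup 3 (O'.subgroupOf CT)).exists_le_sylow
      rw [Subsingleton.elim S' S] at hS'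
      have hSS : O'.subgroupOf CT = (S : Subgroup CT) := Subgroup.eq_of_le_of_card_ge hS' (by
          rw [Nat.card_congr (Subgroup.subgroupOfEquivOfLe hO'le).toEquiv, hO'c, hS])
      show O' = O
      rw [hOdef, ← hSS, Subgroup.map_subgroupOf_eq_of_le hO'le]
    have hd := Small.card_normalizer_dvd O hOc
    have h7N : 7 ∣ Nat.card (Subgroup.normalizer (O : Set G)) := hvo ▸ Subgroup.orderOf_dvd_natCard _ hvO
    have h7C : 7 ∣ Nat.card (Subgroup.centralizer (O : Set G)) :=
      (Nat.Coprime.dvd_of_dvd_mul_right (by norm_num) (h7N.trans hd))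
    obtain ⟨u, hu⟩ := exists_prime_orderOf_dvd_card' (G := Subgroup.centralizer (O : Set G)) 7 h7C
    have huo : orderOf (u : G) = 7 := by rw [Subgroup.orderOf_coe, hu]
    have hOu : O ≤ Subgroup.centralizer ({(u : G)} : Set G) := fun o ho =>
      Subgroup.mem_centralizer_singleton_iff.2 (Subgroup.mem_centralizer_iff.1 u.2 o ho)
    rw [S1001.result 7 3 3 (by norm_num) (by rw [hn]; norm_num) (u : G) huo] at hOu
    have := Subgroup.card_dvd_of_le hOu
    rw [hOc, Nat.card_zpowers, huo] at this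
    norm_num at this
  -- now `N(T)` has order 56
  have hNT : Nat.card NT = 56 := by rw [hNTc, hCT]
  -- the stabilizer in `N(T)` of an involution of `T` is `T`
  have hstab : ∀ t ∈ (T : Subgroup G), t ≠ 1 → ∀ g ∈ NT, g * t = t * g → g ∈ (T : Subgroup G) := by
    intro t ht ht1 g hg hgt
    have hle : (T : Subgroup G) ≤ NT ⊓ Subgroup.centralizer ({t} : Set G) :=
      le_inf Subgroup.le_normalizer (hTle t ht)
    have h1 := Subgroup.card_dvd_of_le (inf_le_left : NT ⊓ Subgroup.centralizer ({t} : Set G) ≤ NT)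
    have h2 := Subgroup.card_dvd_of_le (inf_le_right : NT ⊓ Subgroup.centralizer ({t} : Set G) ≤ _)
    rw [h24 t ht ht1] at h2
    rw [hNT] at h1
    have h3 := Nat.le_of_dvd (by norm_num) (Nat.dvd_gcd h1 h2)
    rw [show Nat.gcd 56 24 = 8 by norm_num] at h3
    rw [Subgroup.eq_of_le_of_card_ge hle (h3.trans hTc.ge)]
    exact ⟨hg, Subgroup.mem_centralizer_singleton_iff.2 hgt⟩
  let X := {x : (T : Subgroup G) // (x : G) ≠ 1}
  letI := Fintype.ofFinite X
  have hX : Fintype.card X = 7 := by
    rw [← Nat.card_eq_fintype_card]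
    have h1 := Nat.card_congr (Equiv.optionSubtypeNe (1 : (T : Subgroup G)))
    rw [Finite.card_option, hTc] at h1
    have h2 : Nat.card X = Nat.card {x : (T : Subgroup G) // x ≠ 1} :=
      Nat.card_congr (Equiv.subtypeEquivRight fun x =>
        ⟨fun h e => h (e ▸ rfl), fun h e => h (Subtype.ext e)⟩)
    omega
  let f : X → Subgroup G := fun x => Subgroup.centralizer ({(x.1 : G)} : Set G)
  have hfib : ∀ x : X, (Finset.univ.filter fun y => f y = f x).card = 3 := by
    intro x
    set t : G := (x.1 : G) with htdef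
    have ht : t ∈ (T : Subgroup G) := x.1.2
    have ht1 : t ≠ 1 := x.2
    set M := Subgroup.centralizer ({t} : Set G) with hMdef
    have hM : Nat.card M = 24 := h24 t ht ht1
    have hTM := hTle t ht
    -- a normal subgroup of order three of `M`
    have hab' : ∀ a ∈ ((T.subtype hTM : Sylow 2 M) : Subgroup M), ∀ b ∈ ((T.subtype hTM : Sylow 2 M) : Subgroup M),
        a * b = b * a := fun a ha b hb => Subtype.ext (hab a ha b hb)
    have hle' : Subgroup.normalizer (((T.subtype hTM : Sylow 2 M) : Subgroup M) : Set M) ≤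
        Subgroup.centralizer ((T.subtype hTM : Sylow 2 M) : Set M) := by
      intro g hg
      have hgN : (g : G) ∈ NT := by
        rw [hNTdef, Subgroup.mem_normalizer_iff]
        intro v
        constructor
        · intro hv
          exact (Subgroup.mem_normalizer_iff.1 hg ⟨v, hTM hv⟩).1 hv
        · intro hv
          have hvM : v ∈ M := by
            have := M.mul_mem (M.mul_mem (M.inv_mem g.2) (hTM hv)) g.2
            simpa [mul_assoc] using this
          exact (Subgroup.mem_normalizer_iff.1 hg ⟨v, hvM⟩).2 hv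
      have hgT : (g : G) ∈ (T : Subgroup G) :=
        hstab t ht ht1 g hgN (Subgroup.mem_centralizer_singleton_iff.1 g.2)
      exact Subgroup.mem_centralizer_iff.2 fun u hu => hab' u hu g hgT
    have hco := MonoidHom.ker_transferSylow_isComplement' (T.subtype hTM : Sylow 2 M) hle'
    set O := (MonoidHom.transferSylow (T.subtype hTM : Sylow 2 M) hle').ker with hOdef
    have hTc' : Nat.card ((T.subtype hTM : Sylow 2 M) : Subgroup M) = 8 :=
      (Nat.card_congr (Subgroup.subgroupOfEquivOfLe hTM).toEquiv).trans hTc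
    have hOc : Nat.card O = 3 := by
      have := hco.card_mul
      rw [hTc', hM] at this
      omega
    haveI : O.Normal := MonoidHom.normal_ker _
    obtain ⟨o, hoo⟩ := exists_prime_orderOf_dvd_card' (G := O) 3 (dvd_of_eq hOc.symm)
    have ho3 : orderOf (o : M) = 3 := by rw [Subgroup.orderOf_coe, hoo]
    have hgenO : Subgroup.zpowers (o : M) = O :=
      Subgroup.eq_of_le_of_card_ge (Subgroup.zpowers_le.2 o.2) (by rw [Nat.card_zpowers, ho3, hOc])
    have htwo : ∀ m : M, m * o * m⁻¹ = o ∨ m * o * m⁻¹ = (o : M)⁻¹ := by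
      intro m
      have hmem : m * o * m⁻¹ ∈ Subgroup.zpowers (o : M) := by
        rw [hgenO]; exact (inferInstance : O.Normal).conj_mem o o.2 m
      obtain ⟨i, hi⟩ := Subgroup.mem_zpowers_iff.1 hmem
      have hi' : m * o * m⁻¹ = (o : M) ^ (i % 3) := by
        rw [← hi, show (3 : ℤ) = ((orderOf (o : M) : ℕ) : ℤ) by rw [ho3]; rfl, zpow_mod_orderOf]
      obtain e | e | e : i % 3 = 0 ∨ i % 3 = 1 ∨ i % 3 = 2 := by omega
      · rw [e, zpow_zero] at hi'
        rw [conj_eq_one_iff.1 hi', orderOf_one] at ho3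
        omega
      · exact Or.inl (by rw [hi', e, zpow_one])
      · refine Or.inr ?_
        rw [hi', e, eq_inv_iff_mul_eq_one, ← zpow_add_one, show (2 : ℤ) + 1 = ((3 : ℕ) : ℤ) from rfl,
          zpow_natCast, ← ho3, pow_orderOf_eq_one]
    -- the elements of `T` centralizing `O` are central in `M`
    have hcentral : ∀ s ∈ (T : Subgroup G), ∀ hs : s ∈ M, (⟨s, hs⟩ : M) * o * (⟨s, hs⟩ : M)⁻¹ = o →
        M ≤ Subgroup.centralizer ({s} : Set G) := by
      intro s hsT hsM hso m hm
      obtain ⟨⟨a, b⟩, hab2⟩ := hco.2 ⟨m, hm⟩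
      have ha : Commute (a : M) (⟨s, hsM⟩ : M) := by
        obtain ⟨i, hi⟩ := Subgroup.mem_zpowers_iff.1 (show (a : M) ∈ Subgroup.zpowers (o : M) by rw [hgenO]; exact a.2)
        rw [← hi]
        exact (show Commute (⟨s, hsM⟩ : M) (o : M) from mul_inv_eq_iff_eq_mul.1 hso).symm.zpow_left i
      have hb : Commute (b : M) (⟨s, hsM⟩ : M) := hab' b b.2 ⟨s, hsM⟩ hsT
      have := congrArg Subtype.val (ha.mul_left hb).eq
      rw [show (a : M) * (b : M) = ⟨m, hm⟩ from hab2] at this
      exact Subgroup.mem_centralizer_singleton_iff.2 this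
    -- one of them is not in `⟨t⟩`
    obtain ⟨u, huT, hu1, hut, huc⟩ : ∃ u ∈ (T : Subgroup G), u ≠ 1 ∧ u ≠ t ∧
        M ≤ Subgroup.centralizer ({u} : Set G) := by
      obtain ⟨s, hs⟩ : ∃ s : (T : Subgroup G), s ∉ ({1, x.1} : Finset (T : Subgroup G)) := by
        by_contra hall
        push Not at hall
        letI := Fintype.ofFinite (T : Subgroup G)
        have := Finset.card_le_card (s := (Finset.univ : Finset (T : Subgroup G))) fun a _ => hall a
        rw [Finset.card_univ, ← Nat.card_eq_fintype_card, hTc] at this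
        have h2 : ({1, x.1} : Finset (T : Subgroup G)).card ≤ 2 := Finset.card_le_two
        omega
      obtain ⟨s', hs'⟩ : ∃ s' : (T : Subgroup G), s' ∉ ({1, x.1, s, x.1 * s} : Finset (T : Subgroup G)) := by
        by_contra hall
        push Not at hall
        letI := Fintype.ofFinite (T : Subgroup G)
        have := Finset.card_le_card (s := (Finset.univ : Finset (T : Subgroup G))) fun a _ => hall a
        rw [Finset.card_univ, ← Nat.card_eq_fintype_card, hTc] at this
        have h2 : ({1, x.1, s, x.1 * s} : Finset (T : Subgroup G)).card ≤ 4 := Finset.card_le_four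
        omega
      simp only [Finset.mem_insert, Finset.mem_singleton, not_or] at hs hs'
      rcases htwo ⟨s, hTM s.2⟩ with e | e
      · exact ⟨s, s.2, fun h => hs.1 (Subtype.ext h), fun h => hs.2 (Subtype.ext h), hcentral s s.2 _ e⟩
      rcases htwo ⟨s', hTM s'.2⟩ with e' | e'
      · exact ⟨s', s'.2, fun h => hs'.1 (Subtype.ext h), fun h => hs'.2.1 (Subtype.ext h), hcentral s' s'.2 _ e'⟩
      refine ⟨(s * s' : (T : Subgroup G)), (s * s').2, fun h => hs'.2.2.1 ?_, fun h => hs'.2.2.2 ?_,
        hcentral _ (s * s').2 (hTM (s * s').2) ?_⟩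
      · have h' : s * s' = 1 := Subtype.ext h
        have hss : s * s = 1 := Subtype.ext (by
          have := pow_orderOf_eq_one (s : G)
          rwa [hexp s s.2 (fun e => hs.1 (Subtype.ext e)), pow_two] at this)
        exact mul_left_cancel (h'.trans hss.symm)
      · have h' : s * s' = x.1 := Subtype.ext h
        have hss : s * s = 1 := Subtype.ext (by
          have := pow_orderOf_eq_one (s : G)
          rwa [hexp s s.2 (fun e => hs.1 (Subtype.ext e)), pow_two] at this)
        rw [← h', mul_assoc, show s' * s = s * s' from Subtype.ext (hab _ s'.2 _ s.2), ← mul_assoc, hss, one_mul]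
      · have hmul : (⟨((s * s' : (T : Subgroup G)) : G), hTM (s * s').2⟩ : M) = ⟨s, hTM s.2⟩ * ⟨s', hTM s'.2⟩ :=
          Subtype.ext rfl
        rw [hmul]
        calc (⟨s, hTM s.2⟩ : M) * ⟨s', hTM s'.2⟩ * o * ((⟨s, hTM s.2⟩ : M) * ⟨s', hTM s'.2⟩)⁻¹
            = ⟨s, hTM s.2⟩ * (⟨s', hTM s'.2⟩ * o * (⟨s', hTM s'.2⟩ : M)⁻¹) * (⟨s, hTM s.2⟩ : M)⁻¹ := by group
          _ = o := by rw [e', ← conj_inv, e, inv_inv]
    -- the central part of `T` in `M`
    let U : Subgroup G := (T : Subgroup G) ⊓ Subgroup.centralizer (M : Set G)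
    have hUmem : ∀ g : G, g ∈ U ↔ g ∈ (T : Subgroup G) ∧ (g = 1 ∨ Subgroup.centralizer ({g} : Set G) = M) := by
      intro g
      constructor
      · rintro ⟨hgT, hgM⟩
        refine ⟨hgT, ?_⟩
        by_cases hg1 : g = 1
        · exact Or.inl hg1
        refine Or.inr (Subgroup.eq_of_le_of_card_ge (fun m hm => ?_) (by rw [hM, h24 g hgT hg1])).symm
        exact Subgroup.mem_centralizer_singleton_iff.2 (Subgroup.mem_centralizer_iff.1 hgM m hm)
      · rintro ⟨hgT, h | h⟩
        · exact ⟨hgT, h ▸ one_mem _⟩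
        · refine ⟨hgT, Subgroup.mem_centralizer_iff.2 fun m hm => ?_⟩
          exact Subgroup.mem_centralizer_singleton_iff.1 (h.symm ▸ hm : m ∈ Subgroup.centralizer ({g} : Set G))
    have htU : t ∈ U := (hUmem t).2 ⟨ht, Or.inr rfl⟩
    have huU : u ∈ U := (hUmem u).2 ⟨huT, Or.inr (Subgroup.eq_of_le_of_card_ge huc
      (by rw [hM, h24 u huT hu1])).symm⟩
    have hUd : Nat.card U ∣ 8 := hTc ▸ Subgroup.card_dvd_of_le inf_le_left
    have hU3 : 3 ≤ Nat.card U := by
      letI := Fintype.ofFinite U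
      have h3 : ({⟨1, one_mem U⟩, ⟨t, htU⟩, ⟨u, huU⟩} : Finset U).card = 3 := by
        rw [Finset.card_insert_of_notMem, Finset.card_insert_of_notMem, Finset.card_singleton]
        · rw [Finset.mem_singleton]
          exact fun h => hut (congrArg Subtype.val h).symm
        · rw [Finset.mem_insert, Finset.mem_singleton, not_or]
          exact ⟨fun h => ht1 (congrArg Subtype.val h).symm, fun h => hu1 (congrArg Subtype.val h).symm⟩
      have := Finset.card_le_univ ({⟨1, one_mem U⟩, ⟨t, htU⟩, ⟨u, huU⟩} : Finset U)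
      rw [h3, ← Nat.card_eq_fintype_card] at this
      exact this
    have hU8 : Nat.card U ≠ 8 := by
      intro h8
      have hUT : U = (T : Subgroup G) := Subgroup.eq_of_le_of_card_ge inf_le_left (by rw [hTc, h8])
      have hMN : M ≤ NT := fun m hm => Small.centralizer_le_normalizer _ (Subgroup.mem_centralizer_iff.2
        fun v hv => (Subgroup.mem_centralizer_iff.1 (hUT.ge hv).2 m hm).symm)
      have hMT : M ≤ (T : Subgroup G) := fun m hm =>
        hstab t ht ht1 m (hMN hm) (Subgroup.mem_centralizer_singleton_iff.1 hm)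
      have := Subgroup.card_le_of_le hMT
      omega
    have hU4 : Nat.card U = 4 := by
      have := Nat.le_of_dvd (by norm_num) hUd
      obtain ⟨k, hk, hU⟩ := (Nat.dvd_prime_pow Nat.prime_two).1 (show Nat.card U ∣ 2 ^ 3 from hUd)
      interval_cases k <;> norm_num at hU <;> first | omega | (exfalso; exact hU8 hU) | (rw [hU] at hU3; norm_num at hU3) | exact hU
    have hfin : Nat.card {y : X // f y = f x} = Nat.card {g : U // g ≠ 1} :=
      Nat.card_congr
        { toFun := fun y => ⟨⟨(y.1.1 : G), (hUmem _).2 ⟨y.1.1.2, Or.inr y.2⟩⟩,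
            fun e => y.1.2 (congrArg Subtype.val e)⟩
          invFun := fun g => ⟨⟨⟨(g.1 : G), ((hUmem _).1 g.1.2).1⟩, fun e => g.2 (Subtype.ext e)⟩,
            ((hUmem _).1 g.1.2).2.resolve_left fun e => g.2 (Subtype.ext e)⟩
          left_inv := fun y => rfl
          right_inv := fun g => rfl }
    rw [← Fintype.card_subtype, ← Nat.card_eq_fintype_card, hfin]
    have h1 := Nat.card_congr (Equiv.optionSubtypeNe (1 : U))
    rw [Finite.card_option, hU4] at h1
    omega
  have hsum := Finset.card_eq_sum_card_image f (Finset.univ : Finset X)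
  rw [Finset.card_univ, hX, Finset.sum_const_nat (m := 3) (fun b hb => by
    obtain ⟨x, -, rfl⟩ := Finset.mem_image.1 hb
    rw [← hfib x]
    )] at hsum
  omega

end Cfsg.Agent.Ord3640
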