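import Cfsg.Agent.Lib.Small.Orders3640.Cert
import Cfsg.Agent.Lib.Small.Orders3640.CasesB
import Cfsg.Agent.Lib.Small.Orders3640.CasesC
import Cfsg.Agent.Lib.Char.Burnside
import Cfsg.Agent.Lib.OddChar.OddTheorem
import Cfsg.Agent.S0496
import Cfsg.Agent.S0983
import Cfsg.Agent.S0997
import Cfsg.Agent.S0998
import Cfsg.Agent.S0999
import Cfsg.Agent.S1015
import Cfsg.Agent.S1016
import Cfsg.Agent.S1017

/-!
The orders of nonabelian simple groups below 6000.
-/

set_option autoImplicit false
set_option maxRecDepth 20000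
set_option linter.style.haveILetI false

namespace Cfsg.Agent.Ord3640

universe u

variable {G : Type u} [Group G] [Finite G] [IsSimpleGroup G]

/-- The order of a two-dimensional projective special linear group in the range. -/
theorem card_of_psl (hlo : 1092 < Nat.card G) (hhi : Nat.card G ≤ 3640) {F : Type} [Field F] [Fintype F]
    (e : G ≃* Matrix.ProjectiveSpecialLinearGroup (Fin 2) F) :
    Nat.card G ∈ ({2448, 3420} : Finset ℕ) := by
  have hc := Dickson.gcd_mul_card_psl (K := F)
  rw [Nat.card_eq_fintype_card (α := F), ← Nat.card_congr e.toEquiv] at hc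
  have hpp := FiniteField.isPrimePow_card F
  generalize Fintype.card F = q at hc hpp
  have hg2 : Nat.gcd 2 (q - 1) ≤ 2 := Nat.gcd_le_left _ (by norm_num)
  have hq : q ≤ 20 := by
    by_contra hlt
    have h21 : 21 * (21 ^ 2 - 1) ≤ q * (q ^ 2 - 1) :=
      Nat.mul_le_mul (by omega) (Nat.sub_le_sub_right (Nat.pow_le_pow_left (by omega) 2) 1)
    have : Nat.gcd 2 (q - 1) * Nat.card G ≤ 2 * 3640 := Nat.mul_le_mul hg2 hhi
    omega
  obtain ⟨p, a, hp, ha, rfl⟩ := hpp
  have hpN : p.Prime := hp.nat_prime
  have hp20 : p ≤ 20 := le_trans (Nat.le_self_pow ha.ne' p) hq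
  have ha5 : a < 5 := by
    by_contra hlt
    have : 2 ^ 5 ≤ p ^ a := (Nat.pow_le_pow_left hpN.two_le 5).trans (Nat.pow_le_pow_right hpN.pos (by omega))
    omega
  interval_cases p <;> first | (norm_num at hpN; done) | (interval_cases a <;> norm_num at hc <;> simp only [Finset.mem_insert, Finset.mem_singleton] <;> omega)

/-- A nonabelian simple group of order above 1092 and at most 3640 has order 2448, 2520 or 3420. -/
theorem card_mem (hG : ¬ IsMulCommutative G) (h1 : 1092 < Nat.card G) (h2 : Nat.card G ≤ 3640) :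
    Nat.card G ∈ ({2448, 2520, 3420} : Finset ℕ) := by
  have hcyc : ¬ IsCyclic G := fun h => hG (@IsCyclic.isMulCommutative G _ h)
  have sub : Nat.card G ∈ ({2448, 3420} : Finset ℕ) → Nat.card G ∈ ({2448, 2520, 3420} : Finset ℕ) := by
    simp only [Finset.mem_insert, Finset.mem_singleton]
    omega
  obtain ⟨⟨kind, p, a, q, b⟩, hw⟩ := exists_witness h1 h2
  match kind, hw with
  | 0, hw =>
    simp only [check, Nat.ofNat_pos, ↓reduceIte, Ord6232.check, Bool.and_eq_true, decide_eq_true_eq] at hw
    exact absurd rfl (Small.card_ne_of_excl hG (Ord6232.prime_of_primeB hw.1) hw.2)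
  | 1, hw =>
    simp only [check, show (1 : ℕ) < 5 by norm_num, ↓reduceIte, Ord6232.check, Bool.and_eq_true, decide_eq_true_eq] at hw
    exact absurd rfl (OrdersExcl.card_ne_of_succ hG (Ord6232.prime_of_primeB hw.1) hw.2)
  | 2, hw =>
    simp only [check, show (2 : ℕ) < 5 by norm_num, ↓reduceIte, Ord6232.check, Bool.and_eq_true, decide_eq_true_eq] at hw
    have hs := Char.isSolvable_of_card_pq p q (Ord6232.prime_of_primeB hw.1.1) (Ord6232.prime_of_primeB hw.1.2) _ G rfl ⟨a, b, hw.2⟩
    exact absurd ⟨⟨fun x y => IsSimpleGroup.comm_iff_isSolvable.2 hs x y⟩⟩ hG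
  | 3, hw =>
    simp only [check, show (3 : ℕ) < 5 by norm_num, ↓reduceIte, Ord6232.check, Bool.and_eq_true, decide_eq_true_eq] at hw
    rcases S0999.result hcyc p (Ord6232.prime_of_primeB hw.1.1) (Nat.dvd_of_mod_eq_zero hw.1.2) hw.2 with
      ⟨F, _, _, -, -, ⟨e⟩⟩ | ⟨m, F, _, _, -, -, -, ⟨e⟩⟩ <;> exact sub (card_of_psl h1 h2 e)
  | 4, hw =>
    simp only [check, show (4 : ℕ) < 5 by norm_num, ↓reduceIte, Ord6232.check, Ord6232.exclSucc, Bool.and_eq_true,
      decide_eq_true_eq] at hw
    obtain ⟨hp', ⟨⟨hdvd, hnd⟩, h3⟩, hall⟩ := hw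
    have hp := Ord6232.prime_of_primeB hp'
    haveI := Fact.mk hp
    exfalso
    have hk : Nat.card G = p ^ 1 * (Nat.card G / p) := by
      rw [pow_one, Nat.mul_div_cancel' (Nat.dvd_of_mod_eq_zero hdvd)]
    have hm : ¬ p ∣ Nat.card G / p := fun h => hnd (Nat.mod_eq_zero_of_dvd h)
    obtain ⟨P, hP, hmem, -, hN, -⟩ := OrdersExcl.setup hG _ rfl hk hm
    rcases hall _ hmem with hg | ⟨he, hne⟩
    · have hd : Nat.card (Subgroup.centralizer ((P : Subgroup G) : Set G)) ≠
          Nat.card (Subgroup.normalizer ((P : Subgroup G) : Set G)) :=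
        Small.centralizer_ne_normalizer (fun h => hcyc (@isCyclic_of_prime_card G _ _ ⟨h⟩ rfl))
          (Nat.dvd_of_mod_eq_zero hdvd) P
      have h1' := Small.card_normalizer_dvd _ hP
      obtain ⟨c, hc⟩ := Subgroup.card_dvd_of_le
        (Small.centralizer_le_normalizer ((P : Subgroup G)))
      obtain ⟨l, hl⟩ : p ∣ Nat.card (Subgroup.centralizer ((P : Subgroup G) : Set G)) := by
        have := Subgroup.card_dvd_of_le (Small.le_centralizer_self _ hP)
        rwa [hP] at this
      have hcp : c ∣ p - 1 := by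
        rw [hc] at h1'
        exact Nat.dvd_of_mul_dvd_mul_left Nat.card_pos h1'
      have hcm : c ∣ Nat.card G / p / Nat.card (Sylow p G) := by
        refine ⟨l, ?_⟩
        have e : Nat.card G / p = c * l * Nat.card (Sylow p G) := by
          rw [← hN, hc, hl, show p * l * c * Nat.card (Sylow p G) = p * (c * l * Nat.card (Sylow p G)) by ring,
            Nat.mul_div_cancel_left _ hp.pos]
        rw [e, Nat.mul_div_cancel _ Nat.card_pos]
      have hc1 : c = 1 := Nat.eq_one_of_dvd_one (hg ▸ Nat.dvd_gcd hcm hcp)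
      rw [hc, hc1, mul_one] at hd
      exact hd rfl
    · have h2' := OrderTools.two_mul_card_normalizer_dvd hG h3 P hP he
      rw [he] at hN
      apply hne
      rw [show Nat.card G / (p + 1) = Nat.card (Subgroup.normalizer ((P : Subgroup G) : Set G)) by
        conv_lhs => rw [← hN]
        rw [Nat.mul_div_cancel _ (Nat.succ_pos p)]]
      exact Nat.mod_eq_zero_of_dvd h2'
  | n + 5, hw =>
    simp only [check, show ¬ n + 5 < 5 by omega, ↓reduceIte, decide_eq_true_eq, rest, List.mem_cons,
      List.not_mem_nil, or_false] at hw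
    have h998 : ∀ p r q b : ℕ, p.Prime → q.Prime → r.Prime → p ≠ q → p ≠ r → q ≠ r →
        Nat.card G = p * r * q ^ b → Nat.card G ∈ ({2448, 2520, 3420} : Finset ℕ) := by
      intro p r q b hp hq hr hpq hpr hqr hG'
      rcases S0998.result hcyc p q r b hp hq hr hpq hpr hqr hG' with ⟨F, _, _, -, ⟨e⟩⟩ | ⟨F, _, _, -, ⟨e⟩⟩ <;>
        exact sub (card_of_psl h1 h2 e)
    have h997 : ∀ p q b g₀ : ℕ, p.Prime → q.Prime → p ≠ q → g₀ < p - 1 →
        Nat.card G = p * q ^ b * g₀ → Nat.card G ∈ ({2448, 2520, 3420} : Finset ℕ) := by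
      intro p q b g₀ hp hq hpq hg hG'
      rcases S0997.result hcyc p q b g₀ hp hq hpq hG' hg with
        ⟨m, F, _, _, -, -, ⟨e⟩⟩ | ⟨m, F, _, _, -, -, -, ⟨e⟩⟩ <;> exact sub (card_of_psl h1 h2 e)
    have h4 : 4 ∣ Nat.card G → ¬ 8 ∣ Nat.card G → Nat.card G ∈ ({2448, 2520, 3420} : Finset ℕ) := by
      intro a b
      have := card_of_four hG a b h2
      simp only [Finset.mem_insert, Finset.mem_singleton] at this ⊢
      omega
    have h8 : ∀ m, Nat.card G = 2 ^ 3 * m → ¬ 2 ∣ m → ¬ 7 ∣ m → Nat.card G ∈ ({2448, 2520, 3420} : Finset ℕ) := by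
      intro m a b c
      have := card_of_eight hG a b c h2
      simp only [Finset.mem_insert, Finset.mem_singleton] at this ⊢
      omega
    have hodd : Odd (Nat.card G) → False := fun h =>
      hG ⟨⟨fun x y => IsSimpleGroup.comm_iff_isSolvable.2 (OddChar.oddSolvable G h) x y⟩⟩
    rcases hw with e | e | e | e | e | e | e | e | e | e | e | e | e | e | e | e | e | e | e | e | e | e | e | e | e |
      e | e | e | e | e | e | e | e | e | e | e | e | e | e
    · exact absurd e S1015.result
    · exact h4 (by omega) (by omega)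
    · exact h998 7 3 2 6 (by norm_num) (by norm_num) (by norm_num) (by norm_num) (by norm_num) (by norm_num) (by rw [e]; norm_num)
    · exact absurd e card_ne_1400
    · exact absurd e S1016.result
    · exact h4 (by omega) (by omega)
    · exact absurd e card_ne_1512
    · exact (hodd (by rw [e]; decide)).elim
    · exact h4 (by omega) (by omega)
    · exact absurd e card_ne_1680
    · exact h4 (by omega) (by omega)
    · exact h8 225 (by rw [e]; norm_num) (by norm_num) (by norm_num)
    · exact h998 5 3 2 7 (by norm_num) (by norm_num) (by norm_num) (by norm_num) (by norm_num) (by norm_num) (by rw [e]; norm_num)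
    · exact h4 (by omega) (by omega)
    · exact absurd e S1017.result
    · exact h4 (by omega) (by omega)
    · exact absurd e card_ne_2160
    · exact h8 275 (by rw [e]; norm_num) (by norm_num) (by norm_num)
    · exact h4 (by omega) (by omega)
    · exact absurd e card_ne_2400
    · exact h997 11 2 5 7 (by norm_num) (by norm_num) (by norm_num) (by norm_num) (by rw [e]; norm_num)
    · exact (hodd (by rw [e]; decide)).elim
    · rw [e]; decide
    · exact h998 7 3 2 7 (by norm_num) (by norm_num) (by norm_num) (by norm_num) (by norm_num) (by norm_num) (by rw [e]; norm_num)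
    · exact h4 (by omega) (by omega)
    · exact absurd e card_ne_2800
    · exact h8 351 (by rw [e]; norm_num) (by norm_num) (by norm_num)
    · exact absurd e card_ne_2880
    · exact h8 363 (by rw [e]; norm_num) (by norm_num) (by norm_num)
    · exact h4 (by omega) (by omega)
    · exact absurd e card_ne_3024
    · exact absurd e card_ne_3080
    · exact absurd e card_ne_3120
    · exact h997 11 2 5 9 (by norm_num) (by norm_num) (by norm_num) (by norm_num) (by rw [e]; norm_num)
    · exact h8 405 (by rw [e]; norm_num) (by norm_num) (by norm_num)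
    · exact absurd e card_ne_3360
    · exact h8 429 (by rw [e]; norm_num) (by norm_num) (by norm_num)
    · exact absurd e card_ne_3528
    · exact absurd e card_ne_3600

/-- The orders of the nonabelian simple groups below 6000. -/
theorem card_mem_6000 (hG : ¬ IsMulCommutative G) (h : Nat.card G < 6000) :
    Nat.card G ∈ ({60, 168, 360, 504, 660, 1092, 2448, 2520, 3420, 4080, 5616} : Finset ℕ) := by
  rcases Nat.lt_or_ge 1092 (Nat.card G) with h1 | h1
  · rcases Nat.lt_or_ge 3640 (Nat.card G) with h2 | h2
    · have := S0983.result hG h2 (by omega)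
      simp only [Finset.mem_insert, Finset.mem_singleton]
      omega
    · have := card_mem hG h1 h2
      simp only [Finset.mem_insert, Finset.mem_singleton] at this ⊢
      omega
  · have := S0496.result hG h1
    simp only [Finset.mem_insert, Finset.mem_singleton]
    omega

end Cfsg.Agent.Ord3640
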