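import Cfsg.Agent.Lib.Small.Orders6232.Tools
import Cfsg.Agent.Lib.Small.OrdersExcluded
import Cfsg.Agent.Lib.Classical.DicksonProper
import Cfsg.Agent.S0996
import Cfsg.Agent.S1001
import Cfsg.Agent.S1010

/-!
Orders of no simple group between 1093 and 3640, excluded by Sylow numbers.
-/

set_option autoImplicit false
set_option linter.unusedSectionVars false
set_option linter.style.haveILetI false

open Cfsg.Agent.CommFix

namespace Cfsg.Agent.Ord3640

universe u

variable {G : Type u} [Group G] [Finite G] [IsSimpleGroup G]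

/-- A self-centralizing Sylow subgroup of prime order in a group of order `p * 3 ^ a * 2 ^ b`. -/
theorem centralizer_of_three {p a b : ℕ} [hp : Fact p.Prime] (hn : Nat.card G = p * 3 ^ a * 2 ^ b)
    (P : Sylow p G) (hP : Nat.card (P : Subgroup G) = p) :
    Nat.card (Subgroup.centralizer ((P : Subgroup G) : Set G)) = p := by
  obtain ⟨x, hx⟩ := exists_prime_orderOf_dvd_card' (G := (P : Subgroup G)) p (dvd_of_eq hP.symm)
  have hxo : orderOf (x : G) = p := by rw [Subgroup.orderOf_coe, hx]
  have hle : Subgroup.centralizer ((P : Subgroup G) : Set G) ≤ Subgroup.zpowers (x : G) := by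
    rw [← S1001.result p a b hp.out hn x hxo]
    exact Subgroup.centralizer_le (Set.singleton_subset_iff.2 x.2)
  refine le_antisymm ?_ ?_
  · exact (Subgroup.card_le_of_le hle).trans (by rw [Nat.card_zpowers, hxo])
  · exact hP.symm.le.trans (Subgroup.card_le_of_le (Small.le_centralizer_self _ hP))

theorem card_ne_2880 : Nat.card G ≠ 2880 := by
  intro hn
  haveI : Fact (Nat.Prime 5) := ⟨by norm_num⟩
  have hnp : ¬ (Nat.card G).Prime := by rw [hn]; norm_num
  have hG := Small.not_comm_of_card hnp
  obtain ⟨P, hP, hmem, -, hN, -⟩ := OrdersExcl.setup hG (p := 5) 576 hn (by norm_num) (by norm_num)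
  have hC := centralizer_of_three (a := 2) (b := 6) (by rw [hn]; norm_num) P hP
  have hd := Small.card_normalizer_dvd (P : Subgroup G) hP
  rw [hC] at hd
  rw [show ((Nat.divisors 576).filter (fun d => d % 5 = 1)).erase 1 = {6, 16, 36, 96, 576} by decide +kernel] at hmem
  simp only [Finset.mem_insert, Finset.mem_singleton] at hmem
  set N := Nat.card (Subgroup.normalizer ((P : Subgroup G) : Set G))
  have hle := Nat.le_of_dvd (by norm_num) hd
  rcases hmem with h | h | h | h | h <;> rw [h] at hN
  · omega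
  · omega
  · omega
  · omega
  · have := CommFix.card_centralizer_cases hnp P hP (n := 5) (by norm_num) (by omega)
    rw [show (Nat.divisors 5).filter (fun c => 5 ∣ c ∧ c ≠ 5 ∧ 5 ∣ c * (5 - 1)) = ∅ by decide +kernel] at this
    simp at this

theorem card_ne_3024 : Nat.card G ≠ 3024 := by
  intro hn
  haveI : Fact (Nat.Prime 7) := ⟨by norm_num⟩
  have hnp : ¬ (Nat.card G).Prime := by rw [hn]; norm_num
  have hG := Small.not_comm_of_card hnp
  obtain ⟨P, hP, hmem, -, hN, -⟩ := OrdersExcl.setup hG (p := 7) 432 hn (by norm_num) (by norm_num)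
  have hC := centralizer_of_three (a := 3) (b := 4) (by rw [hn]; norm_num) P hP
  have hd := Small.card_normalizer_dvd (P : Subgroup G) hP
  rw [hC] at hd
  rw [show ((Nat.divisors 432).filter (fun d => d % 7 = 1)).erase 1 = {8, 36} by decide +kernel] at hmem
  simp only [Finset.mem_insert, Finset.mem_singleton] at hmem
  have hle := Nat.le_of_dvd (by norm_num) hd
  rcases hmem with h | h <;> rw [h] at hN <;> omega

theorem card_ne_1400 : Nat.card G ≠ 1400 := by
  intro hn
  haveI : Fact (Nat.Prime 5) := ⟨by norm_num⟩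
  have hG := Small.not_comm_of_card (G := G) (by rw [hn]; norm_num)
  have hk : Nat.card G = 5 ^ 2 * 56 := by rw [hn]; norm_num
  have hm := Small.sylow_number_mem hk (by norm_num)
  rw [show (Nat.divisors 56).filter (fun d => d % 5 = 1) = {1, 56} by decide +kernel,
    Finset.mem_insert, Finset.mem_singleton] at hm
  have h56 := hm.resolve_left (Small.sylow_number_ne_one hG (by rw [hn]; norm_num))
  obtain ⟨P⟩ : Nonempty (Sylow 5 G) := inferInstance
  have hN := Small.card_normalizer_mul P
  rw [h56, hn] at hN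
  have hPc := Small.sylow_card hk (by norm_num) P
  have heq : (P : Subgroup G) = Subgroup.normalizer ((P : Subgroup G) : Set G) :=
    Subgroup.eq_of_le_of_card_ge Subgroup.le_normalizer (by rw [hPc]; omega)
  have hab : ∀ a ∈ (P : Subgroup G), ∀ b ∈ (P : Subgroup G), a * b = b * a := fun a ha b hb =>
    congrArg Subtype.val (IsPGroup.commutative_of_card_eq_prime_sq hPc ⟨a, ha⟩ ⟨b, hb⟩)
  obtain ⟨u, hu⟩ := exists_prime_orderOf_dvd_card' (G := (P : Subgroup G)) 5 (by rw [hPc]; norm_num)
  have := Ord6232.focal_eq_one hG P hab u.2 fun n hn' => hab n (heq ▸ hn') u u.2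
  rw [orderOf_eq_one_iff.2 (Subtype.ext this)] at hu
  omega

/-- The order of the subgroups given by `S0996`. -/
theorem card_of_few {p : ℕ} [hp : Fact p.Prime] (hG : ¬ IsMulCommutative G) (P : Sylow p G)
    (hP : Nat.card (P : Subgroup G) = p) (hC : Nat.card (Subgroup.centralizer ((P : Subgroup G) : Set G)) = p)
    (hn : 2 * Nat.card (Sylow p G) < (p + 1) * (p + 2)) :
    2 * Nat.card G = p * (p ^ 2 - 1) ∨ Nat.card G = (p - 1) * ((p - 1) ^ 2 - 1) := by
  have hperf : commutator G = ⊤ :=
    ((inferInstance : (commutator G).Normal).eq_bot_or_eq_top).resolve_left fun h =>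
      hG ⟨⟨fun a b => commutatorElement_eq_one_iff_commute.1 (Subgroup.mem_bot.1 (h ▸
        Subgroup.commutator_mem_commutator (Subgroup.mem_top a) (Subgroup.mem_top b)))⟩⟩
  obtain ⟨x, hx⟩ := exists_prime_orderOf_dvd_card' (G := (P : Subgroup G)) p (dvd_of_eq hP.symm)
  have hxo : orderOf (x : G) = p := by rw [Subgroup.orderOf_coe, hx]
  have hz : Subgroup.zpowers (x : G) = (P : Subgroup G) :=
    Subgroup.eq_of_le_of_card_ge (Subgroup.zpowers_le.2 x.2) (by rw [Nat.card_zpowers, hxo, hP])
  generalize hy : (x : G) = y at hxo hz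
  have hC' : Subgroup.centralizer ({y} : Set G) = Subgroup.zpowers y := by
    have e : Subgroup.centralizer ({y} : Set G) = Subgroup.centralizer ((P : Subgroup G) : Set G) := by
      rw [← hz, Subgroup.zpowers_eq_closure, Subgroup.centralizer_closure]
    rw [e, hz]
    exact (Subgroup.eq_of_le_of_card_ge (Small.le_centralizer_self _ hP) (by rw [hC, hP])).symm
  rcases S0996.result hperf p y hxo hC' hn with ⟨F, _, _, hF, h3, ⟨e⟩⟩ | ⟨m, F, _, _, hF, hm, h3, ⟨e⟩⟩
  · left
    have hc := Dickson.gcd_mul_card_psl (K := F)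
    rw [Nat.card_eq_fintype_card (α := F), ← Nat.card_congr e.toEquiv, hF] at hc
    have h2 : 2 ∣ p - 1 := by
      obtain ⟨k, hk⟩ := hp.out.odd_of_ne_two (by omega)
      exact ⟨k, by omega⟩
    rwa [Nat.gcd_eq_left h2] at hc
  · right
    have hc := Dickson.gcd_mul_card_psl (K := F)
    rw [Nat.card_eq_fintype_card (α := F), ← Nat.card_congr e.toEquiv, hF] at hc
    have e' : p - 1 = 2 ^ m := by omega
    rw [e']
    have hm0 : m ≠ 0 := fun h => by rw [h] at hm; norm_num at hm; omega
    have hg : Nat.gcd 2 (2 ^ m - 1) = 1 := by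
      refine Nat.prime_two.coprime_iff_not_dvd.2 fun h => ?_
      have h1 : 2 ∣ 2 ^ m := dvd_pow_self 2 hm0
      have h2 : 0 < 2 ^ m := by positivity
      omega
    rwa [hg, one_mul] at hc

theorem card_ne_3080 : Nat.card G ≠ 3080 := by
  intro hn
  haveI : Fact (Nat.Prime 11) := ⟨by norm_num⟩
  have hnp : ¬ (Nat.card G).Prime := by rw [hn]; norm_num
  have hG := Small.not_comm_of_card hnp
  obtain ⟨P, hP, hmem, -, hN, -⟩ := OrdersExcl.setup hG (p := 11) 280 hn (by norm_num) (by norm_num)
  rw [show ((Nat.divisors 280).filter (fun d => d % 11 = 1)).erase 1 = {56} by decide +kernel,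
    Finset.mem_singleton] at hmem
  rw [hmem] at hN
  have hC := CommFix.card_centralizer_cases hnp P hP (n := 55) (by norm_num) (by omega)
  rw [show (Nat.divisors 55).filter (fun c => 11 ∣ c ∧ c ≠ 55 ∧ 55 ∣ c * (11 - 1)) = {11} by
    decide +kernel, Finset.mem_singleton] at hC
  have := card_of_few hG P hP hC (by rw [hmem]; norm_num)
  rw [hn] at this
  norm_num at this

theorem card_ne_of_big_overgroup {p : ℕ} [hp : Fact p.Prime] {m b : ℕ} (hG : ¬ IsMulCommutative G)
    (hk : Nat.card G = p ^ 2 * m) (hm : ¬ p ∣ m) (hd : p ∣ Nat.card G)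
    (hmod : ∀ d ∈ (m.divisors.filter (fun d => d % p = 1)).erase 1, d % p ^ 2 ≠ 1 % p ^ 2)
    (hl : ∀ l ∈ m.divisors, l ≠ m → (∃ d ∈ l.divisors, d ≠ 1 ∧ d % p = 1) → m ≤ b * l)
    (hb : ¬ p ^ 2 ∣ b.factorial) : False := by
  obtain ⟨P⟩ : Nonempty (Sylow p G) := inferInstance
  have hmem := Small.sylow_number_mem hk hm
  obtain ⟨Q, hne, hrel⟩ := Small.exists_big_inter P (j := 2)
    (hmod _ (Finset.mem_erase.2 ⟨Small.sylow_number_ne_one hG hd, hmem⟩))
  obtain ⟨M, hM, hPM, hs⟩ := OrderTools.exists_overgroup_index hG P Q hne (a := 2) le_rfl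
    (Small.sylow_card hk hm P) hrel
  obtain ⟨l, -, hlm, hlmem, hlne, hd'⟩ := OrderTools.overgroup_data P hk hm hM hPM hs
  have hl0 : 0 < l := Nat.pos_of_mem_divisors hlmem
  have hidx : M.index ≤ b := by
    have := hl l hlmem hlne hd'
    rw [← hlm, mul_comm b l] at this
    exact Nat.le_of_mul_le_mul_left this hl0
  have h := (Small.card_two_mul_dvd_factorial hG hM).trans (Nat.factorial_dvd_factorial hidx)
  rw [hk] at h
  exact hb (((dvd_mul_right (p ^ 2) m).mul_left 2).trans h)

theorem card_ne_2800 : Nat.card G ≠ 2800 := by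
  intro hn
  haveI : Fact (Nat.Prime 5) := ⟨by norm_num⟩
  exact card_ne_of_big_overgroup (p := 5) (m := 112) (b := 9) (Small.not_comm_of_card (G := G) (by rw [hn]; norm_num))
    (by rw [hn]; norm_num) (by norm_num) (by rw [hn]; norm_num) (by decide +kernel) (by decide +kernel)
    (by norm_num [Nat.factorial])

theorem card_ne_3528 : Nat.card G ≠ 3528 := by
  intro hn
  haveI : Fact (Nat.Prime 7) := ⟨by norm_num⟩
  exact card_ne_of_big_overgroup (p := 7) (m := 72) (b := 13) (Small.not_comm_of_card (G := G) (by rw [hn]; norm_num))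
    (by rw [hn]; norm_num) (by norm_num) (by rw [hn]; norm_num) (by decide +kernel) (by decide +kernel)
    (by norm_num [Nat.factorial])

/-- A prime `r` dividing once `|C(P)|` with one Sylow subgroup there: `N(P)` normalizes it. -/
theorem exists_char_sylow {p r : ℕ} [hp : Fact p.Prime] [hr : Fact r.Prime] (P : Sylow p G) {m : ℕ}
    (hRc : ∀ R : Sylow r G, Nat.card (R : Subgroup G) = r)
    (hC : Nat.card (Subgroup.centralizer ((P : Subgroup G) : Set G)) = r ^ 1 * m) (hrm : ¬ r ∣ m)
    (h1 : Nat.card (Sylow r (Subgroup.centralizer ((P : Subgroup G) : Set G))) = 1) :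
    ∃ R : Sylow r G, (R : Subgroup G) ≤ Subgroup.centralizer ((P : Subgroup G) : Set G) ∧
      Subgroup.normalizer ((P : Subgroup G) : Set G) ≤ Subgroup.normalizer ((R : Subgroup G) : Set G) := by
  set C := Subgroup.centralizer ((P : Subgroup G) : Set G) with hCdef
  obtain ⟨S⟩ : Nonempty (Sylow r C) := inferInstance
  have hS : Nat.card (S : Subgroup C) = r := (Small.sylow_card hC hrm S).trans (pow_one r)
  haveI := (Nat.card_eq_one_iff_unique.1 h1).1
  have hSc : Nat.card ((S : Subgroup C).map C.subtype) = r := by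
    rw [Subgroup.card_map_of_injective C.subtype_injective, hS]
  obtain ⟨R, hR⟩ := (IsPGroup.of_card (n := 1) (by rw [hSc, pow_one]) :
    IsPGroup r ((S : Subgroup C).map C.subtype)).exists_le_sylow
  have hRS : (S : Subgroup C).map C.subtype = (R : Subgroup G) :=
    Subgroup.eq_of_le_of_card_ge hR (by rw [hSc, hRc R])
  have hRC : (R : Subgroup G) ≤ C := hRS ▸ Subgroup.map_subtype_le _
  refine ⟨R, hRC, fun n hn => ?_⟩
  refine Sylow.smul_eq_iff_mem_normalizer.1 ?_
  have hgC : ((n • R : Sylow r G) : Subgroup G) ≤ C := by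
    rintro _ ⟨y, hy, rfl⟩
    have hy' := hRC hy
    show n * y * n⁻¹ ∈ C
    rw [Subgroup.mem_centralizer_iff] at hy' ⊢
    intro v hv
    have := hy' _ ((Subgroup.mem_normalizer_iff''.1 hn v).1 hv)
    calc v * (n * y * n⁻¹) = n * ((n⁻¹ * v * n) * y) * n⁻¹ := by group
      _ = _ := by rw [this]; group
  exact Sylow.subtype_injective (hP := hgC) (hQ := hRC) (Subsingleton.elim _ _)

/-- Two primes dividing once: normalizers in index two are impossible. -/
theorem false_of_double {p r : ℕ} [hp : Fact p.Prime] [hr : Fact r.Prime] (P : Sylow p G) (hp3 : 3 ≤ p)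
    (R : Sylow r G)
    (hle : Subgroup.normalizer ((P : Subgroup G) : Set G) ≤ Subgroup.normalizer ((R : Subgroup G) : Set G))
    (h : Nat.card (Subgroup.normalizer ((R : Subgroup G) : Set G)) =
      2 * Nat.card (Subgroup.normalizer ((P : Subgroup G) : Set G))) : False := by
  set M := Subgroup.normalizer ((R : Subgroup G) : Set G)
  have he := CommFix.card_overgroup P (Subgroup.le_normalizer.trans hle : (P : Subgroup G) ≤ M)
  rw [inf_eq_right.2 hle, h] at he
  have h2 : Nat.card (Sylow p M) = 2 := (Nat.eq_of_mul_eq_mul_right Nat.card_pos he).symm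
  have := card_sylow_modEq_one p M
  rw [h2, Nat.ModEq, Nat.mod_eq_of_lt (show 2 < p by omega), Nat.mod_eq_of_lt hp.out.one_lt] at this
  omega

theorem card_ne_1680 : Nat.card G ≠ 1680 := by
  intro hn
  haveI : Fact (Nat.Prime 5) := ⟨by norm_num⟩
  haveI : Fact (Nat.Prime 3) := ⟨by norm_num⟩
  have hnp : ¬ (Nat.card G).Prime := by rw [hn]; norm_num
  have hG := Small.not_comm_of_card hnp
  obtain ⟨P, hP, hmem, -, hN, -⟩ := OrdersExcl.setup hG (p := 5) 336 hn (by norm_num) (by norm_num)
  rw [show ((Nat.divisors 336).filter (fun d => d % 5 = 1)).erase 1 = {6, 16, 21, 56, 336} by decide +kernel] at hmem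
  simp only [Finset.mem_insert, Finset.mem_singleton] at hmem
  rcases hmem with h | h | h | h | h <;> rw [h] at hN
  · have h2 := OrderTools.two_mul_card_normalizer_dvd hG (by norm_num) P hP h
    rw [show Nat.card (Subgroup.normalizer ((P : Subgroup G) : Set G)) = 280 by omega] at h2
    norm_num at h2
  · have hC := CommFix.card_centralizer_cases hnp P hP (n := 105) (by norm_num) (by omega)
    rw [show (Nat.divisors 105).filter (fun c => 5 ∣ c ∧ c ≠ 105 ∧ 105 ∣ c * (5 - 1)) = ∅ by decide +kernel] at hC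
    simp at hC
  · exact S1010.result h
  · set C := Subgroup.centralizer ((P : Subgroup G) : Set G) with hCdef
    have hC := CommFix.card_centralizer_cases hnp P hP (n := 30) (by norm_num) (by omega)
    rw [show (Nat.divisors 30).filter (fun c => 5 ∣ c ∧ c ≠ 30 ∧ 30 ∣ c * (5 - 1)) = {15} by decide +kernel,
      Finset.mem_singleton] at hC
    have hk3 : Nat.card G = 3 ^ 1 * 560 := by rw [hn]; norm_num
    have hRc : ∀ R : Sylow 3 G, Nat.card (R : Subgroup G) = 3 := fun R =>
      (Small.sylow_card hk3 (by norm_num) R).trans (pow_one 3)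
    have hs := Small.sylow_number_mem (G := C) (p := 3) (k := 1) (m := 5) (by rw [hC]; norm_num) (by norm_num)
    rw [show (Nat.divisors 5).filter (fun d => d % 3 = 1) = {1} by decide +kernel, Finset.mem_singleton] at hs
    obtain ⟨R, -, hle⟩ := exists_char_sylow P hRc (m := 5) (by rw [hC]; norm_num) (by norm_num) hs
    have hdvd := Subgroup.card_dvd_of_le hle
    have hN30 : Nat.card (Subgroup.normalizer ((P : Subgroup G) : Set G)) = 30 := by omega
    rw [hN30] at hdvd
    have hs3 := Small.sylow_number_mem hk3 (by norm_num)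
    have hne1 := Small.sylow_number_ne_one (p := 3) hG (by rw [hn]; norm_num)
    have hN3 := Small.card_normalizer_mul R
    rw [hn] at hN3
    obtain ⟨j, hj⟩ := hdvd
    rw [hj] at hN3
    rw [show (Nat.divisors 560).filter (fun d => d % 3 = 1) = {1, 4, 7, 10, 16, 28, 40, 70, 112, 280} by decide +kernel] at hs3
    simp only [Finset.mem_insert, Finset.mem_singleton] at hs3
    have hfac := Small.factorial_bound (p := 3) hG (by rw [hn]; norm_num)
    obtain h3 | h3 | h3 : Nat.card (Sylow 3 G) = 4 ∨ Nat.card (Sylow 3 G) = 7 ∨ Nat.card (Sylow 3 G) = 28 := by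
      rcases hs3 with e | e | e | e | e | e | e | e | e | e <;> first | omega | (rw [e] at hN3; omega)
    · rw [h3, hn] at hfac; norm_num [Nat.factorial] at hfac
    · rw [h3, hn] at hfac; norm_num [Nat.factorial] at hfac
    · rw [h3] at hN3
      exact false_of_double P (by norm_num) R hle (by rw [hj, hN30]; omega)
  · have hC := CommFix.card_centralizer_cases hnp P hP (n := 5) (by norm_num) (by omega)
    rw [show (Nat.divisors 5).filter (fun c => 5 ∣ c ∧ c ≠ 5 ∧ 5 ∣ c * (5 - 1)) = ∅ by decide +kernel] at hC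
    simp at hC

end Cfsg.Agent.Ord3640
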