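import Mathlib.Data.List.Basic

/-! Witnesses for the orders from 1093 to 3640. -/

set_option autoImplicit false

namespace Cfsg.Agent.Ord3640

/-- Witnesses for orders from 1093. -/
def cert0 : List (ℕ × ℕ × ℕ × ℕ × ℕ) :=
  [(2, 1093, 1, 1093, 0),
    (2, 547, 1, 2, 1),
    (3, 73, 0, 0, 0),
    (2, 137, 1, 2, 3),
    (2, 1097, 1, 1097, 0),
    (3, 61, 0, 0, 0),
    (2, 157, 1, 7, 1),
    (3, 11, 0, 0, 0),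
    (2, 367, 1, 3, 1),
    (3, 29, 0, 0, 0),
    (2, 1103, 1, 1103, 0),
    (3, 23, 0, 0, 0),
    (3, 17, 0, 0, 0),
    (3, 79, 0, 0, 0),
    (2, 41, 1, 3, 3),
    (2, 277, 1, 2, 2),
    (2, 1109, 1, 1109, 0),
    (3, 37, 0, 0, 0),
    (2, 101, 1, 11, 1),
    (2, 139, 1, 2, 3),
    (3, 53, 0, 0, 0),
    (2, 557, 1, 2, 1),
    (2, 223, 1, 5, 1),
    (3, 31, 0, 0, 0),
    (2, 1117, 1, 1117, 0),
    (3, 43, 0, 0, 0),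
    (2, 373, 1, 3, 1),
    (1, 7, 0, 0, 0),
    (2, 59, 1, 19, 1),
    (3, 17, 0, 0, 0),
    (2, 1123, 1, 1123, 0),
    (2, 281, 1, 2, 2),
    (2, 5, 3, 3, 2),
    (2, 563, 1, 2, 1),
    (2, 23, 1, 7, 2),
    (3, 47, 0, 0, 0),
    (2, 1129, 1, 1129, 0),
    (3, 113, 0, 0, 0),
    (3, 29, 0, 0, 0),
    (2, 283, 1, 2, 2),
    (2, 103, 1, 11, 1),
    (0, 7, 1, 0, 0),
    (2, 227, 1, 5, 1),
    (2, 71, 1, 2, 4),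
    (2, 379, 1, 3, 1),
    (2, 569, 1, 2, 1),
    (2, 67, 1, 17, 1),
    (3, 19, 0, 0, 0),
    (2, 163, 1, 7, 1),
    (2, 571, 1, 2, 1),
    (2, 127, 1, 3, 2),
    (3, 13, 0, 0, 0),
    (2, 229, 1, 5, 1),
    (3, 191, 0, 0, 0),
    (2, 37, 1, 31, 1),
    (3, 41, 0, 0, 0),
    (2, 383, 1, 3, 1),
    (3, 23, 0, 0, 0),
    (2, 1151, 1, 1151, 0),
    (2, 3, 2, 2, 7),
    (2, 1153, 1, 1153, 0),
    (2, 577, 1, 2, 1),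
    (3, 11, 0, 0, 0),
    (2, 17, 2, 2, 2),
    (2, 89, 1, 13, 1),
    (3, 193, 0, 0, 0),
    (2, 61, 1, 19, 1),
    (3, 29, 0, 0, 0),
    (2, 43, 1, 3, 3),
    (3, 83, 0, 0, 0),
    (2, 1163, 1, 1163, 0),
    (3, 97, 0, 0, 0),
    (2, 233, 1, 5, 1),
    (3, 53, 0, 0, 0),
    (2, 389, 1, 3, 1),
    (2, 73, 1, 2, 4),
    (2, 167, 1, 7, 1),
    (3, 13, 0, 0, 0),
    (2, 1171, 1, 1171, 0),
    (2, 293, 1, 2, 2),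
    (3, 23, 0, 0, 0),
    (2, 587, 1, 2, 1),
    (2, 47, 1, 5, 2),
    (0, 7, 2, 0, 0),
    (2, 107, 1, 11, 1),
    (3, 31, 0, 0, 0),
    (2, 131, 1, 3, 2),
    (3, 59, 0, 0, 0),
    (2, 1181, 1, 1181, 0),
    (3, 197, 0, 0, 0),
    (2, 13, 2, 7, 1),
    (2, 37, 1, 2, 5),
    (3, 79, 0, 0, 0),
    (2, 593, 1, 2, 1),
    (2, 1187, 1, 1187, 0),
    (3, 11, 0, 0, 0),
    (2, 41, 1, 29, 1),
    (3, 17, 0, 0, 0),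
    (2, 397, 1, 3, 1),
    (2, 149, 1, 2, 3)]

/-- Witnesses for orders from 1193. -/
def cert1 : List (ℕ × ℕ × ℕ × ℕ × ℕ) :=
  [(2, 1193, 1, 1193, 0),
    (3, 199, 0, 0, 0),
    (2, 239, 1, 5, 1),
    (3, 23, 0, 0, 0),
    (3, 19, 0, 0, 0),
    (2, 599, 1, 2, 1),
    (2, 109, 1, 11, 1),
    (5, 0, 0, 0, 0),
    (2, 1201, 1, 1201, 0),
    (2, 601, 1, 2, 1),
    (2, 401, 1, 3, 1),
    (3, 43, 0, 0, 0),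
    (2, 241, 1, 5, 1),
    (3, 67, 0, 0, 0),
    (2, 71, 1, 17, 1),
    (2, 151, 1, 2, 3),
    (3, 31, 0, 0, 0),
    (3, 11, 0, 0, 0),
    (2, 173, 1, 7, 1),
    (3, 101, 0, 0, 0),
    (2, 1213, 1, 1213, 0),
    (2, 607, 1, 2, 1),
    (2, 5, 1, 3, 5),
    (2, 19, 1, 2, 6),
    (2, 1217, 1, 1217, 0),
    (3, 29, 0, 0, 0),
    (2, 53, 1, 23, 1),
    (3, 61, 0, 0, 0),
    (3, 37, 0, 0, 0),
    (3, 47, 0, 0, 0),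
    (2, 1223, 1, 1223, 0),
    (3, 17, 0, 0, 0),
    (2, 7, 2, 5, 2),
    (2, 613, 1, 2, 1),
    (2, 409, 1, 3, 1),
    (2, 307, 1, 2, 2),
    (2, 1229, 1, 1229, 0),
    (3, 41, 0, 0, 0),
    (2, 1231, 1, 1231, 0),
    (3, 11, 0, 0, 0),
    (2, 137, 1, 3, 2),
    (2, 617, 1, 2, 1),
    (3, 19, 0, 0, 0),
    (3, 103, 0, 0, 0),
    (2, 1237, 1, 1237, 0),
    (2, 619, 1, 2, 1),
    (3, 59, 0, 0, 0),
    (3, 31, 0, 0, 0),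
    (2, 73, 1, 17, 1),
    (3, 23, 0, 0, 0),
    (2, 113, 1, 11, 1),
    (2, 311, 1, 2, 2),
    (3, 83, 0, 0, 0),
    (3, 89, 0, 0, 0),
    (2, 43, 1, 29, 1),
    (3, 13, 0, 0, 0),
    (2, 1249, 1, 1249, 0),
    (2, 5, 4, 2, 1),
    (2, 139, 1, 3, 2),
    (2, 313, 1, 2, 2),
    (2, 179, 1, 7, 1),
    (3, 19, 0, 0, 0),
    (2, 251, 1, 5, 1),
    (2, 157, 1, 2, 3),
    (2, 419, 1, 3, 1),
    (3, 37, 0, 0, 0),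
    (2, 1259, 1, 1259, 0),
    (5, 0, 0, 0, 0),
    (2, 97, 1, 13, 1),
    (2, 631, 1, 2, 1),
    (2, 421, 1, 3, 1),
    (2, 79, 1, 2, 4),
    (3, 23, 0, 0, 0),
    (3, 211, 0, 0, 0),
    (2, 181, 1, 7, 1),
    (2, 317, 1, 2, 2),
    (2, 47, 1, 3, 3),
    (3, 127, 0, 0, 0),
    (2, 41, 1, 31, 1),
    (3, 53, 0, 0, 0),
    (2, 67, 1, 19, 1),
    (3, 13, 0, 0, 0),
    (3, 17, 0, 0, 0),
    (3, 29, 0, 0, 0),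
    (2, 1277, 1, 1277, 0),
    (3, 71, 0, 0, 0),
    (2, 1279, 1, 1279, 0),
    (2, 5, 1, 2, 8),
    (3, 61, 0, 0, 0),
    (2, 641, 1, 2, 1),
    (2, 1283, 1, 1283, 0),
    (3, 107, 0, 0, 0),
    (2, 257, 1, 5, 1),
    (2, 643, 1, 2, 1),
    (3, 13, 0, 0, 0),
    (3, 23, 0, 0, 0),
    (2, 1289, 1, 1289, 0),
    (3, 43, 0, 0, 0),
    (2, 1291, 1, 1291, 0),
    (3, 19, 0, 0, 0)]

/-- Witnesses for orders from 1293. -/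
def cert2 : List (ℕ × ℕ × ℕ × ℕ × ℕ) :=
  [(2, 431, 1, 3, 1),
    (2, 647, 1, 2, 1),
    (3, 37, 0, 0, 0),
    (2, 3, 4, 2, 4),
    (2, 1297, 1, 1297, 0),
    (3, 59, 0, 0, 0),
    (2, 433, 1, 3, 1),
    (3, 13, 0, 0, 0),
    (2, 1301, 1, 1301, 0),
    (3, 31, 0, 0, 0),
    (2, 1303, 1, 1303, 0),
    (2, 163, 1, 2, 3),
    (3, 29, 0, 0, 0),
    (2, 653, 1, 2, 1),
    (2, 1307, 1, 1307, 0),
    (3, 109, 0, 0, 0),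
    (3, 17, 0, 0, 0),
    (3, 131, 0, 0, 0),
    (3, 23, 0, 0, 0),
    (2, 41, 1, 2, 5),
    (2, 101, 1, 13, 1),
    (3, 73, 0, 0, 0),
    (2, 263, 1, 5, 1),
    (3, 47, 0, 0, 0),
    (2, 439, 1, 3, 1),
    (2, 659, 1, 2, 1),
    (2, 1319, 1, 1319, 0),
    (3, 11, 0, 0, 0),
    (2, 1321, 1, 1321, 0),
    (2, 661, 1, 2, 1),
    (2, 7, 2, 3, 3),
    (2, 331, 1, 2, 2),
    (2, 53, 1, 5, 2),
    (3, 17, 0, 0, 0),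
    (2, 1327, 1, 1327, 0),
    (2, 83, 1, 2, 4),
    (2, 443, 1, 3, 1),
    (3, 19, 0, 0, 0),
    (2, 11, 3, 11, 0),
    (3, 37, 0, 0, 0),
    (2, 43, 1, 31, 1),
    (3, 29, 0, 0, 0),
    (3, 89, 0, 0, 0),
    (2, 167, 1, 2, 3),
    (2, 191, 1, 7, 1),
    (3, 223, 0, 0, 0),
    (2, 103, 1, 13, 1),
    (3, 67, 0, 0, 0),
    (2, 149, 1, 3, 2),
    (3, 61, 0, 0, 0),
    (2, 79, 1, 17, 1),
    (5, 0, 0, 0, 0),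
    (2, 269, 1, 5, 1),
    (2, 673, 1, 2, 1),
    (2, 449, 1, 3, 1),
    (2, 337, 1, 2, 2),
    (2, 71, 1, 19, 1),
    (0, 5, 2, 0, 0),
    (2, 193, 1, 7, 1),
    (2, 13, 2, 2, 3),
    (3, 41, 0, 0, 0),
    (2, 677, 1, 2, 1),
    (2, 271, 1, 5, 1),
    (3, 113, 0, 0, 0),
    (2, 59, 1, 23, 1),
    (3, 97, 0, 0, 0),
    (2, 151, 1, 3, 2),
    (3, 17, 0, 0, 0),
    (2, 1361, 1, 1361, 0),
    (3, 227, 0, 0, 0),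
    (2, 47, 1, 29, 1),
    (3, 31, 0, 0, 0),
    (3, 13, 0, 0, 0),
    (2, 683, 1, 2, 1),
    (2, 1367, 1, 1367, 0),
    (3, 19, 0, 0, 0),
    (2, 37, 2, 37, 0),
    (3, 137, 0, 0, 0),
    (2, 457, 1, 3, 1),
    (2, 7, 3, 2, 2),
    (2, 1373, 1, 1373, 0),
    (3, 229, 0, 0, 0),
    (2, 11, 1, 5, 3),
    (2, 43, 1, 2, 5),
    (2, 17, 1, 3, 4),
    (3, 53, 0, 0, 0),
    (2, 197, 1, 7, 1),
    (3, 23, 0, 0, 0),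
    (2, 1381, 1, 1381, 0),
    (2, 691, 1, 2, 1),
    (2, 461, 1, 3, 1),
    (2, 173, 1, 2, 3),
    (2, 277, 1, 5, 1),
    (0, 11, 1, 0, 0),
    (2, 73, 1, 19, 1),
    (2, 347, 1, 2, 2),
    (2, 463, 1, 3, 1),
    (3, 139, 0, 0, 0),
    (2, 107, 1, 13, 1),
    (3, 29, 0, 0, 0)]

/-- Witnesses for orders from 1393. -/
def cert3 : List (ℕ × ℕ × ℕ × ℕ × ℕ) :=
  [(2, 199, 1, 7, 1),
    (3, 41, 0, 0, 0),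
    (3, 31, 0, 0, 0),
    (2, 349, 1, 2, 2),
    (2, 127, 1, 11, 1),
    (3, 233, 0, 0, 0),
    (2, 1399, 1, 1399, 0),
    (5, 0, 0, 0, 0),
    (2, 467, 1, 3, 1),
    (2, 701, 1, 2, 1),
    (2, 61, 1, 23, 1),
    (3, 13, 0, 0, 0),
    (2, 281, 1, 5, 1),
    (3, 37, 0, 0, 0),
    (3, 67, 0, 0, 0),
    (2, 11, 1, 2, 7),
    (2, 1409, 1, 1409, 0),
    (3, 47, 0, 0, 0),
    (2, 83, 1, 17, 1),
    (2, 353, 1, 2, 2),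
    (2, 157, 1, 3, 2),
    (3, 101, 0, 0, 0),
    (2, 283, 1, 5, 1),
    (3, 59, 0, 0, 0),
    (2, 109, 1, 13, 1),
    (2, 709, 1, 2, 1),
    (3, 43, 0, 0, 0),
    (3, 71, 0, 0, 0),
    (2, 29, 1, 7, 2),
    (3, 79, 0, 0, 0),
    (2, 1423, 1, 1423, 0),
    (2, 89, 1, 2, 4),
    (3, 19, 0, 0, 0),
    (3, 31, 0, 0, 0),
    (2, 1427, 1, 1427, 0),
    (3, 17, 0, 0, 0),
    (2, 1429, 1, 1429, 0),
    (3, 13, 0, 0, 0),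
    (2, 53, 1, 3, 3),
    (2, 179, 1, 2, 3),
    (2, 1433, 1, 1433, 0),
    (3, 239, 0, 0, 0),
    (3, 41, 0, 0, 0),
    (2, 359, 1, 2, 2),
    (2, 479, 1, 3, 1),
    (2, 719, 1, 2, 1),
    (2, 1439, 1, 1439, 0),
    (5, 0, 0, 0, 0),
    (2, 131, 1, 11, 1),
    (3, 103, 0, 0, 0),
    (3, 37, 0, 0, 0),
    (2, 19, 2, 2, 2),
    (2, 17, 2, 5, 1),
    (3, 241, 0, 0, 0),
    (2, 1447, 1, 1447, 0),
    (2, 181, 1, 2, 3),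
    (3, 23, 0, 0, 0),
    (3, 29, 0, 0, 0),
    (2, 1451, 1, 1451, 0),
    (5, 0, 0, 0, 0),
    (2, 1453, 1, 1453, 0),
    (2, 727, 1, 2, 1),
    (3, 97, 0, 0, 0),
    (3, 13, 0, 0, 0),
    (2, 47, 1, 31, 1),
    (2, 3, 6, 2, 1),
    (2, 1459, 1, 1459, 0),
    (3, 73, 0, 0, 0),
    (2, 487, 1, 3, 1),
    (3, 43, 0, 0, 0),
    (3, 19, 0, 0, 0),
    (3, 61, 0, 0, 0),
    (2, 293, 1, 5, 1),
    (2, 733, 1, 2, 1),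
    (2, 163, 1, 3, 2),
    (2, 367, 1, 2, 2),
    (2, 113, 1, 13, 1),
    (0, 2, 1, 0, 0),
    (2, 1471, 1, 1471, 0),
    (2, 23, 1, 2, 6),
    (2, 491, 1, 3, 1),
    (3, 67, 0, 0, 0),
    (2, 59, 1, 5, 2),
    (3, 41, 0, 0, 0),
    (2, 211, 1, 7, 1),
    (2, 739, 1, 2, 1),
    (3, 29, 0, 0, 0),
    (3, 37, 0, 0, 0),
    (2, 1481, 1, 1481, 0),
    (3, 19, 0, 0, 0),
    (2, 1483, 1, 1483, 0),
    (3, 53, 0, 0, 0),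
    (0, 11, 1, 0, 0),
    (2, 743, 1, 2, 1),
    (2, 1487, 1, 1487, 0),
    (3, 31, 0, 0, 0),
    (2, 1489, 1, 1489, 0),
    (3, 149, 0, 0, 0),
    (3, 71, 0, 0, 0),
    (2, 373, 1, 2, 2)]

/-- Witnesses for orders from 1493. -/
def cert4 : List (ℕ × ℕ × ℕ × ℕ × ℕ) :=
  [(2, 1493, 1, 1493, 0),
    (3, 83, 0, 0, 0),
    (3, 23, 0, 0, 0),
    (3, 17, 0, 0, 0),
    (2, 499, 1, 3, 1),
    (3, 107, 0, 0, 0),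
    (2, 1499, 1, 1499, 0),
    (0, 5, 3, 0, 0),
    (2, 79, 1, 19, 1),
    (2, 751, 1, 2, 1),
    (2, 167, 1, 3, 2),
    (2, 47, 1, 2, 5),
    (3, 43, 0, 0, 0),
    (3, 251, 0, 0, 0),
    (2, 137, 1, 11, 1),
    (3, 29, 0, 0, 0),
    (2, 503, 1, 3, 1),
    (3, 151, 0, 0, 0),
    (2, 1511, 1, 1511, 0),
    (5, 0, 0, 0, 0),
    (2, 89, 1, 17, 1),
    (2, 757, 1, 2, 1),
    (3, 101, 0, 0, 0),
    (2, 379, 1, 2, 2),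
    (2, 41, 1, 37, 1),
    (3, 23, 0, 0, 0),
    (2, 31, 1, 7, 2),
    (3, 19, 0, 0, 0),
    (2, 13, 2, 3, 2),
    (2, 761, 1, 2, 1),
    (2, 1523, 1, 1523, 0),
    (3, 127, 0, 0, 0),
    (2, 61, 1, 5, 2),
    (3, 109, 0, 0, 0),
    (2, 509, 1, 3, 1),
    (2, 191, 1, 2, 3),
    (2, 139, 1, 11, 1),
    (3, 17, 0, 0, 0),
    (2, 1531, 1, 1531, 0),
    (2, 383, 1, 2, 2),
    (3, 73, 0, 0, 0),
    (3, 59, 0, 0, 0),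
    (2, 307, 1, 5, 1),
    (2, 3, 1, 2, 9),
    (2, 53, 1, 29, 1),
    (2, 769, 1, 2, 1),
    (2, 19, 1, 3, 4),
    (0, 11, 1, 0, 0),
    (2, 67, 1, 23, 1),
    (3, 257, 0, 0, 0),
    (2, 1543, 1, 1543, 0),
    (2, 193, 1, 2, 3),
    (3, 103, 0, 0, 0),
    (2, 773, 1, 2, 1),
    (3, 17, 0, 0, 0),
    (3, 43, 0, 0, 0),
    (2, 1549, 1, 1549, 0),
    (3, 31, 0, 0, 0),
    (3, 47, 0, 0, 0),
    (2, 97, 1, 2, 4),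
    (2, 1553, 1, 1553, 0),
    (3, 37, 0, 0, 0),
    (2, 311, 1, 5, 1),
    (2, 389, 1, 2, 2),
    (2, 173, 1, 3, 2),
    (3, 41, 0, 0, 0),
    (2, 1559, 1, 1559, 0),
    (3, 13, 0, 0, 0),
    (2, 223, 1, 7, 1),
    (3, 71, 0, 0, 0),
    (2, 521, 1, 3, 1),
    (3, 23, 0, 0, 0),
    (2, 313, 1, 5, 1),
    (3, 29, 0, 0, 0),
    (2, 1567, 1, 1567, 0),
    (2, 7, 2, 2, 5),
    (2, 523, 1, 3, 1),
    (3, 157, 0, 0, 0),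
    (2, 1571, 1, 1571, 0),
    (3, 131, 0, 0, 0),
    (2, 13, 1, 11, 2),
    (2, 787, 1, 2, 1),
    (5, 0, 0, 0, 0),
    (2, 197, 1, 2, 3),
    (2, 83, 1, 19, 1),
    (3, 263, 0, 0, 0),
    (2, 1579, 1, 1579, 0),
    (3, 79, 0, 0, 0),
    (3, 31, 0, 0, 0),
    (3, 113, 0, 0, 0),
    (2, 1583, 1, 1583, 0),
    (1, 11, 0, 0, 0),
    (2, 317, 1, 5, 1),
    (3, 61, 0, 0, 0),
    (2, 23, 2, 3, 1),
    (2, 397, 1, 2, 2),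
    (2, 227, 1, 7, 1),
    (3, 53, 0, 0, 0),
    (2, 43, 1, 37, 1),
    (2, 199, 1, 2, 3)]

/-- Witnesses for orders from 1593. -/
def cert5 : List (ℕ × ℕ × ℕ × ℕ × ℕ) :=
  [(2, 59, 1, 3, 3),
    (2, 797, 1, 2, 1),
    (3, 29, 0, 0, 0),
    (3, 19, 0, 0, 0),
    (2, 1597, 1, 1597, 0),
    (3, 47, 0, 0, 0),
    (3, 41, 0, 0, 0),
    (2, 5, 2, 2, 6),
    (2, 1601, 1, 1601, 0),
    (3, 89, 0, 0, 0),
    (2, 229, 1, 7, 1),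
    (2, 401, 1, 2, 2),
    (3, 107, 0, 0, 0),
    (3, 73, 0, 0, 0),
    (2, 1607, 1, 1607, 0),
    (3, 67, 0, 0, 0),
    (2, 1609, 1, 1609, 0),
    (3, 23, 0, 0, 0),
    (2, 179, 1, 3, 2),
    (3, 31, 0, 0, 0),
    (2, 1613, 1, 1613, 0),
    (3, 269, 0, 0, 0),
    (3, 19, 0, 0, 0),
    (2, 101, 1, 2, 4),
    (0, 11, 1, 0, 0),
    (2, 809, 1, 2, 1),
    (2, 1619, 1, 1619, 0),
    (5, 0, 0, 0, 0),
    (2, 1621, 1, 1621, 0),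
    (2, 811, 1, 2, 1),
    (2, 541, 1, 3, 1),
    (3, 29, 0, 0, 0),
    (2, 13, 1, 5, 3),
    (3, 271, 0, 0, 0),
    (2, 1627, 1, 1627, 0),
    (3, 37, 0, 0, 0),
    (2, 181, 1, 3, 2),
    (3, 163, 0, 0, 0),
    (2, 233, 1, 7, 1),
    (3, 17, 0, 0, 0),
    (2, 71, 1, 23, 1),
    (3, 43, 0, 0, 0),
    (3, 109, 0, 0, 0),
    (2, 409, 1, 2, 2),
    (2, 1637, 1, 1637, 0),
    (3, 13, 0, 0, 0),
    (2, 149, 1, 11, 1),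
    (3, 41, 0, 0, 0),
    (2, 547, 1, 3, 1),
    (2, 821, 1, 2, 1),
    (2, 53, 1, 31, 1),
    (3, 137, 0, 0, 0),
    (3, 47, 0, 0, 0),
    (2, 823, 1, 2, 1),
    (2, 61, 1, 3, 3),
    (2, 103, 1, 2, 4),
    (2, 97, 1, 17, 1),
    (0, 11, 1, 0, 0),
    (2, 127, 1, 13, 1),
    (3, 59, 0, 0, 0),
    (3, 29, 0, 0, 0),
    (2, 827, 1, 2, 1),
    (2, 331, 1, 5, 1),
    (3, 23, 0, 0, 0),
    (2, 1657, 1, 1657, 0),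
    (2, 829, 1, 2, 1),
    (3, 79, 0, 0, 0),
    (3, 83, 0, 0, 0),
    (2, 151, 1, 11, 1),
    (3, 277, 0, 0, 0),
    (2, 1663, 1, 1663, 0),
    (2, 13, 1, 2, 7),
    (3, 37, 0, 0, 0),
    (3, 17, 0, 0, 0),
    (2, 1667, 1, 1667, 0),
    (3, 139, 0, 0, 0),
    (2, 1669, 1, 1669, 0),
    (3, 167, 0, 0, 0),
    (2, 557, 1, 3, 1),
    (3, 19, 0, 0, 0),
    (2, 239, 1, 7, 1),
    (3, 31, 0, 0, 0),
    (2, 67, 1, 5, 2),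
    (2, 419, 1, 2, 2),
    (3, 43, 0, 0, 0),
    (2, 839, 1, 2, 1),
    (2, 73, 1, 23, 1),
    (5, 0, 0, 0, 0),
    (2, 41, 2, 41, 0),
    (2, 29, 2, 2, 1),
    (3, 17, 0, 0, 0),
    (2, 421, 1, 2, 2),
    (2, 337, 1, 5, 1),
    (3, 281, 0, 0, 0),
    (2, 241, 1, 7, 1),
    (2, 211, 1, 2, 3),
    (2, 563, 1, 3, 1),
    (3, 13, 0, 0, 0),
    (2, 89, 1, 19, 1),
    (3, 47, 0, 0, 0)]

/-- Witnesses for orders from 1693. -/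
def cert6 : List (ℕ × ℕ × ℕ × ℕ × ℕ) :=
  [(2, 1693, 1, 1693, 0),
    (0, 11, 2, 0, 0),
    (3, 113, 0, 0, 0),
    (2, 53, 1, 2, 5),
    (2, 1697, 1, 1697, 0),
    (3, 283, 0, 0, 0),
    (2, 1699, 1, 1699, 0),
    (3, 17, 0, 0, 0),
    (2, 7, 1, 3, 5),
    (3, 37, 0, 0, 0),
    (2, 131, 1, 13, 1),
    (3, 71, 0, 0, 0),
    (3, 31, 0, 0, 0),
    (2, 853, 1, 2, 1),
    (2, 569, 1, 3, 1),
    (3, 61, 0, 0, 0),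
    (2, 1709, 1, 1709, 0),
    (3, 19, 0, 0, 0),
    (2, 59, 1, 29, 1),
    (2, 107, 1, 2, 4),
    (2, 571, 1, 3, 1),
    (2, 857, 1, 2, 1),
    (2, 7, 3, 5, 1),
    (3, 13, 0, 0, 0),
    (2, 101, 1, 17, 1),
    (2, 859, 1, 2, 1),
    (2, 191, 1, 3, 2),
    (3, 43, 0, 0, 0),
    (2, 1721, 1, 1721, 0),
    (3, 41, 0, 0, 0),
    (2, 1723, 1, 1723, 0),
    (2, 431, 1, 2, 2),
    (3, 23, 0, 0, 0),
    (2, 863, 1, 2, 1),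
    (2, 157, 1, 11, 1),
    (2, 3, 3, 2, 6),
    (3, 19, 0, 0, 0),
    (3, 173, 0, 0, 0),
    (2, 577, 1, 3, 1),
    (2, 433, 1, 2, 2),
    (2, 1733, 1, 1733, 0),
    (3, 17, 0, 0, 0),
    (2, 347, 1, 5, 1),
    (3, 31, 0, 0, 0),
    (2, 193, 1, 3, 2),
    (3, 79, 0, 0, 0),
    (2, 47, 1, 37, 1),
    (3, 29, 0, 0, 0),
    (2, 1741, 1, 1741, 0),
    (3, 67, 0, 0, 0),
    (3, 83, 0, 0, 0),
    (2, 109, 1, 2, 4),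
    (2, 349, 1, 5, 1),
    (3, 97, 0, 0, 0),
    (2, 1747, 1, 1747, 0),
    (3, 23, 0, 0, 0),
    (3, 53, 0, 0, 0),
    (0, 7, 1, 0, 0),
    (2, 103, 1, 17, 1),
    (3, 73, 0, 0, 0),
    (2, 1753, 1, 1753, 0),
    (2, 877, 1, 2, 1),
    (3, 13, 0, 0, 0),
    (2, 439, 1, 2, 2),
    (2, 251, 1, 7, 1),
    (3, 293, 0, 0, 0),
    (2, 1759, 1, 1759, 0),
    (0, 11, 1, 0, 0),
    (2, 587, 1, 3, 1),
    (2, 881, 1, 2, 1),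
    (2, 43, 1, 41, 1),
    (5, 0, 0, 0, 0),
    (2, 353, 1, 5, 1),
    (2, 883, 1, 2, 1),
    (3, 31, 0, 0, 0),
    (3, 17, 0, 0, 0),
    (2, 61, 1, 29, 1),
    (3, 59, 0, 0, 0),
    (3, 23, 0, 0, 0),
    (2, 443, 1, 2, 2),
    (2, 197, 1, 3, 2),
    (2, 887, 1, 2, 1),
    (2, 71, 1, 5, 2),
    (3, 37, 0, 0, 0),
    (2, 1777, 1, 1777, 0),
    (3, 127, 0, 0, 0),
    (2, 593, 1, 3, 1),
    (3, 89, 0, 0, 0),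
    (2, 137, 1, 13, 1),
    (0, 11, 1, 0, 0),
    (2, 1783, 1, 1783, 0),
    (2, 223, 1, 2, 3),
    (3, 17, 0, 0, 0),
    (3, 47, 0, 0, 0),
    (2, 1787, 1, 1787, 0),
    (3, 149, 0, 0, 0),
    (2, 1789, 1, 1789, 0),
    (3, 179, 0, 0, 0),
    (2, 199, 1, 3, 2),
    (2, 7, 1, 2, 8)]

/-- Witnesses for orders from 1793. -/
def cert7 : List (ℕ × ℕ × ℕ × ℕ × ℕ) :=
  [(2, 163, 1, 11, 1),
    (3, 23, 0, 0, 0),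
    (2, 359, 1, 5, 1),
    (2, 449, 1, 2, 2),
    (2, 599, 1, 3, 1),
    (3, 31, 0, 0, 0),
    (2, 257, 1, 7, 1),
    (5, 0, 0, 0, 0),
    (2, 1801, 1, 1801, 0),
    (3, 53, 0, 0, 0),
    (2, 601, 1, 3, 1),
    (3, 41, 0, 0, 0),
    (2, 19, 2, 5, 1),
    (3, 43, 0, 0, 0),
    (2, 139, 1, 13, 1),
    (2, 113, 1, 2, 4),
    (2, 67, 1, 3, 3),
    (3, 181, 0, 0, 0),
    (2, 1811, 1, 1811, 0),
    (3, 151, 0, 0, 0),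
    (2, 37, 1, 7, 2),
    (2, 907, 1, 2, 1),
    (0, 11, 2, 0, 0),
    (2, 227, 1, 2, 3),
    (2, 79, 1, 23, 1),
    (3, 101, 0, 0, 0),
    (2, 107, 1, 17, 1),
    (3, 13, 0, 0, 0),
    (2, 607, 1, 3, 1),
    (2, 911, 1, 2, 1),
    (2, 1823, 1, 1823, 0),
    (3, 19, 0, 0, 0),
    (2, 73, 1, 5, 2),
    (3, 83, 0, 0, 0),
    (3, 29, 0, 0, 0),
    (2, 457, 1, 2, 2),
    (2, 59, 1, 31, 1),
    (3, 61, 0, 0, 0),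
    (2, 1831, 1, 1831, 0),
    (2, 229, 1, 2, 3),
    (3, 47, 0, 0, 0),
    (3, 131, 0, 0, 0),
    (2, 367, 1, 5, 1),
    (3, 17, 0, 0, 0),
    (2, 167, 1, 11, 1),
    (2, 919, 1, 2, 1),
    (2, 613, 1, 3, 1),
    (3, 23, 0, 0, 0),
    (2, 263, 1, 7, 1),
    (3, 307, 0, 0, 0),
    (2, 97, 1, 19, 1),
    (2, 461, 1, 2, 2),
    (3, 41, 0, 0, 0),
    (3, 71, 0, 0, 0),
    (2, 1847, 1, 1847, 0),
    (4, 11, 0, 0, 0),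
    (2, 43, 2, 43, 0),
    (3, 37, 0, 0, 0),
    (2, 617, 1, 3, 1),
    (2, 463, 1, 2, 2),
    (2, 109, 1, 17, 1),
    (3, 103, 0, 0, 0),
    (3, 53, 0, 0, 0),
    (2, 29, 1, 2, 6),
    (2, 619, 1, 3, 1),
    (2, 929, 1, 2, 1),
    (2, 13, 2, 11, 1),
    (3, 31, 0, 0, 0),
    (2, 1861, 1, 1861, 0),
    (3, 19, 0, 0, 0),
    (2, 23, 1, 3, 4),
    (2, 233, 1, 2, 3),
    (2, 373, 1, 5, 1),
    (3, 311, 0, 0, 0),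
    (2, 1867, 1, 1867, 0),
    (2, 467, 1, 2, 2),
    (3, 89, 0, 0, 0),
    (3, 17, 0, 0, 0),
    (2, 1871, 1, 1871, 0),
    (3, 13, 0, 0, 0),
    (2, 1873, 1, 1873, 0),
    (2, 937, 1, 2, 1),
    (2, 5, 4, 3, 1),
    (3, 67, 0, 0, 0),
    (2, 1877, 1, 1877, 0),
    (3, 313, 0, 0, 0),
    (2, 1879, 1, 1879, 0),
    (3, 47, 0, 0, 0),
    (3, 19, 0, 0, 0),
    (2, 941, 1, 2, 1),
    (2, 269, 1, 7, 1),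
    (3, 157, 0, 0, 0),
    (3, 29, 0, 0, 0),
    (3, 41, 0, 0, 0),
    (3, 37, 0, 0, 0),
    (2, 59, 1, 2, 5),
    (2, 1889, 1, 1889, 0),
    (0, 2, 1, 0, 0),
    (2, 61, 1, 31, 1),
    (3, 43, 0, 0, 0)]

/-- Witnesses for orders from 1893. -/
def cert8 : List (ℕ × ℕ × ℕ × ℕ × ℕ) :=
  [(2, 631, 1, 3, 1),
    (2, 947, 1, 2, 1),
    (2, 379, 1, 5, 1),
    (3, 79, 0, 0, 0),
    (2, 271, 1, 7, 1),
    (3, 73, 0, 0, 0),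
    (2, 211, 1, 3, 2),
    (3, 19, 0, 0, 0),
    (2, 1901, 1, 1901, 0),
    (3, 317, 0, 0, 0),
    (2, 173, 1, 11, 1),
    (3, 17, 0, 0, 0),
    (3, 127, 0, 0, 0),
    (2, 953, 1, 2, 1),
    (2, 1907, 1, 1907, 0),
    (3, 53, 0, 0, 0),
    (2, 83, 1, 23, 1),
    (3, 191, 0, 0, 0),
    (3, 13, 0, 0, 0),
    (2, 239, 1, 2, 3),
    (2, 1913, 1, 1913, 0),
    (3, 29, 0, 0, 0),
    (2, 383, 1, 5, 1),
    (2, 479, 1, 2, 2),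
    (2, 71, 1, 3, 3),
    (3, 137, 0, 0, 0),
    (2, 101, 1, 19, 1),
    (5, 0, 0, 0, 0),
    (2, 113, 1, 17, 1),
    (2, 31, 2, 2, 1),
    (2, 641, 1, 3, 1),
    (3, 37, 0, 0, 0),
    (0, 11, 1, 0, 0),
    (3, 107, 0, 0, 0),
    (2, 47, 1, 41, 1),
    (2, 241, 1, 2, 3),
    (2, 643, 1, 3, 1),
    (3, 193, 0, 0, 0),
    (2, 1931, 1, 1931, 0),
    (3, 23, 0, 0, 0),
    (2, 1933, 1, 1933, 0),
    (2, 967, 1, 2, 1),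
    (3, 43, 0, 0, 0),
    (2, 11, 2, 2, 4),
    (2, 149, 1, 13, 1),
    (3, 19, 0, 0, 0),
    (2, 277, 1, 7, 1),
    (3, 97, 0, 0, 0),
    (2, 647, 1, 3, 1),
    (2, 971, 1, 2, 1),
    (2, 67, 1, 29, 1),
    (2, 3, 5, 2, 3),
    (2, 389, 1, 5, 1),
    (3, 139, 0, 0, 0),
    (3, 59, 0, 0, 0),
    (2, 487, 1, 2, 2),
    (2, 1949, 1, 1949, 0),
    (3, 13, 0, 0, 0),
    (2, 1951, 1, 1951, 0),
    (2, 61, 1, 2, 5),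
    (3, 31, 0, 0, 0),
    (2, 977, 1, 2, 1),
    (3, 23, 0, 0, 0),
    (3, 163, 0, 0, 0),
    (2, 103, 1, 19, 1),
    (3, 89, 0, 0, 0),
    (2, 653, 1, 3, 1),
    (0, 7, 2, 0, 0),
    (2, 53, 1, 37, 1),
    (3, 109, 0, 0, 0),
    (2, 151, 1, 13, 1),
    (2, 491, 1, 2, 2),
    (3, 131, 0, 0, 0),
    (2, 983, 1, 2, 1),
    (2, 281, 1, 7, 1),
    (3, 41, 0, 0, 0),
    (2, 179, 1, 11, 1),
    (3, 197, 0, 0, 0),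
    (2, 73, 1, 3, 3),
    (3, 29, 0, 0, 0),
    (2, 1973, 1, 1973, 0),
    (3, 47, 0, 0, 0),
    (2, 79, 1, 5, 2),
    (3, 19, 0, 0, 0),
    (2, 659, 1, 3, 1),
    (3, 43, 0, 0, 0),
    (2, 1979, 1, 1979, 0),
    (5, 0, 0, 0, 0),
    (2, 283, 1, 7, 1),
    (2, 991, 1, 2, 1),
    (2, 661, 1, 3, 1),
    (2, 31, 1, 2, 6),
    (2, 397, 1, 5, 1),
    (3, 331, 0, 0, 0),
    (2, 1987, 1, 1987, 0),
    (3, 71, 0, 0, 0),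
    (3, 17, 0, 0, 0),
    (3, 199, 0, 0, 0),
    (2, 181, 1, 11, 1),
    (3, 83, 0, 0, 0)]

/-- Witnesses for orders from 1993. -/
def cert9 : List (ℕ × ℕ × ℕ × ℕ × ℕ) :=
  [(2, 1993, 1, 1993, 0),
    (2, 997, 1, 2, 1),
    (3, 19, 0, 0, 0),
    (2, 499, 1, 2, 2),
    (2, 1997, 1, 1997, 0),
    (3, 37, 0, 0, 0),
    (2, 1999, 1, 1999, 0),
    (2, 5, 3, 2, 4),
    (3, 29, 0, 0, 0),
    (3, 13, 0, 0, 0),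
    (2, 2003, 1, 2003, 0),
    (3, 167, 0, 0, 0),
    (2, 401, 1, 5, 1),
    (3, 59, 0, 0, 0),
    (2, 223, 1, 3, 2),
    (2, 251, 1, 2, 3),
    (2, 41, 1, 7, 2),
    (3, 67, 0, 0, 0),
    (2, 2011, 1, 2011, 0),
    (2, 503, 1, 2, 2),
    (3, 61, 0, 0, 0),
    (3, 53, 0, 0, 0),
    (3, 31, 0, 0, 0),
    (5, 0, 0, 0, 0),
    (2, 2017, 1, 2017, 0),
    (2, 1009, 1, 2, 1),
    (2, 673, 1, 3, 1),
    (3, 101, 0, 0, 0),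
    (2, 47, 1, 43, 1),
    (3, 337, 0, 0, 0),
    (2, 17, 2, 7, 1),
    (3, 23, 0, 0, 0),
    (2, 5, 2, 3, 4),
    (2, 1013, 1, 2, 1),
    (2, 2027, 1, 2027, 0),
    (3, 13, 0, 0, 0),
    (2, 2029, 1, 2029, 0),
    (3, 29, 0, 0, 0),
    (2, 677, 1, 3, 1),
    (2, 127, 1, 2, 4),
    (2, 107, 1, 19, 1),
    (3, 113, 0, 0, 0),
    (3, 37, 0, 0, 0),
    (2, 509, 1, 2, 2),
    (3, 97, 0, 0, 0),
    (2, 1019, 1, 2, 1),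
    (2, 2039, 1, 2039, 0),
    (3, 17, 0, 0, 0),
    (2, 157, 1, 13, 1),
    (2, 1021, 1, 2, 1),
    (2, 227, 1, 3, 2),
    (3, 73, 0, 0, 0),
    (2, 409, 1, 5, 1),
    (3, 31, 0, 0, 0),
    (2, 89, 1, 23, 1),
    (2, 2, 11, 2, 0),
    (2, 683, 1, 3, 1),
    (3, 41, 0, 0, 0),
    (2, 293, 1, 7, 1),
    (3, 19, 0, 0, 0),
    (2, 2053, 1, 2053, 0),
    (3, 79, 0, 0, 0),
    (3, 137, 0, 0, 0),
    (2, 257, 1, 2, 3),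
    (2, 17, 1, 11, 2),
    (0, 7, 3, 0, 0),
    (2, 71, 1, 29, 1),
    (3, 103, 0, 0, 0),
    (2, 229, 1, 3, 2),
    (2, 1031, 1, 2, 1),
    (2, 2063, 1, 2063, 0),
    (3, 43, 0, 0, 0),
    (3, 59, 0, 0, 0),
    (2, 1033, 1, 2, 1),
    (3, 53, 0, 0, 0),
    (3, 47, 0, 0, 0),
    (2, 2069, 1, 2069, 0),
    (3, 23, 0, 0, 0),
    (2, 109, 1, 19, 1),
    (3, 37, 0, 0, 0),
    (2, 691, 1, 3, 1),
    (3, 61, 0, 0, 0),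
    (2, 83, 1, 5, 2),
    (3, 173, 0, 0, 0),
    (2, 67, 1, 31, 1),
    (2, 1039, 1, 2, 1),
    (0, 11, 1, 0, 0),
    (3, 13, 0, 0, 0),
    (2, 2081, 1, 2081, 0),
    (3, 347, 0, 0, 0),
    (2, 2083, 1, 2083, 0),
    (2, 521, 1, 2, 2),
    (3, 139, 0, 0, 0),
    (3, 149, 0, 0, 0),
    (2, 2087, 1, 2087, 0),
    (3, 29, 0, 0, 0),
    (2, 2089, 1, 2089, 0),
    (3, 19, 0, 0, 0),
    (3, 41, 0, 0, 0),
    (2, 523, 1, 2, 2)]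

/-- Witnesses for orders from 2093. -/
def cert10 : List (ℕ × ℕ × ℕ × ℕ × ℕ) :=
  [(3, 23, 0, 0, 0),
    (3, 349, 0, 0, 0),
    (2, 419, 1, 5, 1),
    (2, 131, 1, 2, 4),
    (2, 233, 1, 3, 2),
    (2, 1049, 1, 2, 1),
    (2, 2099, 1, 2099, 0),
    (5, 0, 0, 0, 0),
    (2, 191, 1, 11, 1),
    (2, 1051, 1, 2, 1),
    (2, 701, 1, 3, 1),
    (2, 263, 1, 2, 3),
    (2, 421, 1, 5, 1),
    (3, 13, 0, 0, 0),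
    (2, 43, 1, 7, 2),
    (3, 31, 0, 0, 0),
    (3, 37, 0, 0, 0),
    (3, 211, 0, 0, 0),
    (2, 2111, 1, 2111, 0),
    (1, 11, 0, 0, 0),
    (2, 2113, 1, 2113, 0),
    (3, 151, 0, 0, 0),
    (3, 47, 0, 0, 0),
    (2, 23, 2, 2, 2),
    (2, 73, 1, 29, 1),
    (3, 353, 0, 0, 0),
    (2, 163, 1, 13, 1),
    (3, 53, 0, 0, 0),
    (3, 101, 0, 0, 0),
    (2, 1061, 1, 2, 1),
    (2, 193, 1, 11, 1),
    (3, 59, 0, 0, 0),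
    (2, 17, 1, 5, 3),
    (2, 1063, 1, 2, 1),
    (2, 709, 1, 3, 1),
    (3, 19, 0, 0, 0),
    (2, 2129, 1, 2129, 0),
    (3, 71, 0, 0, 0),
    (2, 2131, 1, 2131, 0),
    (3, 41, 0, 0, 0),
    (2, 79, 1, 3, 3),
    (3, 97, 0, 0, 0),
    (3, 61, 0, 0, 0),
    (3, 89, 0, 0, 0),
    (2, 2137, 1, 2137, 0),
    (2, 1069, 1, 2, 1),
    (3, 31, 0, 0, 0),
    (3, 107, 0, 0, 0),
    (2, 2141, 1, 2141, 0),
    (3, 17, 0, 0, 0),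
    (2, 2143, 1, 2143, 0),
    (2, 67, 1, 2, 5),
    (3, 13, 0, 0, 0),
    (3, 37, 0, 0, 0),
    (2, 113, 1, 19, 1),
    (3, 179, 0, 0, 0),
    (2, 307, 1, 7, 1),
    (3, 43, 0, 0, 0),
    (2, 239, 1, 3, 2),
    (2, 269, 1, 2, 3),
    (2, 2153, 1, 2153, 0),
    (3, 359, 0, 0, 0),
    (2, 431, 1, 5, 1),
    (0, 11, 1, 0, 0),
    (2, 719, 1, 3, 1),
    (3, 83, 0, 0, 0),
    (2, 127, 1, 17, 1),
    (5, 0, 0, 0, 0),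
    (2, 2161, 1, 2161, 0),
    (3, 47, 0, 0, 0),
    (3, 103, 0, 0, 0),
    (2, 541, 1, 2, 2),
    (2, 433, 1, 5, 1),
    (3, 19, 0, 0, 0),
    (2, 197, 1, 11, 1),
    (2, 271, 1, 2, 3),
    (2, 241, 1, 3, 2),
    (3, 31, 0, 0, 0),
    (2, 167, 1, 13, 1),
    (3, 181, 0, 0, 0),
    (2, 53, 1, 41, 1),
    (2, 1087, 1, 2, 1),
    (3, 29, 0, 0, 0),
    (2, 17, 1, 2, 7),
    (2, 311, 1, 7, 1),
    (0, 11, 2, 0, 0),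
    (2, 2179, 1, 2179, 0),
    (3, 109, 0, 0, 0),
    (2, 727, 1, 3, 1),
    (2, 1091, 1, 2, 1),
    (2, 59, 1, 37, 1),
    (3, 13, 0, 0, 0),
    (3, 23, 0, 0, 0),
    (2, 1093, 1, 2, 1),
    (2, 3, 7, 3, 0),
    (2, 547, 1, 2, 2),
    (2, 199, 1, 11, 1),
    (3, 73, 0, 0, 0),
    (2, 313, 1, 7, 1),
    (2, 137, 1, 2, 4)]

/-- Witnesses for orders from 2193. -/
def cert11 : List (ℕ × ℕ × ℕ × ℕ × ℕ) :=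
  [(3, 43, 0, 0, 0),
    (2, 1097, 1, 2, 1),
    (2, 439, 1, 5, 1),
    (3, 61, 0, 0, 0),
    (2, 13, 3, 13, 0),
    (3, 157, 0, 0, 0),
    (2, 733, 1, 3, 1),
    (5, 0, 0, 0, 0),
    (2, 71, 1, 31, 1),
    (3, 367, 0, 0, 0),
    (2, 2203, 1, 2203, 0),
    (3, 29, 0, 0, 0),
    (0, 5, 1, 0, 0),
    (2, 1103, 1, 2, 1),
    (2, 2207, 1, 2207, 0),
    (3, 23, 0, 0, 0),
    (2, 47, 2, 47, 0),
    (3, 17, 0, 0, 0),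
    (3, 67, 0, 0, 0),
    (3, 79, 0, 0, 0),
    (2, 2213, 1, 2213, 0),
    (3, 41, 0, 0, 0),
    (2, 443, 1, 5, 1),
    (2, 277, 1, 2, 3),
    (2, 739, 1, 3, 1),
    (2, 1109, 1, 2, 1),
    (2, 317, 1, 7, 1),
    (3, 37, 0, 0, 0),
    (2, 2221, 1, 2221, 0),
    (3, 101, 0, 0, 0),
    (3, 19, 0, 0, 0),
    (2, 139, 1, 2, 4),
    (2, 89, 1, 5, 2),
    (3, 53, 0, 0, 0),
    (2, 131, 1, 17, 1),
    (2, 557, 1, 2, 2),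
    (2, 743, 1, 3, 1),
    (3, 223, 0, 0, 0),
    (2, 97, 1, 23, 1),
    (3, 31, 0, 0, 0),
    (3, 29, 0, 0, 0),
    (2, 1117, 1, 2, 1),
    (3, 149, 0, 0, 0),
    (3, 43, 0, 0, 0),
    (2, 2237, 1, 2237, 0),
    (3, 373, 0, 0, 0),
    (2, 2239, 1, 2239, 0),
    (4, 7, 0, 0, 0),
    (2, 83, 1, 3, 3),
    (3, 59, 0, 0, 0),
    (2, 2243, 1, 2243, 0),
    (3, 17, 0, 0, 0),
    (2, 449, 1, 5, 1),
    (2, 1123, 1, 2, 1),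
    (3, 107, 0, 0, 0),
    (2, 281, 1, 2, 3),
    (2, 173, 1, 13, 1),
    (0, 5, 3, 0, 0),
    (2, 2251, 1, 2251, 0),
    (2, 563, 1, 2, 2),
    (2, 751, 1, 3, 1),
    (3, 23, 0, 0, 0),
    (3, 41, 0, 0, 0),
    (3, 47, 0, 0, 0),
    (2, 61, 1, 37, 1),
    (2, 1129, 1, 2, 1),
    (2, 251, 1, 3, 2),
    (3, 113, 0, 0, 0),
    (3, 19, 0, 0, 0),
    (3, 29, 0, 0, 0),
    (2, 73, 1, 31, 1),
    (2, 283, 1, 2, 3),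
    (3, 151, 0, 0, 0),
    (3, 103, 0, 0, 0),
    (2, 2267, 1, 2267, 0),
    (5, 0, 0, 0, 0),
    (2, 2269, 1, 2269, 0),
    (3, 227, 0, 0, 0),
    (2, 757, 1, 3, 1),
    (2, 71, 1, 2, 5),
    (2, 2273, 1, 2273, 0),
    (3, 379, 0, 0, 0),
    (0, 13, 1, 0, 0),
    (2, 569, 1, 2, 2),
    (3, 23, 0, 0, 0),
    (3, 67, 0, 0, 0),
    (2, 53, 1, 43, 1),
    (3, 19, 0, 0, 0),
    (2, 2281, 1, 2281, 0),
    (3, 163, 0, 0, 0),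
    (2, 761, 1, 3, 1),
    (2, 571, 1, 2, 2),
    (2, 457, 1, 5, 1),
    (3, 127, 0, 0, 0),
    (2, 2287, 1, 2287, 0),
    (0, 13, 1, 0, 0),
    (3, 109, 0, 0, 0),
    (3, 229, 0, 0, 0),
    (2, 79, 1, 29, 1),
    (3, 191, 0, 0, 0)]

/-- Witnesses for orders from 2293. -/
def cert12 : List (ℕ × ℕ × ℕ × ℕ × ℕ) :=
  [(2, 2293, 1, 2293, 0),
    (3, 37, 0, 0, 0),
    (3, 17, 0, 0, 0),
    (3, 41, 0, 0, 0),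
    (2, 2297, 1, 2297, 0),
    (3, 383, 0, 0, 0),
    (2, 19, 1, 11, 2),
    (3, 23, 0, 0, 0),
    (3, 59, 0, 0, 0),
    (2, 1151, 1, 2, 1),
    (2, 47, 1, 7, 2),
    (2, 3, 2, 2, 8),
    (2, 461, 1, 5, 1),
    (2, 1153, 1, 2, 1),
    (2, 769, 1, 3, 1),
    (2, 577, 1, 2, 2),
    (2, 2309, 1, 2309, 0),
    (0, 11, 1, 0, 0),
    (2, 2311, 1, 2311, 0),
    (2, 17, 2, 2, 3),
    (2, 257, 1, 3, 2),
    (3, 89, 0, 0, 0),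
    (2, 463, 1, 5, 1),
    (3, 193, 0, 0, 0),
    (2, 331, 1, 7, 1),
    (3, 61, 0, 0, 0),
    (2, 773, 1, 3, 1),
    (3, 29, 0, 0, 0),
    (2, 211, 1, 11, 1),
    (3, 43, 0, 0, 0),
    (2, 101, 1, 23, 1),
    (3, 83, 0, 0, 0),
    (3, 31, 0, 0, 0),
    (2, 1163, 1, 2, 1),
    (2, 179, 1, 13, 1),
    (3, 97, 0, 0, 0),
    (2, 137, 1, 17, 1),
    (3, 233, 0, 0, 0),
    (3, 37, 0, 0, 0),
    (3, 53, 0, 0, 0),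
    (2, 2333, 1, 2333, 0),
    (3, 389, 0, 0, 0),
    (2, 467, 1, 5, 1),
    (2, 73, 1, 2, 5),
    (3, 41, 0, 0, 0),
    (3, 167, 0, 0, 0),
    (2, 2339, 1, 2339, 0),
    (0, 13, 1, 0, 0),
    (2, 2341, 1, 2341, 0),
    (2, 1171, 1, 2, 1),
    (3, 71, 0, 0, 0),
    (2, 293, 1, 2, 3),
    (3, 67, 0, 0, 0),
    (3, 23, 0, 0, 0),
    (2, 2347, 1, 2347, 0),
    (2, 587, 1, 2, 2),
    (2, 29, 1, 3, 4),
    (3, 47, 0, 0, 0),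
    (2, 2351, 1, 2351, 0),
    (0, 7, 2, 0, 0),
    (2, 181, 1, 13, 1),
    (3, 107, 0, 0, 0),
    (3, 157, 0, 0, 0),
    (3, 31, 0, 0, 0),
    (2, 2357, 1, 2357, 0),
    (3, 131, 0, 0, 0),
    (2, 337, 1, 7, 1),
    (3, 59, 0, 0, 0),
    (2, 787, 1, 3, 1),
    (2, 1181, 1, 2, 1),
    (2, 139, 1, 17, 1),
    (3, 197, 0, 0, 0),
    (3, 43, 0, 0, 0),
    (0, 2, 1, 0, 0),
    (2, 263, 1, 3, 2),
    (2, 37, 1, 2, 6),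
    (2, 103, 1, 23, 1),
    (3, 79, 0, 0, 0),
    (2, 2371, 1, 2371, 0),
    (2, 593, 1, 2, 2),
    (3, 113, 0, 0, 0),
    (2, 1187, 1, 2, 1),
    (2, 19, 1, 5, 3),
    (1, 11, 0, 0, 0),
    (2, 2377, 1, 2377, 0),
    (3, 41, 0, 0, 0),
    (3, 61, 0, 0, 0),
    (3, 17, 0, 0, 0),
    (2, 2381, 1, 2381, 0),
    (3, 397, 0, 0, 0),
    (2, 2383, 1, 2383, 0),
    (2, 149, 1, 2, 4),
    (3, 53, 0, 0, 0),
    (2, 1193, 1, 2, 1),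
    (3, 31, 0, 0, 0),
    (3, 199, 0, 0, 0),
    (2, 2389, 1, 2389, 0),
    (3, 239, 0, 0, 0),
    (2, 797, 1, 3, 1),
    (3, 23, 0, 0, 0)]

/-- Witnesses for orders from 2393. -/
def cert13 : List (ℕ × ℕ × ℕ × ℕ × ℕ) :=
  [(2, 2393, 1, 2393, 0),
    (3, 19, 0, 0, 0),
    (2, 479, 1, 5, 1),
    (2, 599, 1, 2, 2),
    (3, 47, 0, 0, 0),
    (3, 109, 0, 0, 0),
    (2, 2399, 1, 2399, 0),
    (5, 0, 0, 0, 0),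
    (2, 7, 4, 7, 0),
    (2, 1201, 1, 2, 1),
    (2, 89, 1, 3, 3),
    (2, 601, 1, 2, 2),
    (3, 37, 0, 0, 0),
    (3, 401, 0, 0, 0),
    (2, 83, 1, 29, 1),
    (3, 43, 0, 0, 0),
    (3, 73, 0, 0, 0),
    (3, 241, 0, 0, 0),
    (2, 2411, 1, 2411, 0),
    (3, 67, 0, 0, 0),
    (2, 127, 1, 19, 1),
    (3, 71, 0, 0, 0),
    (3, 23, 0, 0, 0),
    (2, 151, 1, 2, 4),
    (2, 2417, 1, 2417, 0),
    (3, 31, 0, 0, 0),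
    (2, 59, 1, 41, 1),
    (0, 11, 2, 0, 0),
    (2, 269, 1, 3, 2),
    (3, 173, 0, 0, 0),
    (2, 2423, 1, 2423, 0),
    (3, 101, 0, 0, 0),
    (2, 97, 1, 5, 2),
    (2, 1213, 1, 2, 1),
    (2, 809, 1, 3, 1),
    (2, 607, 1, 2, 2),
    (2, 347, 1, 7, 1),
    (0, 3, 5, 0, 0),
    (3, 17, 0, 0, 0),
    (2, 19, 1, 2, 7),
    (2, 811, 1, 3, 1),
    (2, 1217, 1, 2, 1),
    (2, 487, 1, 5, 1),
    (3, 29, 0, 0, 0),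
    (2, 2437, 1, 2437, 0),
    (3, 53, 0, 0, 0),
    (2, 271, 1, 3, 2),
    (3, 61, 0, 0, 0),
    (2, 2441, 1, 2441, 0),
    (3, 37, 0, 0, 0),
    (2, 349, 1, 7, 1),
    (3, 47, 0, 0, 0),
    (3, 163, 0, 0, 0),
    (2, 1223, 1, 2, 1),
    (2, 2447, 1, 2447, 0),
    (3, 17, 0, 0, 0),
    (2, 79, 1, 31, 1),
    (0, 5, 2, 0, 0),
    (3, 43, 0, 0, 0),
    (2, 613, 1, 2, 2),
    (2, 223, 1, 11, 1),
    (3, 409, 0, 0, 0),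
    (2, 491, 1, 5, 1),
    (2, 307, 1, 2, 3),
    (0, 13, 1, 0, 0),
    (2, 1229, 1, 2, 1),
    (2, 2459, 1, 2459, 0),
    (3, 41, 0, 0, 0),
    (2, 107, 1, 23, 1),
    (2, 1231, 1, 2, 1),
    (2, 821, 1, 3, 1),
    (5, 0, 0, 0, 0),
    (3, 29, 0, 0, 0),
    (3, 137, 0, 0, 0),
    (2, 2467, 1, 2467, 0),
    (2, 617, 1, 2, 2),
    (2, 823, 1, 3, 1),
    (3, 19, 0, 0, 0),
    (2, 353, 1, 7, 1),
    (3, 103, 0, 0, 0),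
    (2, 2473, 1, 2473, 0),
    (2, 1237, 1, 2, 1),
    (5, 0, 0, 0, 0),
    (2, 619, 1, 2, 2),
    (2, 2477, 1, 2477, 0),
    (3, 59, 0, 0, 0),
    (2, 67, 1, 37, 1),
    (3, 31, 0, 0, 0),
    (2, 827, 1, 3, 1),
    (3, 73, 0, 0, 0),
    (2, 191, 1, 13, 1),
    (3, 23, 0, 0, 0),
    (3, 71, 0, 0, 0),
    (3, 113, 0, 0, 0),
    (2, 829, 1, 3, 1),
    (2, 311, 1, 2, 3),
    (2, 131, 1, 19, 1),
    (3, 83, 0, 0, 0),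
    (2, 53, 1, 47, 1),
    (3, 89, 0, 0, 0)]

/-- Witnesses for orders from 2493. -/
def cert14 : List (ℕ × ℕ × ℕ × ℕ × ℕ) :=
  [(2, 277, 1, 3, 2),
    (3, 43, 0, 0, 0),
    (2, 499, 1, 5, 1),
    (0, 13, 1, 0, 0),
    (2, 227, 1, 11, 1),
    (2, 1249, 1, 2, 1),
    (3, 17, 0, 0, 0),
    (2, 5, 4, 2, 2),
    (2, 61, 1, 41, 1),
    (3, 139, 0, 0, 0),
    (2, 2503, 1, 2503, 0),
    (2, 313, 1, 2, 3),
    (3, 167, 0, 0, 0),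
    (3, 179, 0, 0, 0),
    (2, 109, 1, 23, 1),
    (3, 19, 0, 0, 0),
    (2, 193, 1, 13, 1),
    (3, 251, 0, 0, 0),
    (2, 31, 1, 3, 4),
    (2, 157, 1, 2, 4),
    (2, 359, 1, 7, 1),
    (3, 419, 0, 0, 0),
    (2, 503, 1, 5, 1),
    (3, 37, 0, 0, 0),
    (2, 839, 1, 3, 1),
    (2, 1259, 1, 2, 1),
    (2, 229, 1, 11, 1),
    (5, 0, 0, 0, 0),
    (2, 2521, 1, 2521, 0),
    (3, 97, 0, 0, 0),
    (2, 29, 2, 3, 1),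
    (2, 631, 1, 2, 2),
    (2, 101, 1, 5, 2),
    (3, 421, 0, 0, 0),
    (2, 19, 2, 7, 1),
    (2, 79, 1, 2, 5),
    (2, 281, 1, 3, 2),
    (3, 23, 0, 0, 0),
    (2, 2531, 1, 2531, 0),
    (3, 211, 0, 0, 0),
    (2, 149, 1, 17, 1),
    (3, 181, 0, 0, 0),
    (0, 13, 2, 0, 0),
    (2, 317, 1, 2, 3),
    (2, 59, 1, 43, 1),
    (3, 47, 0, 0, 0),
    (2, 2539, 1, 2539, 0),
    (3, 127, 0, 0, 0),
    (0, 11, 2, 0, 0),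
    (3, 41, 0, 0, 0),
    (2, 2543, 1, 2543, 0),
    (3, 53, 0, 0, 0),
    (2, 509, 1, 5, 1),
    (3, 67, 0, 0, 0),
    (2, 283, 1, 3, 2),
    (0, 7, 2, 0, 0),
    (2, 2549, 1, 2549, 0),
    (3, 17, 0, 0, 0),
    (2, 2551, 1, 2551, 0),
    (3, 29, 0, 0, 0),
    (3, 37, 0, 0, 0),
    (2, 1277, 1, 2, 1),
    (3, 73, 0, 0, 0),
    (3, 71, 0, 0, 0),
    (2, 2557, 1, 2557, 0),
    (2, 1279, 1, 2, 1),
    (2, 853, 1, 3, 1),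
    (2, 5, 1, 2, 9),
    (2, 197, 1, 13, 1),
    (3, 61, 0, 0, 0),
    (2, 233, 1, 11, 1),
    (2, 641, 1, 2, 2),
    (3, 19, 0, 0, 0),
    (2, 1283, 1, 2, 1),
    (2, 151, 1, 17, 1),
    (3, 107, 0, 0, 0),
    (2, 367, 1, 7, 1),
    (3, 257, 0, 0, 0),
    (2, 857, 1, 3, 1),
    (2, 643, 1, 2, 2),
    (2, 83, 1, 31, 1),
    (0, 11, 1, 0, 0),
    (2, 103, 1, 5, 2),
    (3, 23, 0, 0, 0),
    (2, 859, 1, 3, 1),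
    (2, 1289, 1, 2, 1),
    (2, 2579, 1, 2579, 0),
    (3, 43, 0, 0, 0),
    (2, 89, 1, 29, 1),
    (2, 1291, 1, 2, 1),
    (3, 41, 0, 0, 0),
    (3, 19, 0, 0, 0),
    (3, 47, 0, 0, 0),
    (3, 431, 0, 0, 0),
    (2, 199, 1, 13, 1),
    (2, 647, 1, 2, 2),
    (2, 863, 1, 3, 1),
    (3, 37, 0, 0, 0),
    (2, 2591, 1, 2591, 0),
    (2, 3, 4, 2, 5)]

/-- Witnesses for orders from 2593. -/
def cert15 : List (ℕ × ℕ × ℕ × ℕ × ℕ) :=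
  [(2, 2593, 1, 2593, 0),
    (2, 1297, 1, 2, 1),
    (3, 173, 0, 0, 0),
    (3, 59, 0, 0, 0),
    (2, 53, 1, 7, 2),
    (3, 433, 0, 0, 0),
    (2, 113, 1, 23, 1),
    (0, 13, 1, 0, 0),
    (2, 17, 2, 3, 2),
    (2, 1301, 1, 2, 1),
    (2, 137, 1, 19, 1),
    (3, 31, 0, 0, 0),
    (2, 521, 1, 5, 1),
    (2, 1303, 1, 2, 1),
    (3, 79, 0, 0, 0),
    (2, 163, 1, 2, 4),
    (2, 2609, 1, 2609, 0),
    (3, 29, 0, 0, 0),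
    (2, 373, 1, 7, 1),
    (2, 653, 1, 2, 2),
    (3, 67, 0, 0, 0),
    (2, 1307, 1, 2, 1),
    (2, 523, 1, 5, 1),
    (3, 109, 0, 0, 0),
    (2, 2617, 1, 2617, 0),
    (3, 17, 0, 0, 0),
    (2, 97, 1, 3, 3),
    (3, 131, 0, 0, 0),
    (2, 2621, 1, 2621, 0),
    (3, 23, 0, 0, 0),
    (2, 61, 1, 43, 1),
    (2, 41, 1, 2, 6),
    (0, 7, 1, 0, 0),
    (3, 101, 0, 0, 0),
    (2, 71, 1, 37, 1),
    (3, 73, 0, 0, 0),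
    (2, 239, 1, 11, 1),
    (3, 263, 0, 0, 0),
    (2, 877, 1, 3, 1),
    (3, 47, 0, 0, 0),
    (2, 2633, 1, 2633, 0),
    (3, 439, 0, 0, 0),
    (3, 31, 0, 0, 0),
    (2, 659, 1, 2, 2),
    (2, 293, 1, 3, 2),
    (2, 1319, 1, 2, 1),
    (3, 29, 0, 0, 0),
    (1, 11, 0, 0, 0),
    (2, 139, 1, 19, 1),
    (2, 1321, 1, 2, 1),
    (2, 881, 1, 3, 1),
    (2, 661, 1, 2, 2),
    (2, 23, 2, 5, 1),
    (0, 7, 2, 0, 0),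
    (2, 2647, 1, 2647, 0),
    (2, 331, 1, 2, 3),
    (2, 883, 1, 3, 1),
    (3, 53, 0, 0, 0),
    (2, 241, 1, 11, 1),
    (3, 17, 0, 0, 0),
    (2, 379, 1, 7, 1),
    (2, 1327, 1, 2, 1),
    (3, 59, 0, 0, 0),
    (2, 83, 1, 2, 5),
    (2, 2657, 1, 2657, 0),
    (3, 443, 0, 0, 0),
    (2, 2659, 1, 2659, 0),
    (3, 19, 0, 0, 0),
    (2, 887, 1, 3, 1),
    (2, 11, 3, 2, 1),
    (2, 2663, 1, 2663, 0),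
    (3, 37, 0, 0, 0),
    (3, 41, 0, 0, 0),
    (3, 43, 0, 0, 0),
    (3, 127, 0, 0, 0),
    (3, 29, 0, 0, 0),
    (2, 157, 1, 17, 1),
    (3, 89, 0, 0, 0),
    (2, 2671, 1, 2671, 0),
    (2, 167, 1, 2, 4),
    (2, 11, 1, 3, 5),
    (3, 191, 0, 0, 0),
    (2, 107, 1, 5, 2),
    (3, 223, 0, 0, 0),
    (2, 2677, 1, 2677, 0),
    (3, 103, 0, 0, 0),
    (3, 47, 0, 0, 0),
    (3, 67, 0, 0, 0),
    (2, 383, 1, 7, 1),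
    (3, 149, 0, 0, 0),
    (2, 2683, 1, 2683, 0),
    (3, 61, 0, 0, 0),
    (3, 179, 0, 0, 0),
    (3, 79, 0, 0, 0),
    (2, 2687, 1, 2687, 0),
    (5, 0, 0, 0, 0),
    (2, 2689, 1, 2689, 0),
    (3, 269, 0, 0, 0),
    (3, 23, 0, 0, 0),
    (2, 673, 1, 2, 2)]

/-- Witnesses for orders from 2693. -/
def cert16 : List (ℕ × ℕ × ℕ × ℕ × ℕ) :=
  [(2, 2693, 1, 2693, 0),
    (3, 449, 0, 0, 0),
    (0, 11, 1, 0, 0),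
    (2, 337, 1, 2, 3),
    (3, 31, 0, 0, 0),
    (3, 71, 0, 0, 0),
    (2, 2699, 1, 2699, 0),
    (5, 0, 0, 0, 0),
    (2, 73, 1, 37, 1),
    (3, 193, 0, 0, 0),
    (3, 53, 0, 0, 0),
    (2, 13, 2, 2, 4),
    (2, 541, 1, 5, 1),
    (3, 41, 0, 0, 0),
    (2, 2707, 1, 2707, 0),
    (2, 677, 1, 2, 2),
    (3, 43, 0, 0, 0),
    (3, 271, 0, 0, 0),
    (2, 2711, 1, 2711, 0),
    (3, 113, 0, 0, 0),
    (2, 2713, 1, 2713, 0),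
    (3, 59, 0, 0, 0),
    (3, 181, 0, 0, 0),
    (3, 97, 0, 0, 0),
    (3, 19, 0, 0, 0),
    (3, 151, 0, 0, 0),
    (2, 2719, 1, 2719, 0),
    (3, 17, 0, 0, 0),
    (2, 907, 1, 3, 1),
    (2, 1361, 1, 2, 1),
    (2, 389, 1, 7, 1),
    (3, 227, 0, 0, 0),
    (2, 109, 1, 5, 2),
    (3, 47, 0, 0, 0),
    (2, 101, 1, 3, 3),
    (3, 31, 0, 0, 0),
    (2, 2729, 1, 2729, 0),
    (0, 2, 1, 0, 0),
    (2, 2731, 1, 2731, 0),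
    (2, 683, 1, 2, 2),
    (2, 911, 1, 3, 1),
    (2, 1367, 1, 2, 1),
    (2, 547, 1, 5, 1),
    (3, 19, 0, 0, 0),
    (3, 23, 0, 0, 0),
    (2, 37, 2, 2, 1),
    (3, 83, 0, 0, 0),
    (3, 137, 0, 0, 0),
    (2, 2741, 1, 2741, 0),
    (3, 457, 0, 0, 0),
    (2, 211, 1, 13, 1),
    (2, 7, 3, 2, 3),
    (3, 61, 0, 0, 0),
    (2, 1373, 1, 2, 1),
    (2, 67, 1, 41, 1),
    (3, 229, 0, 0, 0),
    (2, 2749, 1, 2749, 0),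
    (0, 11, 1, 0, 0),
    (3, 131, 0, 0, 0),
    (2, 43, 1, 2, 6),
    (2, 2753, 1, 2753, 0),
    (3, 17, 0, 0, 0),
    (3, 29, 0, 0, 0),
    (3, 53, 0, 0, 0),
    (2, 919, 1, 3, 1),
    (3, 197, 0, 0, 0),
    (2, 89, 1, 31, 1),
    (3, 23, 0, 0, 0),
    (2, 251, 1, 11, 1),
    (2, 1381, 1, 2, 1),
    (2, 307, 1, 3, 2),
    (2, 691, 1, 2, 2),
    (3, 79, 0, 0, 0),
    (3, 461, 0, 0, 0),
    (2, 2767, 1, 2767, 0),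
    (2, 173, 1, 2, 4),
    (3, 71, 0, 0, 0),
    (3, 277, 0, 0, 0),
    (2, 163, 1, 17, 1),
    (0, 11, 1, 0, 0),
    (2, 59, 1, 47, 1),
    (3, 73, 0, 0, 0),
    (3, 37, 0, 0, 0),
    (2, 347, 1, 2, 3),
    (2, 2777, 1, 2777, 0),
    (3, 463, 0, 0, 0),
    (2, 397, 1, 7, 1),
    (3, 139, 0, 0, 0),
    (2, 103, 1, 3, 3),
    (3, 107, 0, 0, 0),
    (2, 23, 1, 11, 2),
    (3, 29, 0, 0, 0),
    (2, 557, 1, 5, 1),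
    (3, 199, 0, 0, 0),
    (2, 929, 1, 3, 1),
    (3, 41, 0, 0, 0),
    (2, 2789, 1, 2789, 0),
    (3, 31, 0, 0, 0),
    (2, 2791, 1, 2791, 0),
    (2, 349, 1, 2, 3)]

/-- Witnesses for orders from 2793. -/
def cert17 : List (ℕ × ℕ × ℕ × ℕ × ℕ) :=
  [(3, 19, 0, 0, 0),
    (3, 127, 0, 0, 0),
    (3, 43, 0, 0, 0),
    (3, 233, 0, 0, 0),
    (2, 2797, 1, 2797, 0),
    (2, 1399, 1, 2, 1),
    (2, 311, 1, 3, 2),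
    (5, 0, 0, 0, 0),
    (2, 2801, 1, 2801, 0),
    (3, 467, 0, 0, 0),
    (2, 2803, 1, 2803, 0),
    (2, 701, 1, 2, 2),
    (3, 17, 0, 0, 0),
    (3, 61, 0, 0, 0),
    (2, 401, 1, 7, 1),
    (5, 0, 0, 0, 0),
    (2, 53, 2, 53, 0),
    (3, 281, 0, 0, 0),
    (2, 937, 1, 3, 1),
    (3, 37, 0, 0, 0),
    (2, 97, 1, 29, 1),
    (3, 67, 0, 0, 0),
    (2, 563, 1, 5, 1),
    (2, 11, 1, 2, 8),
    (2, 313, 1, 3, 2),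
    (2, 1409, 1, 2, 1),
    (2, 2819, 1, 2819, 0),
    (3, 47, 0, 0, 0),
    (3, 31, 0, 0, 0),
    (3, 83, 0, 0, 0),
    (2, 941, 1, 3, 1),
    (2, 353, 1, 2, 3),
    (2, 113, 1, 5, 2),
    (3, 157, 0, 0, 0),
    (2, 257, 1, 11, 1),
    (3, 101, 0, 0, 0),
    (3, 41, 0, 0, 0),
    (3, 283, 0, 0, 0),
    (2, 149, 1, 19, 1),
    (3, 59, 0, 0, 0),
    (2, 2833, 1, 2833, 0),
    (3, 109, 0, 0, 0),
    (0, 5, 1, 0, 0),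
    (2, 709, 1, 2, 2),
    (2, 2837, 1, 2837, 0),
    (3, 43, 0, 0, 0),
    (2, 167, 1, 17, 1),
    (3, 71, 0, 0, 0),
    (2, 947, 1, 3, 1),
    (3, 29, 0, 0, 0),
    (2, 2843, 1, 2843, 0),
    (3, 79, 0, 0, 0),
    (2, 569, 1, 5, 1),
    (2, 1423, 1, 2, 1),
    (3, 73, 0, 0, 0),
    (2, 89, 1, 2, 5),
    (3, 37, 0, 0, 0),
    (3, 19, 0, 0, 0),
    (2, 2851, 1, 2851, 0),
    (3, 31, 0, 0, 0),
    (2, 317, 1, 3, 2),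
    (2, 1427, 1, 2, 1),
    (2, 571, 1, 5, 1),
    (3, 17, 0, 0, 0),
    (2, 2857, 1, 2857, 0),
    (2, 1429, 1, 2, 1),
    (2, 953, 1, 3, 1),
    (0, 13, 1, 0, 0),
    (2, 2861, 1, 2861, 0),
    (3, 53, 0, 0, 0),
    (2, 409, 1, 7, 1),
    (2, 179, 1, 2, 4),
    (3, 191, 0, 0, 0),
    (2, 1433, 1, 2, 1),
    (2, 61, 1, 47, 1),
    (3, 239, 0, 0, 0),
    (2, 151, 1, 19, 1),
    (3, 41, 0, 0, 0),
    (3, 29, 0, 0, 0),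
    (2, 359, 1, 2, 3),
    (2, 17, 1, 13, 2),
    (3, 479, 0, 0, 0),
    (2, 23, 1, 5, 3),
    (2, 719, 1, 2, 2),
    (3, 137, 0, 0, 0),
    (2, 1439, 1, 2, 1),
    (2, 2879, 1, 2879, 0),
    (5, 0, 0, 0, 0),
    (2, 67, 1, 43, 1),
    (3, 131, 0, 0, 0),
    (2, 31, 2, 3, 1),
    (3, 103, 0, 0, 0),
    (2, 577, 1, 5, 1),
    (3, 37, 0, 0, 0),
    (2, 2887, 1, 2887, 0),
    (2, 19, 2, 2, 3),
    (2, 107, 1, 3, 3),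
    (3, 17, 0, 0, 0),
    (2, 59, 1, 7, 2),
    (3, 241, 0, 0, 0)]

/-- Witnesses for orders from 2893. -/
def cert18 : List (ℕ × ℕ × ℕ × ℕ × ℕ) :=
  [(2, 263, 1, 11, 1),
    (2, 1447, 1, 2, 1),
    (3, 193, 0, 0, 0),
    (2, 181, 1, 2, 4),
    (2, 2897, 1, 2897, 0),
    (3, 23, 0, 0, 0),
    (2, 223, 1, 13, 1),
    (3, 29, 0, 0, 0),
    (2, 967, 1, 3, 1),
    (2, 1451, 1, 2, 1),
    (2, 2903, 1, 2903, 0),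
    (5, 0, 0, 0, 0),
    (3, 83, 0, 0, 0),
    (2, 1453, 1, 2, 1),
    (3, 19, 0, 0, 0),
    (2, 727, 1, 2, 2),
    (2, 2909, 1, 2909, 0),
    (3, 97, 0, 0, 0),
    (2, 71, 1, 41, 1),
    (0, 7, 1, 0, 0),
    (2, 971, 1, 3, 1),
    (3, 47, 0, 0, 0),
    (3, 53, 0, 0, 0),
    (2, 3, 6, 2, 2),
    (2, 2917, 1, 2917, 0),
    (2, 1459, 1, 2, 1),
    (3, 139, 0, 0, 0),
    (3, 73, 0, 0, 0),
    (2, 127, 1, 23, 1),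
    (3, 487, 0, 0, 0),
    (2, 79, 1, 37, 1),
    (3, 43, 0, 0, 0),
    (0, 13, 1, 0, 0),
    (3, 19, 0, 0, 0),
    (2, 2927, 1, 2927, 0),
    (3, 61, 0, 0, 0),
    (2, 101, 1, 29, 1),
    (3, 293, 0, 0, 0),
    (2, 977, 1, 3, 1),
    (2, 733, 1, 2, 2),
    (2, 419, 1, 7, 1),
    (3, 163, 0, 0, 0),
    (2, 587, 1, 5, 1),
    (2, 367, 1, 2, 3),
    (3, 89, 0, 0, 0),
    (3, 113, 0, 0, 0),
    (2, 2939, 1, 2939, 0),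
    (5, 0, 0, 0, 0),
    (2, 173, 1, 17, 1),
    (2, 1471, 1, 2, 1),
    (2, 109, 1, 3, 3),
    (2, 23, 1, 2, 7),
    (3, 31, 0, 0, 0),
    (3, 491, 0, 0, 0),
    (2, 421, 1, 7, 1),
    (3, 67, 0, 0, 0),
    (2, 983, 1, 3, 1),
    (3, 59, 0, 0, 0),
    (2, 227, 1, 13, 1),
    (3, 41, 0, 0, 0),
    (2, 2953, 1, 2953, 0),
    (3, 211, 0, 0, 0),
    (3, 197, 0, 0, 0),
    (2, 739, 1, 2, 2),
    (2, 2957, 1, 2957, 0),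
    (3, 29, 0, 0, 0),
    (2, 269, 1, 11, 1),
    (3, 37, 0, 0, 0),
    (3, 47, 0, 0, 0),
    (2, 1481, 1, 2, 1),
    (2, 2963, 1, 2963, 0),
    (3, 19, 0, 0, 0),
    (2, 593, 1, 5, 1),
    (2, 1483, 1, 2, 1),
    (3, 43, 0, 0, 0),
    (3, 53, 0, 0, 0),
    (2, 2969, 1, 2969, 0),
    (0, 2, 1, 0, 0),
    (2, 2971, 1, 2971, 0),
    (2, 743, 1, 2, 2),
    (2, 991, 1, 3, 1),
    (2, 1487, 1, 2, 1),
    (3, 17, 0, 0, 0),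
    (3, 31, 0, 0, 0),
    (2, 229, 1, 13, 1),
    (2, 1489, 1, 2, 1),
    (2, 331, 1, 3, 2),
    (3, 149, 0, 0, 0),
    (2, 271, 1, 11, 1),
    (3, 71, 0, 0, 0),
    (2, 157, 1, 19, 1),
    (2, 373, 1, 2, 3),
    (3, 199, 0, 0, 0),
    (2, 1493, 1, 2, 1),
    (2, 103, 1, 29, 1),
    (3, 83, 0, 0, 0),
    (2, 61, 1, 7, 2),
    (3, 23, 0, 0, 0),
    (2, 997, 1, 3, 1),
    (3, 17, 0, 0, 0)]

/-- Witnesses for orders from 2993. -/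
def cert19 : List (ℕ × ℕ × ℕ × ℕ × ℕ) :=
  [(2, 73, 1, 41, 1),
    (3, 499, 0, 0, 0),
    (2, 599, 1, 5, 1),
    (3, 107, 0, 0, 0),
    (2, 37, 1, 3, 4),
    (2, 1499, 1, 2, 1),
    (2, 2999, 1, 2999, 0),
    (0, 5, 3, 0, 0),
    (2, 3001, 1, 3001, 0),
    (3, 79, 0, 0, 0),
    (0, 13, 1, 0, 0),
    (2, 751, 1, 2, 2),
    (2, 601, 1, 5, 1),
    (3, 167, 0, 0, 0),
    (2, 97, 1, 31, 1),
    (2, 47, 1, 2, 6),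
    (3, 59, 0, 0, 0),
    (3, 43, 0, 0, 0),
    (2, 3011, 1, 3011, 0),
    (3, 251, 0, 0, 0),
    (2, 131, 1, 23, 1),
    (3, 137, 0, 0, 0),
    (3, 67, 0, 0, 0),
    (3, 29, 0, 0, 0),
    (2, 431, 1, 7, 1),
    (3, 503, 0, 0, 0),
    (2, 3019, 1, 3019, 0),
    (3, 151, 0, 0, 0),
    (3, 53, 0, 0, 0),
    (2, 1511, 1, 2, 1),
    (2, 3023, 1, 3023, 0),
    (5, 0, 0, 0, 0),
    (2, 11, 2, 5, 2),
    (3, 89, 0, 0, 0),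
    (2, 1009, 1, 3, 1),
    (2, 757, 1, 2, 2),
    (2, 233, 1, 13, 1),
    (3, 101, 0, 0, 0),
    (2, 433, 1, 7, 1),
    (2, 379, 1, 2, 3),
    (2, 337, 1, 3, 2),
    (3, 41, 0, 0, 0),
    (2, 607, 1, 5, 1),
    (3, 23, 0, 0, 0),
    (2, 3037, 1, 3037, 0),
    (3, 31, 0, 0, 0),
    (2, 1013, 1, 3, 1),
    (3, 19, 0, 0, 0),
    (2, 3041, 1, 3041, 0),
    (0, 13, 2, 0, 0),
    (2, 179, 1, 17, 1),
    (2, 761, 1, 2, 2),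
    (3, 29, 0, 0, 0),
    (2, 1523, 1, 2, 1),
    (2, 277, 1, 11, 1),
    (3, 127, 0, 0, 0),
    (2, 3049, 1, 3049, 0),
    (3, 61, 0, 0, 0),
    (2, 113, 1, 3, 3),
    (3, 109, 0, 0, 0),
    (2, 71, 1, 43, 1),
    (3, 509, 0, 0, 0),
    (3, 47, 0, 0, 0),
    (2, 191, 1, 2, 4),
    (2, 1019, 1, 3, 1),
    (3, 139, 0, 0, 0),
    (3, 23, 0, 0, 0),
    (3, 17, 0, 0, 0),
    (2, 3061, 1, 3061, 0),
    (2, 1531, 1, 2, 1),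
    (2, 1021, 1, 3, 1),
    (2, 383, 1, 2, 3),
    (2, 613, 1, 5, 1),
    (3, 73, 0, 0, 0),
    (2, 3067, 1, 3067, 0),
    (3, 59, 0, 0, 0),
    (3, 31, 0, 0, 0),
    (3, 307, 0, 0, 0),
    (2, 83, 1, 37, 1),
    (2, 3, 1, 2, 10),
    (2, 439, 1, 7, 1),
    (3, 53, 0, 0, 0),
    (3, 41, 0, 0, 0),
    (2, 769, 1, 2, 2),
    (2, 181, 1, 17, 1),
    (3, 19, 0, 0, 0),
    (2, 3079, 1, 3079, 0),
    (5, 0, 0, 0, 0),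
    (3, 79, 0, 0, 0),
    (3, 67, 0, 0, 0),
    (2, 3083, 1, 3083, 0),
    (3, 257, 0, 0, 0),
    (2, 617, 1, 5, 1),
    (2, 1543, 1, 2, 1),
    (2, 7, 3, 3, 2),
    (2, 193, 1, 2, 4),
    (2, 3089, 1, 3089, 0),
    (3, 103, 0, 0, 0),
    (2, 281, 1, 11, 1),
    (2, 773, 1, 2, 2)]

/-- Witnesses for orders from 3093. -/
def cert20 : List (ℕ × ℕ × ℕ × ℕ × ℕ) :=
  [(2, 1031, 1, 3, 1),
    (3, 17, 0, 0, 0),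
    (2, 619, 1, 5, 1),
    (3, 43, 0, 0, 0),
    (2, 163, 1, 19, 1),
    (2, 1549, 1, 2, 1),
    (2, 1033, 1, 3, 1),
    (3, 31, 0, 0, 0),
    (2, 443, 1, 7, 1),
    (3, 47, 0, 0, 0),
    (2, 107, 1, 29, 1),
    (2, 97, 1, 2, 5),
    (3, 23, 0, 0, 0),
    (2, 1553, 1, 2, 1),
    (2, 239, 1, 13, 1),
    (3, 37, 0, 0, 0),
    (2, 3109, 1, 3109, 0),
    (3, 311, 0, 0, 0),
    (3, 61, 0, 0, 0),
    (2, 389, 1, 2, 3),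
    (2, 283, 1, 11, 1),
    (3, 173, 0, 0, 0),
    (3, 89, 0, 0, 0),
    (3, 41, 0, 0, 0),
    (2, 1039, 1, 3, 1),
    (2, 1559, 1, 2, 1),
    (2, 3119, 1, 3119, 0),
    (5, 0, 0, 0, 0),
    (2, 3121, 1, 3121, 0),
    (3, 223, 0, 0, 0),
    (2, 347, 1, 3, 2),
    (3, 71, 0, 0, 0),
    (2, 5, 5, 5, 0),
    (3, 521, 0, 0, 0),
    (2, 59, 1, 53, 1),
    (3, 23, 0, 0, 0),
    (3, 149, 0, 0, 0),
    (3, 313, 0, 0, 0),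
    (2, 101, 1, 31, 1),
    (3, 29, 0, 0, 0),
    (2, 241, 1, 13, 1),
    (2, 1567, 1, 2, 1),
    (3, 19, 0, 0, 0),
    (2, 7, 2, 2, 6),
    (2, 3137, 1, 3137, 0),
    (3, 523, 0, 0, 0),
    (2, 73, 1, 43, 1),
    (3, 157, 0, 0, 0),
    (2, 349, 1, 3, 2),
    (2, 1571, 1, 2, 1),
    (2, 449, 1, 7, 1),
    (3, 131, 0, 0, 0),
    (3, 37, 0, 0, 0),
    (0, 13, 1, 0, 0),
    (2, 1049, 1, 3, 1),
    (2, 787, 1, 2, 2),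
    (2, 67, 1, 47, 1),
    (0, 2, 1, 0, 0),
    (2, 137, 1, 23, 1),
    (2, 197, 1, 2, 4),
    (2, 1051, 1, 3, 1),
    (3, 83, 0, 0, 0),
    (2, 631, 1, 5, 1),
    (3, 263, 0, 0, 0),
    (3, 41, 0, 0, 0),
    (2, 1579, 1, 2, 1),
    (2, 13, 1, 3, 5),
    (3, 79, 0, 0, 0),
    (2, 109, 1, 29, 1),
    (3, 31, 0, 0, 0),
    (2, 3163, 1, 3163, 0),
    (3, 113, 0, 0, 0),
    (3, 211, 0, 0, 0),
    (2, 1583, 1, 2, 1),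
    (2, 3167, 1, 3167, 0),
    (5, 0, 0, 0, 0),
    (2, 3169, 1, 3169, 0),
    (3, 317, 0, 0, 0),
    (3, 151, 0, 0, 0),
    (3, 61, 0, 0, 0),
    (2, 167, 1, 19, 1),
    (3, 23, 0, 0, 0),
    (2, 127, 1, 5, 2),
    (2, 397, 1, 2, 3),
    (2, 353, 1, 3, 2),
    (3, 227, 0, 0, 0),
    (2, 17, 2, 11, 1),
    (3, 53, 0, 0, 0),
    (2, 3181, 1, 3181, 0),
    (3, 43, 0, 0, 0),
    (2, 1061, 1, 3, 1),
    (2, 199, 1, 2, 4),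
    (0, 13, 1, 0, 0),
    (3, 59, 0, 0, 0),
    (2, 3187, 1, 3187, 0),
    (2, 797, 1, 2, 2),
    (2, 1063, 1, 3, 1),
    (3, 29, 0, 0, 0),
    (2, 3191, 1, 3191, 0),
    (3, 19, 0, 0, 0)]

/-- Witnesses for orders from 3193. -/
def cert21 : List (ℕ × ℕ × ℕ × ℕ × ℕ) :=
  [(2, 103, 1, 31, 1),
    (2, 1597, 1, 2, 1),
    (3, 71, 0, 0, 0),
    (3, 47, 0, 0, 0),
    (2, 139, 1, 23, 1),
    (3, 41, 0, 0, 0),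
    (2, 457, 1, 7, 1),
    (2, 5, 2, 2, 7),
    (3, 97, 0, 0, 0),
    (2, 1601, 1, 2, 1),
    (2, 3203, 1, 3203, 0),
    (3, 89, 0, 0, 0),
    (2, 641, 1, 5, 1),
    (3, 229, 0, 0, 0),
    (2, 1069, 1, 3, 1),
    (2, 401, 1, 2, 3),
    (2, 3209, 1, 3209, 0),
    (3, 107, 0, 0, 0),
    (2, 19, 1, 13, 2),
    (3, 73, 0, 0, 0),
    (3, 17, 0, 0, 0),
    (2, 1607, 1, 2, 1),
    (2, 643, 1, 5, 1),
    (3, 67, 0, 0, 0),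
    (2, 3217, 1, 3217, 0),
    (2, 1609, 1, 2, 1),
    (3, 37, 0, 0, 0),
    (3, 23, 0, 0, 0),
    (2, 3221, 1, 3221, 0),
    (3, 179, 0, 0, 0),
    (2, 293, 1, 11, 1),
    (3, 31, 0, 0, 0),
    (3, 43, 0, 0, 0),
    (2, 1613, 1, 2, 1),
    (2, 461, 1, 7, 1),
    (3, 269, 0, 0, 0),
    (2, 3229, 1, 3229, 0),
    (3, 19, 0, 0, 0),
    (2, 359, 1, 3, 2),
    (2, 101, 1, 2, 5),
    (2, 61, 1, 53, 1),
    (0, 11, 1, 0, 0),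
    (2, 647, 1, 5, 1),
    (2, 809, 1, 2, 2),
    (3, 83, 0, 0, 0),
    (2, 1619, 1, 2, 1),
    (2, 79, 1, 41, 1),
    (5, 0, 0, 0, 0),
    (2, 463, 1, 7, 1),
    (2, 1621, 1, 2, 1),
    (3, 47, 0, 0, 0),
    (2, 811, 1, 2, 2),
    (3, 59, 0, 0, 0),
    (3, 541, 0, 0, 0),
    (2, 191, 1, 17, 1),
    (3, 29, 0, 0, 0),
    (2, 19, 2, 3, 2),
    (0, 13, 1, 0, 0),
    (2, 3251, 1, 3251, 0),
    (3, 271, 0, 0, 0),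
    (2, 3253, 1, 3253, 0),
    (2, 1627, 1, 2, 1),
    (3, 31, 0, 0, 0),
    (3, 37, 0, 0, 0),
    (2, 3257, 1, 3257, 0),
    (3, 181, 0, 0, 0),
    (2, 3259, 1, 3259, 0),
    (3, 163, 0, 0, 0),
    (2, 1087, 1, 3, 1),
    (3, 233, 0, 0, 0),
    (2, 251, 1, 13, 1),
    (3, 17, 0, 0, 0),
    (2, 653, 1, 5, 1),
    (3, 71, 0, 0, 0),
    (2, 11, 2, 3, 3),
    (3, 43, 0, 0, 0),
    (2, 467, 1, 7, 1),
    (3, 109, 0, 0, 0),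
    (2, 3271, 1, 3271, 0),
    (2, 409, 1, 2, 3),
    (2, 1091, 1, 3, 1),
    (2, 1637, 1, 2, 1),
    (2, 131, 1, 5, 2),
    (1, 13, 0, 0, 0),
    (2, 113, 1, 29, 1),
    (3, 149, 0, 0, 0),
    (2, 1093, 1, 3, 1),
    (3, 41, 0, 0, 0),
    (2, 193, 1, 17, 1),
    (3, 547, 0, 0, 0),
    (2, 67, 1, 7, 2),
    (2, 821, 1, 2, 2),
    (3, 73, 0, 0, 0),
    (3, 53, 0, 0, 0),
    (2, 173, 1, 19, 1),
    (3, 137, 0, 0, 0),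
    (3, 23, 0, 0, 0),
    (3, 47, 0, 0, 0),
    (2, 1097, 1, 3, 1),
    (2, 823, 1, 2, 2)]

/-- Witnesses for orders from 3293. -/
def cert22 : List (ℕ × ℕ × ℕ × ℕ × ℕ) :=
  [(2, 89, 1, 37, 1),
    (3, 61, 0, 0, 0),
    (2, 659, 1, 5, 1),
    (2, 103, 1, 2, 5),
    (3, 157, 0, 0, 0),
    (3, 97, 0, 0, 0),
    (2, 3299, 1, 3299, 0),
    (4, 11, 0, 0, 0),
    (2, 3301, 1, 3301, 0),
    (3, 127, 0, 0, 0),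
    (2, 367, 1, 3, 2),
    (3, 59, 0, 0, 0),
    (2, 661, 1, 5, 1),
    (3, 29, 0, 0, 0),
    (2, 3307, 1, 3307, 0),
    (2, 827, 1, 2, 2),
    (2, 1103, 1, 3, 1),
    (3, 331, 0, 0, 0),
    (3, 43, 0, 0, 0),
    (3, 23, 0, 0, 0),
    (2, 3313, 1, 3313, 0),
    (2, 1657, 1, 2, 1),
    (3, 17, 0, 0, 0),
    (2, 829, 1, 2, 2),
    (2, 107, 1, 31, 1),
    (3, 79, 0, 0, 0),
    (2, 3319, 1, 3319, 0),
    (3, 83, 0, 0, 0),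
    (2, 41, 1, 3, 4),
    (3, 151, 0, 0, 0),
    (2, 3323, 1, 3323, 0),
    (3, 277, 0, 0, 0),
    (3, 19, 0, 0, 0),
    (2, 1663, 1, 2, 1),
    (2, 1109, 1, 3, 1),
    (2, 13, 1, 2, 8),
    (2, 3329, 1, 3329, 0),
    (3, 37, 0, 0, 0),
    (2, 3331, 1, 3331, 0),
    (3, 17, 0, 0, 0),
    (3, 101, 0, 0, 0),
    (2, 1667, 1, 2, 1),
    (3, 29, 0, 0, 0),
    (3, 139, 0, 0, 0),
    (2, 71, 1, 47, 1),
    (2, 1669, 1, 2, 1),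
    (3, 53, 0, 0, 0),
    (3, 167, 0, 0, 0),
    (2, 257, 1, 13, 1),
    (3, 557, 0, 0, 0),
    (2, 3343, 1, 3343, 0),
    (3, 19, 0, 0, 0),
    (3, 223, 0, 0, 0),
    (3, 239, 0, 0, 0),
    (2, 3347, 1, 3347, 0),
    (3, 31, 0, 0, 0),
    (2, 197, 1, 17, 1),
    (3, 67, 0, 0, 0),
    (2, 1117, 1, 3, 1),
    (2, 419, 1, 2, 3),
    (2, 479, 1, 7, 1),
    (3, 43, 0, 0, 0),
    (3, 61, 0, 0, 0),
    (2, 839, 1, 2, 2),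
    (2, 373, 1, 3, 2),
    (3, 73, 0, 0, 0),
    (2, 3359, 1, 3359, 0),
    (5, 0, 0, 0, 0),
    (2, 3361, 1, 3361, 0),
    (2, 41, 2, 2, 1),
    (3, 59, 0, 0, 0),
    (2, 29, 2, 2, 2),
    (2, 673, 1, 5, 1),
    (3, 17, 0, 0, 0),
    (3, 37, 0, 0, 0),
    (2, 421, 1, 2, 3),
    (2, 1123, 1, 3, 1),
    (3, 337, 0, 0, 0),
    (2, 3371, 1, 3371, 0),
    (3, 281, 0, 0, 0),
    (2, 3373, 1, 3373, 0),
    (3, 241, 0, 0, 0),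
    (2, 5, 3, 3, 3),
    (2, 211, 1, 2, 4),
    (2, 307, 1, 11, 1),
    (3, 563, 0, 0, 0),
    (2, 109, 1, 31, 1),
    (0, 13, 2, 0, 0),
    (3, 23, 0, 0, 0),
    (3, 89, 0, 0, 0),
    (2, 199, 1, 17, 1),
    (3, 47, 0, 0, 0),
    (2, 677, 1, 5, 1),
    (2, 1693, 1, 2, 1),
    (2, 1129, 1, 3, 1),
    (0, 11, 2, 0, 0),
    (2, 3389, 1, 3389, 0),
    (3, 113, 0, 0, 0),
    (2, 3391, 1, 3391, 0),
    (2, 53, 1, 2, 6)]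

/-- Witnesses for orders from 3393. -/
def cert23 : List (ℕ × ℕ × ℕ × ℕ × ℕ) :=
  [(3, 29, 0, 0, 0),
    (2, 1697, 1, 2, 1),
    (3, 97, 0, 0, 0),
    (3, 283, 0, 0, 0),
    (2, 79, 1, 43, 1),
    (2, 1699, 1, 2, 1),
    (3, 103, 0, 0, 0),
    (3, 17, 0, 0, 0),
    (2, 179, 1, 19, 1),
    (0, 3, 5, 0, 0),
    (2, 83, 1, 41, 1),
    (3, 37, 0, 0, 0),
    (3, 227, 0, 0, 0),
    (3, 131, 0, 0, 0),
    (2, 3407, 1, 3407, 0),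
    (3, 71, 0, 0, 0),
    (2, 487, 1, 7, 1),
    (3, 31, 0, 0, 0),
    (2, 379, 1, 3, 2),
    (2, 853, 1, 2, 2),
    (2, 3413, 1, 3413, 0),
    (3, 569, 0, 0, 0),
    (2, 683, 1, 5, 1),
    (3, 61, 0, 0, 0),
    (3, 67, 0, 0, 0),
    (2, 1709, 1, 2, 1),
    (2, 263, 1, 13, 1),
    (3, 19, 0, 0, 0),
    (2, 311, 1, 11, 1),
    (3, 59, 0, 0, 0),
    (3, 163, 0, 0, 0),
    (2, 107, 1, 2, 5),
    (2, 137, 1, 5, 2),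
    (3, 571, 0, 0, 0),
    (2, 149, 1, 23, 1),
    (2, 857, 1, 2, 2),
    (2, 127, 1, 3, 3),
    (0, 7, 3, 0, 0),
    (2, 73, 1, 47, 1),
    (5, 0, 0, 0, 0),
    (2, 3433, 1, 3433, 0),
    (3, 101, 0, 0, 0),
    (3, 229, 0, 0, 0),
    (2, 859, 1, 2, 2),
    (2, 491, 1, 7, 1),
    (3, 191, 0, 0, 0),
    (2, 181, 1, 19, 1),
    (3, 43, 0, 0, 0),
    (3, 37, 0, 0, 0),
    (2, 1721, 1, 2, 1),
    (2, 313, 1, 11, 1),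
    (3, 41, 0, 0, 0),
    (3, 53, 0, 0, 0),
    (2, 1723, 1, 2, 1),
    (2, 383, 1, 3, 2),
    (2, 431, 1, 2, 3),
    (2, 3449, 1, 3449, 0),
    (3, 23, 0, 0, 0),
    (3, 29, 0, 0, 0),
    (2, 863, 1, 2, 2),
    (2, 1151, 1, 3, 1),
    (3, 157, 0, 0, 0),
    (2, 691, 1, 5, 1),
    (2, 3, 3, 2, 7),
    (2, 3457, 1, 3457, 0),
    (3, 19, 0, 0, 0),
    (2, 1153, 1, 3, 1),
    (3, 173, 0, 0, 0),
    (2, 3461, 1, 3461, 0),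
    (3, 577, 0, 0, 0),
    (2, 3463, 1, 3463, 0),
    (2, 433, 1, 2, 3),
    (0, 11, 1, 0, 0),
    (2, 1733, 1, 2, 1),
    (2, 3467, 1, 3467, 0),
    (3, 17, 0, 0, 0),
    (2, 3469, 1, 3469, 0),
    (3, 347, 0, 0, 0),
    (3, 89, 0, 0, 0),
    (3, 31, 0, 0, 0),
    (2, 151, 1, 23, 1),
    (3, 193, 0, 0, 0),
    (2, 139, 1, 5, 2),
    (3, 79, 0, 0, 0),
    (3, 61, 0, 0, 0),
    (3, 47, 0, 0, 0),
    (2, 71, 1, 7, 2),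
    (3, 29, 0, 0, 0),
    (2, 59, 2, 59, 0),
    (2, 1741, 1, 2, 1),
    (2, 43, 1, 3, 4),
    (3, 67, 0, 0, 0),
    (3, 41, 0, 0, 0),
    (3, 83, 0, 0, 0),
    (2, 317, 1, 11, 1),
    (2, 109, 1, 2, 5),
    (2, 1163, 1, 3, 1),
    (3, 349, 0, 0, 0),
    (2, 3491, 1, 3491, 0),
    (3, 97, 0, 0, 0)]

/-- Witnesses for orders from 3493. -/
def cert24 : List (ℕ × ℕ × ℕ × ℕ × ℕ) :=
  [(2, 499, 1, 7, 1),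
    (2, 1747, 1, 2, 1),
    (3, 233, 0, 0, 0),
    (3, 23, 0, 0, 0),
    (2, 269, 1, 13, 1),
    (3, 53, 0, 0, 0),
    (2, 3499, 1, 3499, 0),
    (0, 5, 3, 0, 0),
    (2, 389, 1, 3, 2),
    (3, 103, 0, 0, 0),
    (2, 113, 1, 31, 1),
    (3, 73, 0, 0, 0),
    (2, 701, 1, 5, 1),
    (2, 1753, 1, 2, 1),
    (3, 167, 0, 0, 0),
    (2, 877, 1, 2, 2),
    (2, 29, 1, 11, 2),
    (0, 2, 1, 0, 0),
    (2, 3511, 1, 3511, 0),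
    (2, 439, 1, 2, 3),
    (2, 1171, 1, 3, 1),
    (3, 251, 0, 0, 0),
    (3, 37, 0, 0, 0),
    (3, 293, 0, 0, 0),
    (2, 3517, 1, 3517, 0),
    (2, 1759, 1, 2, 1),
    (3, 23, 0, 0, 0),
    (0, 11, 1, 0, 0),
    (2, 503, 1, 7, 1),
    (3, 587, 0, 0, 0),
    (2, 271, 1, 13, 1),
    (2, 881, 1, 2, 2),
    (3, 47, 0, 0, 0),
    (3, 43, 0, 0, 0),
    (2, 3527, 1, 3527, 0),
    (5, 0, 0, 0, 0),
    (2, 3529, 1, 3529, 0),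
    (3, 353, 0, 0, 0),
    (3, 107, 0, 0, 0),
    (2, 883, 1, 2, 2),
    (2, 3533, 1, 3533, 0),
    (3, 31, 0, 0, 0),
    (3, 101, 0, 0, 0),
    (3, 17, 0, 0, 0),
    (2, 131, 1, 3, 3),
    (3, 61, 0, 0, 0),
    (2, 3539, 1, 3539, 0),
    (3, 59, 0, 0, 0),
    (2, 3541, 1, 3541, 0),
    (3, 23, 0, 0, 0),
    (2, 1181, 1, 3, 1),
    (2, 443, 1, 2, 3),
    (2, 709, 1, 5, 1),
    (3, 197, 0, 0, 0),
    (2, 3547, 1, 3547, 0),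
    (2, 887, 1, 2, 2),
    (0, 13, 2, 0, 0),
    (3, 71, 0, 0, 0),
    (2, 67, 1, 53, 1),
    (3, 37, 0, 0, 0),
    (3, 19, 0, 0, 0),
    (2, 1777, 1, 2, 1),
    (3, 79, 0, 0, 0),
    (3, 127, 0, 0, 0),
    (2, 3557, 1, 3557, 0),
    (3, 593, 0, 0, 0),
    (2, 3559, 1, 3559, 0),
    (3, 89, 0, 0, 0),
    (2, 1187, 1, 3, 1),
    (3, 137, 0, 0, 0),
    (2, 509, 1, 7, 1),
    (0, 11, 1, 0, 0),
    (3, 31, 0, 0, 0),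
    (2, 1783, 1, 2, 1),
    (3, 41, 0, 0, 0),
    (2, 223, 1, 2, 4),
    (2, 83, 1, 43, 1),
    (3, 17, 0, 0, 0),
    (2, 3571, 1, 3571, 0),
    (3, 47, 0, 0, 0),
    (2, 397, 1, 3, 2),
    (2, 1787, 1, 2, 1),
    (0, 13, 1, 0, 0),
    (3, 149, 0, 0, 0),
    (2, 73, 1, 7, 2),
    (2, 1789, 1, 2, 1),
    (2, 1193, 1, 3, 1),
    (3, 179, 0, 0, 0),
    (2, 3581, 1, 3581, 0),
    (3, 199, 0, 0, 0),
    (2, 3583, 1, 3583, 0),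
    (2, 7, 1, 2, 9),
    (3, 239, 0, 0, 0),
    (3, 163, 0, 0, 0),
    (2, 211, 1, 17, 1),
    (3, 23, 0, 0, 0),
    (2, 97, 1, 37, 1),
    (3, 359, 0, 0, 0),
    (3, 19, 0, 0, 0),
    (2, 449, 1, 2, 3)]

/-- Witnesses for orders from 3593. -/
def cert25 : List (ℕ × ℕ × ℕ × ℕ × ℕ) :=
  [(2, 3593, 1, 3593, 0),
    (3, 599, 0, 0, 0),
    (2, 719, 1, 5, 1),
    (3, 31, 0, 0, 0),
    (3, 109, 0, 0, 0),
    (3, 257, 0, 0, 0),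
    (2, 61, 1, 59, 1),
    (5, 0, 0, 0, 0),
    (2, 277, 1, 13, 1),
    (2, 1801, 1, 2, 1),
    (2, 1201, 1, 3, 1),
    (3, 53, 0, 0, 0),
    (3, 103, 0, 0, 0),
    (3, 601, 0, 0, 0),
    (2, 3607, 1, 3607, 0),
    (3, 41, 0, 0, 0),
    (2, 401, 1, 3, 2),
    (3, 19, 0, 0, 0),
    (2, 157, 1, 23, 1),
    (3, 43, 0, 0, 0),
    (2, 3613, 1, 3613, 0),
    (3, 139, 0, 0, 0),
    (3, 241, 0, 0, 0),
    (2, 113, 1, 2, 5),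
    (2, 3617, 1, 3617, 0),
    (3, 67, 0, 0, 0),
    (3, 47, 0, 0, 0),
    (3, 181, 0, 0, 0),
    (3, 71, 0, 0, 0),
    (2, 1811, 1, 2, 1),
    (2, 3623, 1, 3623, 0),
    (3, 151, 0, 0, 0),
    (2, 29, 1, 5, 3),
    (3, 37, 0, 0, 0),
    (3, 31, 0, 0, 0),
    (2, 907, 1, 2, 2),
    (2, 191, 1, 19, 1),
    (0, 11, 2, 0, 0),
    (2, 3631, 1, 3631, 0),
    (2, 227, 1, 2, 4),
    (3, 173, 0, 0, 0),
    (3, 79, 0, 0, 0),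
    (2, 727, 1, 5, 1),
    (3, 101, 0, 0, 0),
    (2, 3637, 1, 3637, 0),
    (3, 107, 0, 0, 0),
    (2, 1213, 1, 3, 1),
    (4, 13, 0, 0, 0)]

end Cfsg.Agent.Ord3640
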