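import Cfsg.Agent.Lib.Small.Orders6232.Cert
import Cfsg.Agent.Lib.Small.Orders3640.Data

/-! The checks of the witnesses for the orders from 1093 to 3640. -/

set_option autoImplicit false
set_option maxRecDepth 20000

namespace Cfsg.Agent.Ord3640

/-- The orders treated one by one. -/
def rest : List ℕ :=
  [1200, 1260, 1344, 1400, 1440, 1452, 1512, 1575, 1620, 1680, 1764, 1800, 1920, 1980, 2016, 2100, 2160, 2200, 2268, 2400, 2464, 2475, 2520, 2688, 2700, 2800, 2808, 2880, 2904, 2940, 3024, 3080, 3120, 3168, 3240, 3360, 3432, 3528, 3600]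

/-- The check of one witness. -/
def check (n : ℕ) (w : ℕ × ℕ × ℕ × ℕ × ℕ) : Bool :=
  if w.1 < 5 then Ord6232.check n w else decide (n ∈ rest)

theorem cert0_ok : ∀ i < 100, check (1093 + i) (cert0.getD i (0, 0, 0, 0, 0)) = true := by
  decide +kernel

theorem cert1_ok : ∀ i < 100, check (1193 + i) (cert1.getD i (0, 0, 0, 0, 0)) = true := by
  decide +kernel

theorem cert2_ok : ∀ i < 100, check (1293 + i) (cert2.getD i (0, 0, 0, 0, 0)) = true := by
  decide +kernel

theorem cert3_ok : ∀ i < 100, check (1393 + i) (cert3.getD i (0, 0, 0, 0, 0)) = true := by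
  decide +kernel

theorem cert4_ok : ∀ i < 100, check (1493 + i) (cert4.getD i (0, 0, 0, 0, 0)) = true := by
  decide +kernel

theorem cert5_ok : ∀ i < 100, check (1593 + i) (cert5.getD i (0, 0, 0, 0, 0)) = true := by
  decide +kernel

theorem cert6_ok : ∀ i < 100, check (1693 + i) (cert6.getD i (0, 0, 0, 0, 0)) = true := by
  decide +kernel

theorem cert7_ok : ∀ i < 100, check (1793 + i) (cert7.getD i (0, 0, 0, 0, 0)) = true := by
  decide +kernel

theorem cert8_ok : ∀ i < 100, check (1893 + i) (cert8.getD i (0, 0, 0, 0, 0)) = true := by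
  decide +kernel

theorem cert9_ok : ∀ i < 100, check (1993 + i) (cert9.getD i (0, 0, 0, 0, 0)) = true := by
  decide +kernel

theorem cert10_ok : ∀ i < 100, check (2093 + i) (cert10.getD i (0, 0, 0, 0, 0)) = true := by
  decide +kernel

theorem cert11_ok : ∀ i < 100, check (2193 + i) (cert11.getD i (0, 0, 0, 0, 0)) = true := by
  decide +kernel

theorem cert12_ok : ∀ i < 100, check (2293 + i) (cert12.getD i (0, 0, 0, 0, 0)) = true := by
  decide +kernel

theorem cert13_ok : ∀ i < 100, check (2393 + i) (cert13.getD i (0, 0, 0, 0, 0)) = true := by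
  decide +kernel

theorem cert14_ok : ∀ i < 100, check (2493 + i) (cert14.getD i (0, 0, 0, 0, 0)) = true := by
  decide +kernel

theorem cert15_ok : ∀ i < 100, check (2593 + i) (cert15.getD i (0, 0, 0, 0, 0)) = true := by
  decide +kernel

theorem cert16_ok : ∀ i < 100, check (2693 + i) (cert16.getD i (0, 0, 0, 0, 0)) = true := by
  decide +kernel

theorem cert17_ok : ∀ i < 100, check (2793 + i) (cert17.getD i (0, 0, 0, 0, 0)) = true := by
  decide +kernel

theorem cert18_ok : ∀ i < 100, check (2893 + i) (cert18.getD i (0, 0, 0, 0, 0)) = true := by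
  decide +kernel

theorem cert19_ok : ∀ i < 100, check (2993 + i) (cert19.getD i (0, 0, 0, 0, 0)) = true := by
  decide +kernel

theorem cert20_ok : ∀ i < 100, check (3093 + i) (cert20.getD i (0, 0, 0, 0, 0)) = true := by
  decide +kernel

theorem cert21_ok : ∀ i < 100, check (3193 + i) (cert21.getD i (0, 0, 0, 0, 0)) = true := by
  decide +kernel

theorem cert22_ok : ∀ i < 100, check (3293 + i) (cert22.getD i (0, 0, 0, 0, 0)) = true := by
  decide +kernel

theorem cert23_ok : ∀ i < 100, check (3393 + i) (cert23.getD i (0, 0, 0, 0, 0)) = true := by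
  decide +kernel

theorem cert24_ok : ∀ i < 100, check (3493 + i) (cert24.getD i (0, 0, 0, 0, 0)) = true := by
  decide +kernel

theorem cert25_ok : ∀ i < 48, check (3593 + i) (cert25.getD i (0, 0, 0, 0, 0)) = true := by
  decide +kernel

theorem exists_witness {n : ℕ} (h1 : 1092 < n) (h2 : n ≤ 3640) : ∃ w, check n w = true := by
  by_cases c0 : n < 1193
  · exact ⟨_, (Nat.add_sub_cancel' (show 1093 ≤ n by omega)) ▸ cert0_ok (n - 1093) (by omega)⟩
  by_cases c1 : n < 1293
  · exact ⟨_, (Nat.add_sub_cancel' (show 1193 ≤ n by omega)) ▸ cert1_ok (n - 1193) (by omega)⟩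
  by_cases c2 : n < 1393
  · exact ⟨_, (Nat.add_sub_cancel' (show 1293 ≤ n by omega)) ▸ cert2_ok (n - 1293) (by omega)⟩
  by_cases c3 : n < 1493
  · exact ⟨_, (Nat.add_sub_cancel' (show 1393 ≤ n by omega)) ▸ cert3_ok (n - 1393) (by omega)⟩
  by_cases c4 : n < 1593
  · exact ⟨_, (Nat.add_sub_cancel' (show 1493 ≤ n by omega)) ▸ cert4_ok (n - 1493) (by omega)⟩
  by_cases c5 : n < 1693
  · exact ⟨_, (Nat.add_sub_cancel' (show 1593 ≤ n by omega)) ▸ cert5_ok (n - 1593) (by omega)⟩
  by_cases c6 : n < 1793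
  · exact ⟨_, (Nat.add_sub_cancel' (show 1693 ≤ n by omega)) ▸ cert6_ok (n - 1693) (by omega)⟩
  by_cases c7 : n < 1893
  · exact ⟨_, (Nat.add_sub_cancel' (show 1793 ≤ n by omega)) ▸ cert7_ok (n - 1793) (by omega)⟩
  by_cases c8 : n < 1993
  · exact ⟨_, (Nat.add_sub_cancel' (show 1893 ≤ n by omega)) ▸ cert8_ok (n - 1893) (by omega)⟩
  by_cases c9 : n < 2093
  · exact ⟨_, (Nat.add_sub_cancel' (show 1993 ≤ n by omega)) ▸ cert9_ok (n - 1993) (by omega)⟩
  by_cases c10 : n < 2193
  · exact ⟨_, (Nat.add_sub_cancel' (show 2093 ≤ n by omega)) ▸ cert10_ok (n - 2093) (by omega)⟩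
  by_cases c11 : n < 2293
  · exact ⟨_, (Nat.add_sub_cancel' (show 2193 ≤ n by omega)) ▸ cert11_ok (n - 2193) (by omega)⟩
  by_cases c12 : n < 2393
  · exact ⟨_, (Nat.add_sub_cancel' (show 2293 ≤ n by omega)) ▸ cert12_ok (n - 2293) (by omega)⟩
  by_cases c13 : n < 2493
  · exact ⟨_, (Nat.add_sub_cancel' (show 2393 ≤ n by omega)) ▸ cert13_ok (n - 2393) (by omega)⟩
  by_cases c14 : n < 2593
  · exact ⟨_, (Nat.add_sub_cancel' (show 2493 ≤ n by omega)) ▸ cert14_ok (n - 2493) (by omega)⟩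
  by_cases c15 : n < 2693
  · exact ⟨_, (Nat.add_sub_cancel' (show 2593 ≤ n by omega)) ▸ cert15_ok (n - 2593) (by omega)⟩
  by_cases c16 : n < 2793
  · exact ⟨_, (Nat.add_sub_cancel' (show 2693 ≤ n by omega)) ▸ cert16_ok (n - 2693) (by omega)⟩
  by_cases c17 : n < 2893
  · exact ⟨_, (Nat.add_sub_cancel' (show 2793 ≤ n by omega)) ▸ cert17_ok (n - 2793) (by omega)⟩
  by_cases c18 : n < 2993
  · exact ⟨_, (Nat.add_sub_cancel' (show 2893 ≤ n by omega)) ▸ cert18_ok (n - 2893) (by omega)⟩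
  by_cases c19 : n < 3093
  · exact ⟨_, (Nat.add_sub_cancel' (show 2993 ≤ n by omega)) ▸ cert19_ok (n - 2993) (by omega)⟩
  by_cases c20 : n < 3193
  · exact ⟨_, (Nat.add_sub_cancel' (show 3093 ≤ n by omega)) ▸ cert20_ok (n - 3093) (by omega)⟩
  by_cases c21 : n < 3293
  · exact ⟨_, (Nat.add_sub_cancel' (show 3193 ≤ n by omega)) ▸ cert21_ok (n - 3193) (by omega)⟩
  by_cases c22 : n < 3393
  · exact ⟨_, (Nat.add_sub_cancel' (show 3293 ≤ n by omega)) ▸ cert22_ok (n - 3293) (by omega)⟩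
  by_cases c23 : n < 3493
  · exact ⟨_, (Nat.add_sub_cancel' (show 3393 ≤ n by omega)) ▸ cert23_ok (n - 3393) (by omega)⟩
  by_cases c24 : n < 3593
  · exact ⟨_, (Nat.add_sub_cancel' (show 3493 ≤ n by omega)) ▸ cert24_ok (n - 3493) (by omega)⟩
  by_cases c25 : n < 3641
  · exact ⟨_, (Nat.add_sub_cancel' (show 3593 ≤ n by omega)) ▸ cert25_ok (n - 3593) (by omega)⟩
  omega

end Cfsg.Agent.Ord3640
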